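import Mathlib

set_option autoImplicit false

namespace Cfsg.Agent.Helper71

/-- For odd `n` there are integers `a`, `b` with `n ∣ a² + b² + 1` (via Dirichlet and Fermat). -/
theorem exists_sq_add_sq_add_one (n : ℕ) (hn : Odd n) : ∃ a b : ℤ, (n : ℤ) ∣ a ^ 2 + b ^ 2 + 1 := by
  obtain ⟨t, rfl⟩ := hn
  have hq : 4 * (2 * t + 1) ≠ 0 := by omega
  have hcop : IsCoprime ((4 * t + 1 : ℤ)) ((4 * (2 * t + 1) : ℕ) : ℤ) := by
    push_cast
    apply IsCoprime.mul_right
    · exact ⟨1, -t, by ring⟩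
    · exact ⟨-1, 2, by ring⟩
  obtain ⟨p, -, hp, hmod⟩ := Nat.forall_exists_prime_gt_and_zmodEq 0 hq hcop
  rw [Int.modEq_iff_dvd] at hmod
  obtain ⟨k, hk⟩ := hmod
  push_cast at hk
  have hpeq : (p : ℤ) = 4 * t + 1 - 4 * ((2 * t + 1) * k) := by linarith
  have hp4 : p % 4 ≠ 3 := by omega
  have := Fact.mk hp
  obtain ⟨a, b, hab⟩ := Nat.Prime.sq_add_sq hp4
  refine ⟨a, b, ⟨2 - 4 * k, ?_⟩⟩
  have h1 : ((a : ℤ) ^ 2 + (b : ℤ) ^ 2) = p := by exact_mod_cast hab
  rw [h1, hpeq]
  push_cast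
  ring

/-- A finite abelian group of odd order with a "quaternion action" (`X² = Y² = -1`, `XY = -YX`)
has square order. -/
theorem isSquare_card_of_quaternion_action {M : Type*} [AddCommGroup M] [Finite M]
    (X Y : M →+ M) (hX : ∀ m, X (X m) = -m) (hY : ∀ m, Y (Y m) = -m)
    (hXY : ∀ m, X (Y m) = -Y (X m)) (hodd : Odd (Nat.card M)) : IsSquare (Nat.card M) := by
  obtain ⟨a, b, hab⟩ := exists_sq_add_sq_add_one _ hodd
  have hc : ∀ m : M, (a ^ 2 + b ^ 2 + 1 : ℤ) • m = 0 := by
    intro m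
    obtain ⟨d, hd⟩ := hab
    rw [hd, mul_smul, natCast_zsmul]
    exact card_nsmul_eq_zero'
  let u : M →+ M := a • X + b • Y + X.comp Y
  let v : M →+ M := a • X + b • Y - X.comp Y
  have hu : ∀ m, u m = a • X m + b • Y m + X (Y m) := fun m => rfl
  have hv : ∀ m, v m = a • X m + b • Y m - X (Y m) := fun m => rfl
  have huu : ∀ m, u (u m) = 0 := by
    intro m
    have h := hc m
    simp only [hu, map_add, map_neg, map_zsmul, hX, hY, hXY, neg_neg, smul_neg, smul_add]
    linear_combination (norm := module) (-1 : ℤ) • h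
  have huv : ∀ m, u (v m) + v (u m) = (4 : ℤ) • m := by
    intro m
    have h := hc m
    simp only [hu, hv, map_add, map_sub, map_neg, map_zsmul, hX, hY, hXY, neg_neg, smul_neg,
      smul_add, smul_sub]
    linear_combination (norm := module) (-2 : ℤ) • h
  have hker : u.ker = u.range := by
    apply le_antisymm
    · intro m hm
      rw [AddMonoidHom.mem_ker] at hm
      have h4 := huv m
      rw [hm, map_zero, add_zero] at h4
      -- 4 is invertible modulo the odd number `Nat.card M`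
      obtain ⟨t, ht⟩ := hodd
      have hn : ((Nat.card M : ℕ) : ℤ) • m = 0 := by
        rw [natCast_zsmul]; exact card_nsmul_eq_zero'
      rw [ht] at hn
      push_cast at hn
      -- (2t+1)^2 = 4 (t^2+t) + 1
      have h1 : ((2 * (t : ℤ) + 1) * (2 * t + 1)) • m = 0 := by
        rw [mul_smul, hn, smul_zero]
      have h2 : m = u ((-((t : ℤ) ^ 2 + t)) • v m) := by
        rw [map_zsmul, h4]
        linear_combination (norm := module) (1 : ℤ) • h1
      rw [h2]
      exact ⟨_, rfl⟩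
    · rintro _ ⟨m, rfl⟩
      rw [AddMonoidHom.mem_ker]
      exact huu m
  have h1 := AddSubgroup.card_eq_card_quotient_mul_card_addSubgroup u.ker
  have h2 : Nat.card (M ⧸ u.ker) = Nat.card u.range :=
    Nat.card_congr (QuotientAddGroup.quotientKerEquivRange u).toEquiv
  rw [h2, ← hker] at h1
  exact ⟨_, h1⟩

end Cfsg.Agent.Helper71
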