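import Mathlib
import Cfsg.Prelude.Def_Solvable

set_option autoImplicit false

namespace Cfsg.Agent.Helper71

open Subgroup
open scoped Pointwise

variable {G : Type*} [Group G]

theorem mem_conj_smul_iff (H : Subgroup G) (g x : G) :
    x ∈ MulAut.conj g • H ↔ g⁻¹ * x * g ∈ H := by
  rw [Subgroup.mem_pointwise_smul_iff_inv_smul_mem]
  simp [MulAut.smul_def]

theorem conj_smul_stabilizer {Ω : Type*} [MulAction G Ω] (g : G) (a : Ω) :
    MulAut.conj g • MulAction.stabilizer G a = MulAction.stabilizer G (g • a) := by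
  ext x
  rw [mem_conj_smul_iff, MulAction.mem_stabilizer_iff, MulAction.mem_stabilizer_iff]
  rw [mul_smul, mul_smul, inv_smul_eq_iff]

/-- Unfolded form of the Frobenius complement condition. -/
theorem isFrobeniusComplement_iff (H : Subgroup G) :
    Cfsg.IsFrobeniusComplement H ↔
      H ≠ ⊥ ∧ H ≠ ⊤ ∧ ∀ g : G, g ∉ H → ∀ x ∈ H, g⁻¹ * x * g ∈ H → x = 1 := by
  unfold Cfsg.IsFrobeniusComplement
  refine and_congr Iff.rfl (and_congr Iff.rfl (forall_congr' fun g => imp_congr Iff.rfl ?_))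
  rw [eq_bot_iff]
  constructor
  · intro h x hx hgx
    have : x ∈ H ⊓ MulAut.conj g • H := ⟨hx, (mem_conj_smul_iff H g x).mpr hgx⟩
    exact (Subgroup.mem_bot).mp (h this)
  · intro h x hx
    exact (Subgroup.mem_bot).mpr (h x hx.1 ((mem_conj_smul_iff H g x).mp hx.2))

theorem mem_frobeniusKernel_iff (H : Subgroup G) (x : G) :
    x ∈ Cfsg.frobeniusKernel H ↔ x = 1 ∨ ∀ g : G, g⁻¹ * x * g ∉ H := by
  unfold Cfsg.frobeniusKernel
  simp only [Set.mem_ofPred_eq, mem_conj_smul_iff]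

end Cfsg.Agent.Helper71
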