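import Mathlib
import Cfsg.Prelude.Def_Solvable
import Cfsg.Agent.Helper71.Frob
import Cfsg.Agent.Helper75.FrobeniusKernel

set_option autoImplicit false

namespace Cfsg.Agent.Helper71

open Subgroup

variable {G : Type*} [Group G]

/-- An element of the complement commuting with a nonidentity kernel element is trivial. -/
theorem frob_eq_one_of_commute {H : Subgroup G} (hH : Cfsg.IsFrobeniusComplement H) {h k : G}
    (hh : h ∈ H) (hk : k ∈ Cfsg.frobeniusKernel H) (hk1 : k ≠ 1) (hcomm : h * k = k * h) :
    h = 1 := by
  obtain ⟨-, -, hF⟩ := (isFrobeniusComplement_iff H).mp hH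
  rw [mem_frobeniusKernel_iff] at hk
  rcases hk with hk | hk
  · exact absurd hk hk1
  · have hkH : k ∉ H := by
      have := hk 1
      simpa using this
    apply hF k hkH h hh
    have : k⁻¹ * h * k = h := by
      rw [mul_assoc, hcomm, ← mul_assoc, inv_mul_cancel, one_mul]
    rw [this]; exact hh

/-- The order of a Frobenius complement is coprime to the order of the kernel. -/
theorem frob_coprime [Finite G] {H N : Subgroup G} (hH : Cfsg.IsFrobeniusComplement H)
    [hNn : N.Normal] (hN : (N : Set G) = Cfsg.frobeniusKernel H) :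
    (Nat.card H).Coprime (Nat.card N) := by
  classical
  apply Nat.coprime_of_dvd
  intro p hp hpH hpN
  have : Fact p.Prime := ⟨hp⟩
  obtain ⟨h, hh⟩ := exists_prime_orderOf_dvd_card' p hpH
  -- the cyclic group generated by `h`
  let P : Subgroup G := Subgroup.zpowers (h : G)
  have hP : IsPGroup p P := by
    apply IsPGroup.of_card (n := 1)
    rw [pow_one, Nat.card_zpowers, Subgroup.orderOf_coe, hh]
  letI : MulAction P N := MulAction.compHom N ((MulAut.conjNormal (H := N)).comp P.subtype)
  have hsmul : ∀ (g : P) (k : N), ((g • k : N) : G) = (g : G) * k * (g : G)⁻¹ := by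
    intro g k
    rfl
  have key := hP.card_modEq_card_fixedPoints N
  have hfix : (MulAction.fixedPoints P N) = {1} := by
    ext k
    rw [MulAction.mem_fixedPoints, Set.mem_singleton_iff]
    constructor
    · intro hk
      by_contra hk1
      have h1 : (⟨(h : G), Subgroup.mem_zpowers _⟩ : P) • k = k := hk _
      have h2 : (h : G) * k * (h : G)⁻¹ = k := by
        have := congrArg Subtype.val h1
        rwa [hsmul] at this
      have h3 : (h : G) * k = k * h := by
        calc (h : G) * k = ((h : G) * k * (h : G)⁻¹) * h := by group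
          _ = k * h := by rw [h2]
      have hkK : (k : G) ∈ Cfsg.frobeniusKernel H := by
        rw [← hN]; exact k.2
      have hk1' : (k : G) ≠ 1 := fun e => hk1 (Subtype.ext e)
      have := frob_eq_one_of_commute hH h.2 hkK hk1' h3
      have h4 : orderOf (h : G) = 1 := by rw [this, orderOf_one]
      rw [Subgroup.orderOf_coe, hh] at h4
      exact hp.one_lt.ne' h4
    · rintro rfl g
      apply Subtype.ext
      rw [hsmul]
      simp
  rw [hfix] at key
  have hc : Nat.card ({1} : Set N) = 1 := by simp
  rw [hc] at key
  have h0 : Nat.card N ≡ 0 [MOD p] := (Nat.modEq_zero_iff_dvd).mpr hpN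
  have := h0.symm.trans key
  have h5 : p ∣ 1 := (Nat.modEq_zero_iff_dvd).mp this.symm
  exact hp.one_lt.ne' (Nat.dvd_one.mp h5)

/-- Frobenius' theorem packaged with coprimality and the cardinality of the kernel. -/
theorem frob_kernel_data [Finite G] {H : Subgroup G} (hH : Cfsg.IsFrobeniusComplement H) :
    ∃ N : Subgroup G, N.Normal ∧ (N : Set G) = Cfsg.frobeniusKernel H ∧
      Subgroup.IsComplement' N H ∧ (Nat.card H).Coprime (Nat.card N) ∧
      Nat.card (Cfsg.frobeniusKernel H) = Nat.card N := by
  obtain ⟨N, hN, hNn, hc⟩ := Helper75.frobenius_kernel_theorem H hH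
  refine ⟨N, hNn, hN, hc, ?_, ?_⟩
  · have := hNn
    exact frob_coprime hH hN
  · rw [← hN]; rfl

end Cfsg.Agent.Helper71
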