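import Mathlib

set_option autoImplicit false

namespace Cfsg.Agent.Helper71

theorem mul_geom_sum_eq {R : Type*} [Ring R] (T : R) (p : ℕ) (hT : T ^ p = 1) :
    T * (∑ k ∈ Finset.range p, T ^ k) = ∑ k ∈ Finset.range p, T ^ k := by
  have := mul_geom_sum T p
  rw [hT, sub_self, sub_mul, one_mul, sub_eq_zero] at this
  exact this

/-- The norm argument: two commuting endomorphisms of order dividing `p` of an abelian group,
all of whose "mixed" products are fixed-point-free, force `p • a = 0`. -/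
theorem nsmul_eq_zero_of_fpf_pair {A : Type*} [AddCommGroup A] (p : ℕ) (hp : 0 < p)
    (U V : AddMonoid.End A) (hUV : Commute U V) (hUp : U ^ p = 1) (hVp : V ^ p = 1)
    (hU : ∀ k, 0 < k → k < p → ∀ a : A, (U ^ k) a = a → a = 0)
    (hV : ∀ i, i < p → ∀ a : A, (U ^ i * V) a = a → a = 0) :
    ∀ a : A, p • a = 0 := by
  intro a
  have hsum : ∀ (b : A) (s : Finset ℕ) (f : ℕ → AddMonoid.End A),
      (∑ i ∈ s, f i) b = ∑ i ∈ s, (f i) b := by
    intro b s f
    let ev : AddMonoid.End A →+ A :=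
      { toFun := fun g => g b, map_zero' := rfl, map_add' := fun _ _ => rfl }
    exact map_sum ev f s
  have hadd : ∀ (b : A) (f g : AddMonoid.End A), (f + g) b = f b + g b := fun _ _ _ => rfl
  have hG : ∀ T : AddMonoid.End A, T ^ p = 1 → (∀ a : A, T a = a → a = 0) →
      ∀ a : A, (∑ k ∈ Finset.range p, T ^ k) a = 0 := by
    intro T hT hfpf a
    apply hfpf
    have h0 := mul_geom_sum_eq T p hT
    calc T ((∑ k ∈ Finset.range p, T ^ k) a) = (T * ∑ k ∈ Finset.range p, T ^ k) a := rfl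
      _ = _ := by rw [h0]
  have hid : ∑ i ∈ Finset.range p, ∑ k ∈ Finset.range p, (U ^ i * V) ^ k =
      ∑ k ∈ Finset.range p, (∑ i ∈ Finset.range p, (U ^ k) ^ i) * V ^ k := by
    rw [Finset.sum_comm]
    apply Finset.sum_congr rfl
    intro k _
    rw [Finset.sum_mul]
    apply Finset.sum_congr rfl
    intro i _
    rw [(hUV.pow_left i).mul_pow, pow_right_comm]
  have h1 : (∑ i ∈ Finset.range p, ∑ k ∈ Finset.range p, (U ^ i * V) ^ k) a =
      (∑ k ∈ Finset.range p, (∑ i ∈ Finset.range p, (U ^ k) ^ i) * V ^ k) a := by rw [hid]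
  have hL : (∑ i ∈ Finset.range p, ∑ k ∈ Finset.range p, (U ^ i * V) ^ k) a = 0 := by
    rw [hsum]
    apply Finset.sum_eq_zero
    intro i hi
    apply hG (U ^ i * V)
    · rw [(hUV.pow_left i).mul_pow, ← pow_mul, mul_comm, pow_mul, hUp, one_pow, hVp, one_mul]
    · exact hV i (Finset.mem_range.mp hi)
  have hR : (∑ k ∈ Finset.range p, (∑ i ∈ Finset.range p, (U ^ k) ^ i) * V ^ k) a = p • a := by
    obtain ⟨p', rfl⟩ : ∃ p', p = p' + 1 := ⟨p - 1, by omega⟩
    rw [Finset.sum_range_succ', hadd, hsum]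
    rw [Finset.sum_eq_zero, zero_add]
    · simp only [pow_zero, one_pow, mul_one, Finset.sum_const, Finset.card_range]
      rfl
    · intro k hk
      show (∑ i ∈ Finset.range (p' + 1), (U ^ (k + 1)) ^ i) ((V ^ (k + 1)) a) = 0
      apply hG (U ^ (k + 1))
      · rw [← pow_mul, mul_comm, pow_mul, hUp, one_pow]
      · exact hU (k + 1) (by omega) (by have := Finset.mem_range.mp hk; omega)
  rw [hL, hR] at h1
  exact h1.symm

/-- sum of powers of a fixed-point-free endomorphism of finite order kills everything -/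
theorem geom_sum_apply_eq_zero {A : Type*} [AddCommGroup A] (T : AddMonoid.End A) (n : ℕ)
    (hT : T ^ n = 1) (hfpf : ∀ a : A, T a = a → a = 0) (a : A) :
    (∑ k ∈ Finset.range n, T ^ k) a = 0 := by
  apply hfpf
  have h0 := mul_geom_sum_eq T n hT
  calc T ((∑ k ∈ Finset.range n, T ^ k) a) = (T * ∑ k ∈ Finset.range n, T ^ k) a := rfl
    _ = _ := by rw [h0]

theorem end_sum_apply {A : Type*} [AddCommGroup A] (b : A) (s : Finset ℕ)
    (f : ℕ → AddMonoid.End A) : (∑ i ∈ s, f i) b = ∑ i ∈ s, (f i) b := by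
  let ev : AddMonoid.End A →+ A :=
    { toFun := fun g => g b, map_zero' := rfl, map_add' := fun _ _ => rfl }
  exact map_sum ev f s

/-- The norm argument for a metacyclic pair: `s` of order `q` normalizing `⟨y⟩` without
centralizing it, acting fixed-point-freely, forces `m • v = 0` where `y ^ m = 1`. -/
theorem nsmul_eq_zero_of_fpf_metacyclic {Γ A : Type*} [Group Γ] [AddCommGroup A]
    (φ : Γ →* AddMonoid.End A) (hfpf : ∀ g : Γ, g ≠ 1 → ∀ v : A, φ g v = v → v = 0)
    (y s : Γ) (m q : ℕ) (hq : 0 < q) (hym : y ^ m = 1) (hsq : s ^ q = 1) (hs1 : s ≠ 1)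
    (hcomm : ∀ j, Commute y (s ^ j * y⁻¹ * (s ^ j)⁻¹))
    (hne : ∀ j, 0 < j → j < q → y * (s ^ j * y⁻¹ * (s ^ j)⁻¹) ≠ 1) :
    ∀ v : A, m • v = 0 := by
  intro v
  have key : ∀ i j : ℕ, φ (y ^ i * s ^ j * (y ^ i)⁻¹) =
      φ (y * (s ^ j * y⁻¹ * (s ^ j)⁻¹)) ^ i * φ s ^ j := by
    intro i j
    rw [← map_pow, ← map_pow, ← map_mul]
    congr 1
    rw [(hcomm j).mul_pow, conj_pow, inv_pow]
    group
  have hcm : ∀ j : ℕ, (y * (s ^ j * y⁻¹ * (s ^ j)⁻¹)) ^ m = 1 := by
    intro j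
    rw [(hcomm j).mul_pow, conj_pow, inv_pow, hym]
    group
  -- the double sum, computed in two ways
  have hA : (∑ i ∈ Finset.range m, ∑ j ∈ Finset.range q, φ (y ^ i * s ^ j * (y ^ i)⁻¹)) v = 0 := by
    rw [end_sum_apply]
    apply Finset.sum_eq_zero
    intro i _
    have h1 : ∑ j ∈ Finset.range q, φ (y ^ i * s ^ j * (y ^ i)⁻¹) =
        φ (y ^ i) * (∑ j ∈ Finset.range q, φ s ^ j) * φ ((y ^ i)⁻¹) := by
      rw [Finset.mul_sum, Finset.sum_mul]
      apply Finset.sum_congr rfl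
      intro j _
      rw [map_mul, map_mul, map_pow φ s j]
    rw [h1]
    show φ (y ^ i) ((∑ j ∈ Finset.range q, φ s ^ j) (φ ((y ^ i)⁻¹) v)) = 0
    rw [geom_sum_apply_eq_zero (φ s) q (by rw [← map_pow, hsq, map_one]) (hfpf s hs1), map_zero]
  have hB : (∑ i ∈ Finset.range m, ∑ j ∈ Finset.range q, φ (y ^ i * s ^ j * (y ^ i)⁻¹)) v
      = m • v := by
    rw [Finset.sum_comm]
    obtain ⟨q', rfl⟩ : ∃ q', q = q' + 1 := ⟨q - 1, by omega⟩
    rw [Finset.sum_range_succ']
    show (∑ j ∈ Finset.range q', ∑ i ∈ Finset.range m, φ (y ^ i * s ^ (j + 1) * (y ^ i)⁻¹)) v +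
      (∑ i ∈ Finset.range m, φ (y ^ i * s ^ 0 * (y ^ i)⁻¹)) v = m • v
    rw [end_sum_apply, Finset.sum_eq_zero, zero_add]
    · have h0 : ∀ i : ℕ, φ (y ^ i * s ^ 0 * (y ^ i)⁻¹) = 1 := by
        intro i
        rw [pow_zero, mul_one, mul_inv_cancel, map_one]
      simp only [h0, Finset.sum_const, Finset.card_range]
      rfl
    · intro j hj
      have h1 : ∑ i ∈ Finset.range m, φ (y ^ i * s ^ (j + 1) * (y ^ i)⁻¹) =
          (∑ i ∈ Finset.range m, φ (y * (s ^ (j + 1) * y⁻¹ * (s ^ (j + 1))⁻¹)) ^ i) *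
            φ s ^ (j + 1) := by
        rw [Finset.sum_mul]
        apply Finset.sum_congr rfl
        intro i _
        exact key i (j + 1)
      rw [h1]
      show (∑ i ∈ Finset.range m, φ (y * (s ^ (j + 1) * y⁻¹ * (s ^ (j + 1))⁻¹)) ^ i)
        ((φ s ^ (j + 1)) v) = 0
      apply geom_sum_apply_eq_zero
      · rw [← map_pow, hcm, map_one]
      · exact hfpf _ (hne (j + 1) (by omega) (by have := Finset.mem_range.mp hj; omega))
  rw [hA] at hB
  exact hB.symm

end Cfsg.Agent.Helper71
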