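import Mathlib
import Cfsg.Prelude.Def_Solvable
import Cfsg.Agent.Helper71.FrobCoprime
import Cfsg.Agent.Helper71.NormArg

set_option autoImplicit false

namespace Cfsg.Agent.Helper71

open scoped Pointwise

/-- Multiplicative form of the norm argument. -/
theorem pow_eq_one_of_fpf_pair_mul {A : Type*} [CommGroup A] (p : ℕ) (hp : 0 < p)
    (U V : A →* A) (hUV : ∀ a, U (V a) = V (U a)) (hUp : ∀ a, U^[p] a = a)
    (hVp : ∀ a, V^[p] a = a)
    (hU : ∀ k, 0 < k → k < p → ∀ a, U^[k] a = a → a = 1)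
    (hV : ∀ i, i < p → ∀ a, U^[i] (V a) = a → a = 1) : ∀ a : A, a ^ p = 1 := by
  let U' : AddMonoid.End (Additive A) := MonoidHom.toAdditive U
  let V' : AddMonoid.End (Additive A) := MonoidHom.toAdditive V
  have hpow : ∀ (T : AddMonoid.End (Additive A)) (k : ℕ) (a : Additive A),
      (T ^ k) a = (⇑T)^[k] a := by
    intro T k a
    rw [AddMonoid.End.coe_pow]
  have key := nsmul_eq_zero_of_fpf_pair (A := Additive A) p hp U' V' ?_ ?_ ?_ ?_ ?_
  · intro a
    exact key (Additive.ofMul a)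
  · show U' * V' = V' * U'
    apply AddMonoidHom.ext
    intro a
    exact hUV (Additive.toMul a)
  · apply AddMonoidHom.ext
    intro a
    exact (hpow U' p a).trans (hUp (Additive.toMul a))
  · apply AddMonoidHom.ext
    intro a
    exact (hpow V' p a).trans (hVp (Additive.toMul a))
  · intro k hk0 hkp a ha
    exact hU k hk0 hkp (Additive.toMul a) ((hpow U' k a).symm.trans ha)
  · intro i hi a ha
    have h0 : (U' ^ i * V') a = (U' ^ i) (V' a) := rfl
    exact hV i hi (Additive.toMul a) ((hpow U' i (V' a)).symm.trans (h0.symm.trans ha))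

/-- Version for a group with a commutativity hypothesis. -/
theorem pow_eq_one_of_fpf_pair_grp {A : Type*} [Group A] (hcomm : ∀ a b : A, a * b = b * a)
    (p : ℕ) (hp : 0 < p)
    (U V : A →* A) (hUV : ∀ a, U (V a) = V (U a)) (hUp : ∀ a, U^[p] a = a)
    (hVp : ∀ a, V^[p] a = a)
    (hU : ∀ k, 0 < k → k < p → ∀ a, U^[k] a = a → a = 1)
    (hV : ∀ i, i < p → ∀ a, U^[i] (V a) = a → a = 1) : ∀ a : A, a ^ p = 1 := by
  letI : CommGroup A := { (inferInstance : Group A) with mul_comm := hcomm }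
  exact pow_eq_one_of_fpf_pair_mul p hp U V hUV hUp hVp hU hV

section conj

variable {L : Type*} [Group L]

/-- Conjugation by `e` restricted to a subgroup it maps into itself. -/
def conjHom (A : Subgroup L) (e : L) (he : ∀ n ∈ A, e * n * e⁻¹ ∈ A) : A →* A where
  toFun n := ⟨e * n * e⁻¹, he n n.2⟩
  map_one' := by apply Subtype.ext; simp
  map_mul' x y := by apply Subtype.ext; simp

theorem conjHom_iterate (A : Subgroup L) (e : L) (he : ∀ n ∈ A, e * n * e⁻¹ ∈ A) (k : ℕ)
    (n : A) : (((conjHom A e he)^[k] n : A) : L) = e ^ k * n * (e ^ k)⁻¹ := by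
  induction k with
  | zero => simp
  | succ k ih =>
    rw [Function.iterate_succ_apply']
    show e * (((conjHom A e he)^[k] n : A) : L) * e⁻¹ = _
    rw [ih]
    group

/-- The norm argument for an abelian subgroup normalized by two commuting elements. -/
theorem pow_eq_one_of_fpf_pair_subgroup (A : Subgroup L) (hA : ∀ x y : A, x * y = y * x)
    (p : ℕ) (hp : 0 < p) (u v : L) (hu : ∀ n ∈ A, u * n * u⁻¹ ∈ A)
    (hv : ∀ n ∈ A, v * n * v⁻¹ ∈ A) (hcomm : u * v = v * u) (hup : u ^ p = 1) (hvp : v ^ p = 1)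
    (hU : ∀ k, 0 < k → k < p → ∀ n ∈ A, u ^ k * n = n * u ^ k → n = 1)
    (hV : ∀ i, i < p → ∀ n ∈ A, (u ^ i * v) * n = n * (u ^ i * v) → n = 1) :
    ∀ n ∈ A, n ^ p = 1 := by
  have key := pow_eq_one_of_fpf_pair_grp hA p hp (conjHom A u hu) (conjHom A v hv) ?_ ?_ ?_ ?_ ?_
  · intro n hn
    have := key ⟨n, hn⟩
    exact congrArg Subtype.val this
  · intro a
    apply Subtype.ext
    show u * (v * (a : L) * v⁻¹) * u⁻¹ = v * (u * (a : L) * u⁻¹) * v⁻¹
    have e1 : u * (v * (a : L) * v⁻¹) * u⁻¹ = (u * v) * a * (u * v)⁻¹ := by group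
    have e2 : v * (u * (a : L) * u⁻¹) * v⁻¹ = (v * u) * a * (v * u)⁻¹ := by group
    rw [e1, e2, hcomm]
  · intro a
    apply Subtype.ext
    rw [conjHom_iterate, hup]
    simp
  · intro a
    apply Subtype.ext
    rw [conjHom_iterate, hvp]
    simp
  · intro k hk0 hkp a ha
    have h1 := congrArg Subtype.val ha
    rw [conjHom_iterate] at h1
    have h2 : u ^ k * (a : L) = a * u ^ k := by
      calc u ^ k * (a : L) = (u ^ k * a * (u ^ k)⁻¹) * u ^ k := by group
        _ = a * u ^ k := by rw [h1]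
    exact Subtype.ext (hU k hk0 hkp a a.2 h2)
  · intro i hi a ha
    have h1 := congrArg Subtype.val ha
    rw [conjHom_iterate] at h1
    have h0 : ((conjHom A v hv a : A) : L) = v * a * v⁻¹ := rfl
    rw [h0] at h1
    have h2 : (u ^ i * v) * (a : L) = a * (u ^ i * v) := by
      calc (u ^ i * v) * (a : L) = (u ^ i * (v * a * v⁻¹) * (u ^ i)⁻¹) * (u ^ i * v) := by group
        _ = a * (u ^ i * v) := by rw [h1]
    exact Subtype.ext (hV i hi a a.2 h2)

end conj

/-- Multiplicative form of the metacyclic norm argument. -/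
theorem pow_eq_one_of_fpf_metacyclic_mul {Γ A : Type*} [Group Γ] [CommGroup A]
    (act : Γ → A →* A) (act_one : ∀ a, act 1 a = a)
    (act_mul : ∀ g h a, act (g * h) a = act g (act h a))
    (hfpf : ∀ g : Γ, g ≠ 1 → ∀ a, act g a = a → a = 1) (y s : Γ) (m q : ℕ) (hq : 0 < q)
    (hym : y ^ m = 1) (hsq : s ^ q = 1) (hs1 : s ≠ 1)
    (hcomm : ∀ j, Commute y (s ^ j * y⁻¹ * (s ^ j)⁻¹))
    (hne : ∀ j, 0 < j → j < q → y * (s ^ j * y⁻¹ * (s ^ j)⁻¹) ≠ 1) : ∀ a : A, a ^ m = 1 := by
  let φ : Γ →* AddMonoid.End (Additive A) :=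
    { toFun := fun g => MonoidHom.toAdditive (act g)
      map_one' := by
        apply AddMonoidHom.ext
        intro v
        exact act_one (Additive.toMul v)
      map_mul' := by
        intro g h
        apply AddMonoidHom.ext
        intro v
        exact act_mul g h (Additive.toMul v) }
  have key := nsmul_eq_zero_of_fpf_metacyclic φ
    (fun g hg v hv => hfpf g hg (Additive.toMul v) hv) y s m q hq hym hsq hs1 hcomm hne
  intro a
  exact key (Additive.ofMul a)

/-- Version for a group with a commutativity hypothesis. -/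
theorem pow_eq_one_of_fpf_metacyclic_grp {Γ A : Type*} [Group Γ] [Group A]
    (hA : ∀ a b : A, a * b = b * a)
    (act : Γ → A →* A) (act_one : ∀ a, act 1 a = a)
    (act_mul : ∀ g h a, act (g * h) a = act g (act h a))
    (hfpf : ∀ g : Γ, g ≠ 1 → ∀ a, act g a = a → a = 1) (y s : Γ) (m q : ℕ) (hq : 0 < q)
    (hym : y ^ m = 1) (hsq : s ^ q = 1) (hs1 : s ≠ 1)
    (hcomm : ∀ j, Commute y (s ^ j * y⁻¹ * (s ^ j)⁻¹))
    (hne : ∀ j, 0 < j → j < q → y * (s ^ j * y⁻¹ * (s ^ j)⁻¹) ≠ 1) : ∀ a : A, a ^ m = 1 := by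
  letI : CommGroup A := { (inferInstance : Group A) with mul_comm := hA }
  exact pow_eq_one_of_fpf_metacyclic_mul act act_one act_mul hfpf y s m q hq hym hsq hs1 hcomm hne

/-- The metacyclic norm argument for an abelian subgroup `A` normalized by a subgroup `H`
acting fixed-point-freely on it. -/
theorem pow_eq_one_of_fpf_metacyclic_subgroup {L : Type*} [Group L] (A H : Subgroup L)
    (hA : ∀ x y : A, x * y = y * x) (hHA : ∀ h ∈ H, ∀ n ∈ A, h * n * h⁻¹ ∈ A)
    (hfpf : ∀ h ∈ H, h ≠ 1 → ∀ n ∈ A, h * n = n * h → n = 1)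
    (y s : L) (hy : y ∈ H) (hs : s ∈ H) (m q : ℕ) (hq : 0 < q) (hym : y ^ m = 1)
    (hsq : s ^ q = 1) (hs1 : s ≠ 1)
    (hcomm : ∀ j, Commute y (s ^ j * y⁻¹ * (s ^ j)⁻¹))
    (hne : ∀ j, 0 < j → j < q → y * (s ^ j * y⁻¹ * (s ^ j)⁻¹) ≠ 1) : ∀ n ∈ A, n ^ m = 1 := by
  have key := pow_eq_one_of_fpf_metacyclic_grp (Γ := H) (A := A) hA
    (fun h => conjHom A (h : L) (hHA h h.2)) ?_ ?_ ?_ ⟨y, hy⟩ ⟨s, hs⟩ m q hq ?_ ?_ ?_ ?_ ?_
  · intro n hn
    exact congrArg Subtype.val (key ⟨n, hn⟩)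
  · intro a
    apply Subtype.ext
    show (1 : L) * a * (1 : L)⁻¹ = a
    simp
  · intro g h a
    apply Subtype.ext
    show ((g : L) * (h : L)) * a * ((g : L) * (h : L))⁻¹ = (g : L) * ((h : L) * a * (h : L)⁻¹) * (g : L)⁻¹
    group
  · intro g hg a ha
    have h1 : (g : L) * a * (g : L)⁻¹ = a := congrArg Subtype.val ha
    have h2 : (g : L) * a = a * g := by
      calc (g : L) * a = ((g : L) * a * (g : L)⁻¹) * g := by group
        _ = a * g := by rw [h1]
    have hg1 : (g : L) ≠ 1 := fun h => hg (Subtype.ext h)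
    exact Subtype.ext (hfpf g g.2 hg1 a a.2 h2)
  · apply Subtype.ext
    simpa using hym
  · apply Subtype.ext
    simpa using hsq
  · intro h
    exact hs1 (congrArg Subtype.val h)
  · intro j
    have := hcomm j
    apply Subtype.ext
    simpa using this.eq
  · intro j hj0 hjq h
    apply hne j hj0 hjq
    have := congrArg Subtype.val h
    simpa using this

/-- In a Frobenius complement, two commuting elements of order dividing `p` (the first one
nontrivial) generate a cyclic group: the second is a power of the first. -/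
theorem frob_mem_zpowers_of_commute {L : Type*} [Group L] [Finite L] {H : Subgroup L}
    (hH : Cfsg.IsFrobeniusComplement H) {p : ℕ} [hp : Fact p.Prime] {u v : L} (hu : u ∈ H)
    (hv : v ∈ H) (hu1 : u ≠ 1) (hup : u ^ p = 1) (hvp : v ^ p = 1) (hcomm : u * v = v * u) :
    v ∈ Subgroup.zpowers u := by
  classical
  by_contra hvu
  obtain ⟨N, hNn, hN, hcompl, hcop, -⟩ := frob_kernel_data hH
  have := hNn
  obtain ⟨-, hHtop, -⟩ := (isFrobeniusComplement_iff H).mp hH
  have hordu : orderOf u = p := orderOf_eq_prime hup hu1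
  have hpH : p ∣ Nat.card H := by
    have h3 : orderOf (⟨u, hu⟩ : H) = p := by
      rw [← hordu]; exact Subgroup.orderOf_mk u hu
    rw [← h3]; exact orderOf_dvd_natCard _
  have hpN : ¬ p ∣ Nat.card N := by
    intro h
    have h1 := Nat.dvd_gcd hpH h
    rw [hcop] at h1
    exact hp.out.not_dvd_one h1
  have hNbot : N ≠ ⊥ := by
    intro h
    apply hHtop
    rw [← Subgroup.isComplement'_bot_left, ← h]; exact hcompl
  have hNcard : Nat.card N ≠ 1 := fun h => hNbot (Subgroup.card_eq_one.mp h)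
  obtain ⟨q, hq, hqN⟩ := Nat.exists_prime_and_dvd hNcard
  have hqf : Fact q.Prime := ⟨hq⟩
  have hqp : q ≠ p := by rintro rfl; exact hpN hqN
  have hcommC : Commute u v := hcomm
  -- the p-group E generated by u and v
  let E : Subgroup L := Subgroup.zpowers u ⊔ Subgroup.zpowers v
  have hPz : ∀ w : L, w ^ p = 1 → IsPGroup p (Subgroup.zpowers w) := by
    intro w hw g
    refine ⟨1, ?_⟩
    obtain ⟨g, hg⟩ := g
    obtain ⟨i, rfl⟩ := Subgroup.mem_zpowers_iff.mp hg
    apply Subtype.ext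
    simp only [pow_one, Subgroup.coe_pow, Subgroup.coe_one]
    rw [← zpow_natCast, ← zpow_mul, mul_comm, zpow_mul, zpow_natCast, hw, one_zpow]
  have hEp : IsPGroup p E := by
    apply IsPGroup.to_sup_of_normal_right' (hPz u hup) (hPz v hvp)
    rw [Subgroup.zpowers_le, Subgroup.mem_normalizer_iff]
    have hc : ∀ n ∈ Subgroup.zpowers v, u * n * u⁻¹ = n := by
      intro n hn
      obtain ⟨i, rfl⟩ := Subgroup.mem_zpowers_iff.mp hn
      have h1 : Commute u (v ^ i) := hcommC.zpow_right i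
      rw [h1.eq, mul_inv_cancel_right]
    intro n
    constructor
    · intro hn; rw [hc n hn]; exact hn
    · intro hn
      have h1 := hc _ hn
      have h2 : u * n * u⁻¹ = n := by
        have h3 : u⁻¹ * (u * (u * n * u⁻¹) * u⁻¹) * u = u⁻¹ * (u * n * u⁻¹) * u := by rw [h1]
        have e1 : u⁻¹ * (u * (u * n * u⁻¹) * u⁻¹) * u = u * n * u⁻¹ := by group
        have e2 : u⁻¹ * (u * n * u⁻¹) * u = n := by group
        rw [e1, e2] at h3
        exact h3
      rw [← h2]; exact hn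
  have huE : u ∈ E := (le_sup_left : Subgroup.zpowers u ≤ E) (Subgroup.mem_zpowers u)
  have hvE : v ∈ E := (le_sup_right : Subgroup.zpowers v ≤ E) (Subgroup.mem_zpowers v)
  -- E acts on the Sylow q-subgroups of N
  letI : MulDistribMulAction E N :=
    MulDistribMulAction.compHom N ((MulAut.conjNormal (H := N)).comp E.subtype)
  have hsmul : ∀ (e : E) (n : N), ((e • n : N) : L) = (e : L) * n * (e : L)⁻¹ := fun e n => rfl
  have hcardSyl : ¬ p ∣ Nat.card (Sylow q N) := by
    intro h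
    apply hpN
    have Q₀ : Sylow q N := default
    exact h.trans ((Sylow.card_dvd_index Q₀).trans (Subgroup.index_dvd_card _))
  obtain ⟨Q, hQ⟩ := hEp.nonempty_fixed_point_of_prime_not_dvd_card (Sylow q N) hcardSyl
  rw [MulAction.mem_fixedPoints] at hQ
  let QL : Subgroup L := (Q : Subgroup N).map N.subtype
  have hQL_N : ∀ n ∈ QL, n ∈ N := by
    rintro _ ⟨n, -, rfl⟩
    exact n.2
  have hEQ : ∀ e ∈ E, ∀ n ∈ QL, e * n * e⁻¹ ∈ QL := by
    rintro e he _ ⟨n, hn, rfl⟩
    have h1 : (⟨e, he⟩ : E) • n ∈ ((⟨e, he⟩ : E) • (Q : Subgroup N)) :=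
      Subgroup.smul_mem_pointwise_smul n _ _ hn
    have h2 : ((⟨e, he⟩ : E) • Q : Sylow q N) = Q := hQ _
    rw [← Sylow.pointwise_smul_def, h2] at h1
    exact ⟨_, h1, hsmul _ _⟩
  -- the centre of QL
  let A : Subgroup L := QL ⊓ Subgroup.centralizer (QL : Set L)
  have hAcomm : ∀ x y : A, x * y = y * x := by
    intro x y
    apply Subtype.ext
    have := (Subgroup.mem_centralizer_iff.mp x.2.2) y y.2.1
    exact this.symm
  have hEA : ∀ e ∈ E, ∀ n ∈ A, e * n * e⁻¹ ∈ A := by
    intro e he n hn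
    refine Subgroup.mem_inf.mpr ⟨hEQ e he n hn.1, ?_⟩
    rw [Subgroup.mem_centralizer_iff]
    intro g hg
    have hg' : e⁻¹ * g * e ∈ QL := by
      have := hEQ e⁻¹ (E.inv_mem he) g hg
      simpa using this
    have h1 := (Subgroup.mem_centralizer_iff.mp hn.2) _ hg'
    calc g * (e * n * e⁻¹) = e * ((e⁻¹ * g * e) * n) * e⁻¹ := by group
      _ = e * (n * (e⁻¹ * g * e)) * e⁻¹ := by rw [h1]
      _ = e * n * e⁻¹ * g := by group
  -- A is nontrivial
  have hQLp : IsPGroup q QL := Q.isPGroup'.map N.subtype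
  have hQLne : Nontrivial QL := by
    have hQbot : (Q : Subgroup N) ≠ ⊥ := Q.ne_bot_of_dvd_card hqN
    obtain ⟨x, hx1⟩ := (Subgroup.ne_bot_iff_exists_ne_one).mp hQbot
    refine ⟨⟨⟨((x : N) : L), ⟨(x : N), x.2, rfl⟩⟩, 1, ?_⟩⟩
    intro h
    apply hx1
    have h2 : ((x : N) : L) = 1 := congrArg Subtype.val h
    apply Subtype.ext
    apply Subtype.ext
    exact h2
  have hcenter := hQLp.center_nontrivial
  obtain ⟨z, hz1⟩ := exists_ne (1 : Subgroup.center QL)
  have hn₀A : ((z : QL) : L) ∈ A := by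
    refine Subgroup.mem_inf.mpr ⟨(z : QL).2, ?_⟩
    rw [Subgroup.mem_centralizer_iff]
    intro g hg
    have := Subgroup.mem_center_iff.mp z.2 ⟨g, hg⟩
    exact congrArg Subtype.val this
  have hn₀1 : ((z : QL) : L) ≠ 1 := by
    intro h
    apply hz1
    apply Subtype.ext
    apply Subtype.ext
    exact h
  have hkernel : ∀ n ∈ A, n ∈ Cfsg.frobeniusKernel H := by
    intro n hn
    rw [← hN]
    exact hQL_N n (Subgroup.mem_inf.mp hn).1
  have key := pow_eq_one_of_fpf_pair_subgroup A hAcomm p hp.out.pos u v (hEA u huE) (hEA v hvE)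
    hcomm hup hvp ?_ ?_
  · have h1 := key _ hn₀A
    obtain ⟨j, hj⟩ := hQLp (z : QL)
    have hj' : ((z : QL) : L) ^ q ^ j = 1 := by
      have := congrArg Subtype.val hj
      simpa using this
    have hd1 : orderOf ((z : QL) : L) ∣ p := orderOf_dvd_of_pow_eq_one h1
    have hd2 : orderOf ((z : QL) : L) ∣ q ^ j := orderOf_dvd_of_pow_eq_one hj'
    have hc : Nat.Coprime p (q ^ j) :=
      Nat.Coprime.pow_right j ((Nat.coprime_primes hp.out hq).mpr hqp.symm)
    have h3 : orderOf ((z : QL) : L) ∣ Nat.gcd p (q ^ j) := Nat.dvd_gcd hd1 hd2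
    rw [hc, Nat.dvd_one, orderOf_eq_one_iff] at h3
    exact hn₀1 h3
  · intro k hk0 hkp n hn hnc
    by_contra hn1
    have h1 := frob_eq_one_of_commute hH (H.pow_mem hu k) (hkernel n hn) hn1 hnc
    have h2 := orderOf_dvd_of_pow_eq_one h1
    rw [hordu] at h2
    have := Nat.le_of_dvd hk0 h2
    omega
  · intro i hi n hn hnc
    by_contra hn1
    have h1 := frob_eq_one_of_commute hH (H.mul_mem (H.pow_mem hu i) hv) (hkernel n hn) hn1 hnc
    apply hvu
    have h2 : v = (u ^ i)⁻¹ := eq_inv_of_mul_eq_one_right h1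
    rw [h2]
    exact Subgroup.inv_mem _ (Subgroup.pow_mem _ (Subgroup.mem_zpowers u) i)

end Cfsg.Agent.Helper71
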