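import Mathlib
import Cfsg.Prelude.Def_Solvable

set_option autoImplicit false

namespace Cfsg.Agent.Helper71

open Subgroup

/-- In a finite nilpotent group, `x ^ [F : K] ∈ K` for every subgroup `K`. -/
theorem pow_index_mem_of_isNilpotent {F : Type*} [Group F] [Finite F] [Group.IsNilpotent F]
    (K : Subgroup F) (x : F) : x ^ K.index ∈ K := by
  suffices h : ∀ (n : ℕ) (K : Subgroup F), K.index = n → ∀ x : F, x ^ K.index ∈ K from
    h _ K rfl x
  intro n
  induction n using Nat.strong_induction_on with
  | _ n ih =>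
    intro K hK x
    by_cases hKtop : K = ⊤
    · subst hKtop; simp
    · have hlt : K < ⊤ := lt_top_iff_ne_top.mpr hKtop
      have hnc := Group.normalizerCondition_of_isNilpotent (G := F) K hlt
      have hle : K ≤ normalizer (K : Set F) := le_normalizer
      have hidx : (normalizer (K : Set F)).index < n := hK ▸ index_strictAnti hnc
      have h1 : x ^ (normalizer (K : Set F)).index ∈ normalizer (K : Set F) :=
        ih _ hidx _ rfl x
      have : (K.subgroupOf (normalizer (K : Set F))).Normal := normal_in_normalizer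
      have h2 := pow_index_mem (K.subgroupOf (normalizer (K : Set F)))
        ⟨x ^ (normalizer (K : Set F)).index, h1⟩
      rw [mem_subgroupOf] at h2
      have h3 : K.relIndex (normalizer (K : Set F)) * (normalizer (K : Set F)).index = K.index :=
        relIndex_mul_index hle
      rw [← h3, mul_comm, pow_mul]
      simpa [relIndex] using h2

/-- `[HF : H] = [F : H ∩ F]` for finite groups, `F` normal. -/
theorem relIndex_sup_eq_relIndex {G : Type*} [Group G] [Finite G] (H F : Subgroup G) [F.Normal] :
    H.relIndex (H ⊔ F) = H.relIndex F := by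
  have ha : F.relIndex (H ⊔ F) = F.relIndex H := relIndex_sup_right H F
  have h1 : Nat.card F * F.relIndex (H ⊔ F) = Nat.card (H ⊔ F : Subgroup G) := by
    rw [← relIndex_bot_left, ← relIndex_bot_left]
    exact relIndex_mul_relIndex _ _ _ bot_le le_sup_right
  have h2 : Nat.card H * H.relIndex (H ⊔ F) = Nat.card (H ⊔ F : Subgroup G) := by
    rw [← relIndex_bot_left, ← relIndex_bot_left]
    exact relIndex_mul_relIndex _ _ _ bot_le le_sup_left
  have h3 : Nat.card (H ⊓ F : Subgroup G) * F.relIndex H = Nat.card H := by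
    rw [← inf_relIndex_left, ← relIndex_bot_left, ← relIndex_bot_left]
    exact relIndex_mul_relIndex _ _ _ bot_le inf_le_left
  have h4 : Nat.card (H ⊓ F : Subgroup G) * H.relIndex F = Nat.card F := by
    rw [← inf_relIndex_right, ← relIndex_bot_left, ← relIndex_bot_left]
    exact relIndex_mul_relIndex _ _ _ bot_le inf_le_right
  have hpos1 : 0 < Nat.card (H ⊓ F : Subgroup G) := Nat.card_pos
  have hpos2 : 0 < F.relIndex H := by
    rcases Nat.eq_zero_or_pos (F.relIndex H) with h0 | h0
    · rw [h0, mul_zero] at h3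
      exact absurd h3.symm (Nat.card_pos).ne'
    · exact h0
  have : (Nat.card (H ⊓ F : Subgroup G) * F.relIndex H) * H.relIndex (H ⊔ F)
      = (Nat.card (H ⊓ F : Subgroup G) * F.relIndex H) * H.relIndex F := by
    rw [h3, h2, ← h1, ha, ← h4, ← h3]; ring
  exact Nat.eq_of_mul_eq_mul_left (Nat.mul_pos hpos1 hpos2) this

/-- For `F` normal in a finite group, `[F : H ∩ F]` divides `[G : H]`. -/
theorem relIndex_dvd_index_of_normal_right {G : Type*} [Group G] [Finite G] (H F : Subgroup G)
    [F.Normal] : H.relIndex F ∣ H.index := by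
  rw [← relIndex_sup_eq_relIndex H F]
  exact relIndex_dvd_index_of_le le_sup_left

section pCore

variable {G : Type*} [Group G]

theorem pCore_normal (p : ℕ) : (Cfsg.pCore p G).Normal :=
  Subgroup.sSup_normal _ (fun _ h => h.1)

theorem fittingSubgroup_normal : (Cfsg.fittingSubgroup G).Normal :=
  Subgroup.sSup_normal _ (fun _ h => h.1)

/-- A normal `p`-subgroup lies in every Sylow `p`-subgroup. -/
theorem normal_pGroup_le_sylow [Finite G] {p : ℕ} [Fact p.Prime] (N : Subgroup G) [hN : N.Normal]
    (hNp : IsPGroup p N) (P : Sylow p G) : N ≤ P := by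
  obtain ⟨Q, hQ⟩ := hNp.exists_le_sylow
  obtain ⟨g, rfl⟩ := MulAction.exists_smul_eq G Q P
  rw [Sylow.coe_subgroup_smul, ← Normal.conj_smul_eq_self g N]
  exact Subgroup.pointwise_smul_le_pointwise_smul_iff.mpr hQ

theorem pCore_le_sylow [Finite G] {p : ℕ} [Fact p.Prime] (P : Sylow p G) :
    Cfsg.pCore p G ≤ P := by
  apply sSup_le
  rintro N ⟨hN, hNp⟩
  exact normal_pGroup_le_sylow N hNp P

theorem pCore_isPGroup [Finite G] (p : ℕ) [Fact p.Prime] : IsPGroup p (Cfsg.pCore p G) := by
  obtain ⟨P⟩ : Nonempty (Sylow p G) := inferInstance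
  exact P.isPGroup'.to_le (pCore_le_sylow P)

theorem le_pCore {p : ℕ} (N : Subgroup G) (hN : N.Normal) (hNp : IsPGroup p N) :
    N ≤ Cfsg.pCore p G :=
  le_sSup ⟨hN, hNp⟩

theorem le_fittingSubgroup (N : Subgroup G) (hN : N.Normal) (hNn : Group.IsNilpotent N) :
    N ≤ Cfsg.fittingSubgroup G :=
  le_sSup ⟨hN, hNn⟩

theorem pCore_le_fittingSubgroup [Finite G] (p : ℕ) [Fact p.Prime] :
    Cfsg.pCore p G ≤ Cfsg.fittingSubgroup G :=
  le_fittingSubgroup _ (pCore_normal p) (pCore_isPGroup p).isNilpotent

/-- An element lying in every Sylow `p`-subgroup lies in `O_p(G)`. -/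
theorem mem_pCore_of_forall_mem_sylow [Finite G] {p : ℕ} [Fact p.Prime] (y : G)
    (hy : ∀ P : Sylow p G, y ∈ (P : Subgroup G)) : y ∈ Cfsg.pCore p G := by
  obtain ⟨P⟩ : Nonempty (Sylow p G) := inferInstance
  have hle : (P : Subgroup G).normalCore ≤ Cfsg.pCore p G :=
    le_pCore _ (normalCore_normal _) (P.isPGroup'.to_le (normalCore_le _))
  apply hle
  intro b
  have := hy (b⁻¹ • P)
  rw [Sylow.coe_subgroup_smul, Subgroup.mem_pointwise_smul_iff_inv_smul_mem] at this
  simpa using this

end pCore


section fitting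

variable {G : Type*} [Group G]


/-- The join of the `O_p(G)` over the primes dividing `|G|`. -/
noncomputable def pCoreJoin (G : Type*) [Group G] : Subgroup G :=
  ⨆ p : (Nat.card G).primeFactors, Cfsg.pCore (p : ℕ) G

theorem pCoreJoin_isNilpotent [Finite G] : Group.IsNilpotent (pCoreJoin G) := by
  have hprime : ∀ p : (Nat.card G).primeFactors, Fact (Nat.Prime (p : ℕ)) :=
    fun p => ⟨Nat.prime_of_mem_primeFactors p.2⟩
  have hcomm : Pairwise fun p₁ p₂ : (Nat.card G).primeFactors =>
      ∀ x y : G, x ∈ Cfsg.pCore (p₁ : ℕ) G → y ∈ Cfsg.pCore (p₂ : ℕ) G → Commute x y := by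
    intro p₁ p₂ hne
    have := hprime p₁
    have := hprime p₂
    have hne' : (p₁ : ℕ) ≠ p₂ := fun h => hne (Subtype.ext h)
    exact Subgroup.commute_of_normal_of_disjoint _ _ (pCore_normal _) (pCore_normal _)
      (IsPGroup.disjoint_of_ne _ _ hne' _ _ (pCore_isPGroup _) (pCore_isPGroup _))
  have hnil : ∀ p : (Nat.card G).primeFactors, Group.IsNilpotent (Cfsg.pCore (p : ℕ) G) := by
    intro p
    have := hprime p
    exact (pCore_isPGroup (p : ℕ)).isNilpotent
  have h1 : Group.IsNilpotent (Subgroup.noncommPiCoprod hcomm).range :=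
    Group.nilpotent_of_surjective _ (Subgroup.noncommPiCoprod hcomm).rangeRestrict_surjective
  have h2 : (Subgroup.noncommPiCoprod hcomm).range = pCoreJoin G :=
    Subgroup.noncommPiCoprod_range
  rw [← h2]
  exact h1




theorem le_pCoreJoin_of_normal_nilpotent [Finite G] (N : Subgroup G) (hN : N.Normal)
    (hNn : Group.IsNilpotent N) : N ≤ pCoreJoin G := by
  have hM : pCoreJoin G ⊓ N = N := by
    apply Subgroup.eq_of_le_of_card_ge inf_le_right
    apply Nat.le_of_dvd Nat.card_pos
    rw [← Nat.factorization_le_iff_dvd Nat.card_pos.ne' Nat.card_pos.ne']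
    intro p
    by_cases hp : p.Prime
    · by_cases hpN : p ∣ Nat.card N
      · have : Fact p.Prime := ⟨hp⟩
        obtain ⟨P⟩ : Nonempty (Sylow p N) := inferInstance
        have hPn : (P : Subgroup N).Normal := inferInstance
        have hPc : (P : Subgroup N).Characteristic := Sylow.characteristic_of_normal P hPn
        have hPG : ((P : Subgroup N).map N.subtype).Normal :=
          ConjAct.normal_of_characteristic_of_normal
        have hPp : IsPGroup p ((P : Subgroup N).map N.subtype) := P.isPGroup'.map _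
        have hpG : p ∈ (Nat.card G).primeFactors := by
          rw [Nat.mem_primeFactors]
          exact ⟨hp, hpN.trans (Subgroup.card_subgroup_dvd_card N), Nat.card_pos.ne'⟩
        have hle1 : (P : Subgroup N).map N.subtype ≤ pCoreJoin G :=
          (le_pCore _ hPG hPp).trans (le_iSup (fun q : (Nat.card G).primeFactors =>
            Cfsg.pCore (q : ℕ) G) ⟨p, hpG⟩)
        have hle2 : (P : Subgroup N).map N.subtype ≤ N := Subgroup.map_subtype_le _
        have hle : (P : Subgroup N).map N.subtype ≤ pCoreJoin G ⊓ N := le_inf hle1 hle2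
        have hcard : Nat.card ((P : Subgroup N).map N.subtype) =
            p ^ (Nat.card N).factorization p := by
          rw [Subgroup.card_map_of_injective N.subtype_injective]  
          exact Sylow.card_eq_multiplicity P
        have hdvd : p ^ (Nat.card N).factorization p ∣ Nat.card (pCoreJoin G ⊓ N : Subgroup G) :=
          hcard ▸ Subgroup.card_dvd_of_le hle
        exact (hp.pow_dvd_iff_le_factorization Nat.card_pos.ne').mp hdvd
      · rw [Nat.factorization_eq_zero_of_not_dvd hpN]; exact Nat.zero_le _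
    · rw [Nat.factorization_eq_zero_of_not_prime _ hp]; exact Nat.zero_le _
  exact hM ▸ inf_le_left


theorem fittingSubgroup_le_pCoreJoin [Finite G] : Cfsg.fittingSubgroup G ≤ pCoreJoin G := by
  apply sSup_le
  rintro N ⟨hN, hNn⟩
  exact le_pCoreJoin_of_normal_nilpotent N hN hNn

theorem fittingSubgroup_isNilpotent [Finite G] : Group.IsNilpotent (Cfsg.fittingSubgroup G) := by
  have h1 : Group.IsNilpotent (pCoreJoin G) := pCoreJoin_isNilpotent
  have h2 : Group.IsNilpotent ((Cfsg.fittingSubgroup G).subgroupOf (pCoreJoin G)) :=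
    Subgroup.isNilpotent _
  exact Group.nilpotent_of_mulEquiv (Subgroup.subgroupOfEquivOfLe fittingSubgroup_le_pCoreJoin)

end fitting

end Cfsg.Agent.Helper71
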