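import Mathlib
import Cfsg.Prelude.Def_OddOrderLocal
import Cfsg.Agent.Helper29.BG10G
import Cfsg.Agent.Helper68.BG12A
import Cfsg.Agent.Helper62.CoprimeHall
import Cfsg.Agent.Lib.Hall

set_option autoImplicit false
set_option linter.unusedSectionVars false
set_option linter.unusedVariables false
set_option linter.style.haveILetI false

/-!
# Hall-theoretic utilities for the maximal subgroups of a minimal simple group of odd order
(helper71): Hall subgroups of a solvable subgroup containing a given subgroup, complements of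
`M_σ` in `M` containing a given `σ(M)'`-subgroup, elementary abelian subgroups of order `p ^ 2`
inside a given complement.
-/

namespace Cfsg.Agent.Helper71.BGHall

open Cfsg Cfsg.Agent.Helper29.BG10 Cfsg.Agent.Helper68.BG12
open scoped Pointwise

variable {G : Type*} [Group G]

/-- if `H` and `K` commute elementwise then every element of `H ⊔ K` is a product -/
theorem exists_mul_of_mem_sup_of_commute {H K : Subgroup G}
    (hc : ∀ a ∈ H, ∀ b ∈ K, a * b = b * a) {g : G} (hg : g ∈ H ⊔ K) :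
    ∃ a ∈ H, ∃ b ∈ K, g = a * b := by
  let S : Subgroup G :=
    { carrier := {g | ∃ a ∈ H, ∃ b ∈ K, g = a * b}
      one_mem' := ⟨1, H.one_mem, 1, K.one_mem, by simp⟩
      mul_mem' := by
        rintro _ _ ⟨a, ha, b, hb, rfl⟩ ⟨a', ha', b', hb', rfl⟩
        refine ⟨a * a', H.mul_mem ha ha', b * b', K.mul_mem hb hb', ?_⟩
        have := hc a' ha' b hb
        calc a * b * (a' * b') = a * (b * a') * b' := by group
          _ = a * (a' * b) * b' := by rw [this]
          _ = a * a' * (b * b') := by group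
      inv_mem' := by
        rintro _ ⟨a, ha, b, hb, rfl⟩
        refine ⟨a⁻¹, H.inv_mem ha, b⁻¹, K.inv_mem hb, ?_⟩
        have := hc a⁻¹ (H.inv_mem ha) b⁻¹ (K.inv_mem hb)
        rw [mul_inv_rev, this] }
  have hle : H ⊔ K ≤ S := by
    apply sup_le
    · intro a ha
      exact ⟨a, ha, 1, K.one_mem, by simp⟩
    · intro b hb
      exact ⟨1, H.one_mem, b, hb, by simp⟩
  exact hle hg

/-- conjugates of elementary abelian subgroups are elementary abelian -/
theorem isElementaryAbelian_cj {p : ℕ} {A : Subgroup G} (hA : Cfsg.IsElementaryAbelian p A)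
    (g : G) : Cfsg.IsElementaryAbelian p (cj g A) := by
  refine ⟨⟨⟨?_⟩⟩, ?_⟩
  · rintro ⟨a, ha⟩ ⟨b, hb⟩
    apply Subtype.ext
    rw [mem_cj] at ha hb
    have h1 := hA.1.is_comm.comm ⟨_, ha⟩ ⟨_, hb⟩
    have h2 : g⁻¹ * a * g * (g⁻¹ * b * g) = g⁻¹ * b * g * (g⁻¹ * a * g) :=
      congrArg Subtype.val h1
    have h3 : g⁻¹ * (a * b) * g = g⁻¹ * (b * a) * g := by
      simpa [mul_assoc] using h2
    exact mul_left_cancel (mul_right_cancel h3)
  · intro a ha
    rw [mem_cj] at ha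
    have h1 := hA.2 _ ha
    have h2 : (g⁻¹ * a * g) ^ p = g⁻¹ * a ^ p * g := by
      have := conj_pow (a := g⁻¹) (b := a) (i := p)
      simpa using this
    rw [h2] at h1
    have h3 : a ^ p = g * 1 * g⁻¹ := by
      rw [← h1]; group
    simpa using h3

/-- **Hall**: in a solvable subgroup `M`, every `π`-subgroup lies in a Hall `π`-subgroup. -/
theorem exists_isPiHallOf_ge [Finite G] (π : Set ℕ) (M : Subgroup G) [Group.IsSolvable ↥M]
    {Y : Subgroup G} (hYM : Y ≤ M) (hY : ∀ p : ℕ, p.Prime → p ∣ Nat.card Y → p ∈ π) :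
    ∃ H : Subgroup G, Cfsg.IsPiHallOf π H M ∧ Y ≤ H := by
  obtain ⟨H₀, hH₀⟩ := Cfsg.Agent.Helper62.exists_isPiHallOf π M
  have hcard : Nat.card ↥M = Nat.card H₀ * H₀.relIndex M :=
    (Cfsg.Agent.Helper62.isPiHallOf_card_mul_relIndex hH₀).symm
  have hcop := Cfsg.Agent.Helper62.isPiHallOf_coprime hH₀
  have hYc : (Nat.card (Y.subgroupOf M)).Coprime (H₀.relIndex M) := by
    rw [Cfsg.Agent.Helper1.card_subgroupOf_of_le hYM]
    exact Cfsg.Agent.Helper62.coprime_of_pi_of_pi' hY hH₀.2.2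
  obtain ⟨H₁, hH₁c, hYH₁⟩ :=
    Cfsg.Agent.Lib.hall_le (G := ↥M) _ _ hcard hcop (Y.subgroupOf M) hYc
  refine ⟨H₁.map M.subtype, ?_, ?_⟩
  · apply Cfsg.Agent.Helper62.isPiHallOf_of_card_eq hH₀ (Subgroup.map_subtype_le _)
    rw [Subgroup.card_map_of_injective M.subtype_injective, hH₁c]
  · intro y hy
    exact ⟨⟨y, hYM hy⟩, hYH₁ (Subgroup.mem_subgroupOf.2 hy), rfl⟩

/-- a complement of `M_σ` in `M` containing a given `σ(M)'`-subgroup of `M` -/
theorem exists_isComplIn_sigmaCore_ge [Finite G] (hG : Cfsg.IsMinSimpleOddOrder G)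
    (hU : UniquenessThm G) {M : Subgroup G} (hM : IsCoatom M) {Y : Subgroup G} (hYM : Y ≤ M)
    (hY : ∀ q : ℕ, q.Prime → q ∣ Nat.card Y → q ∉ Cfsg.sigma M) :
    ∃ E : Subgroup G, Cfsg.IsComplIn E (Cfsg.sigmaCore M) M ∧ Y ≤ E := by
  classical
  obtain ⟨hS, -, -⟩ := thm_10_2_sigma hG hU M hM
  set n := Nat.card (Cfsg.sigmaCore M) with hn
  set m := (Cfsg.sigmaCore M).relIndex M with hm
  have hcard : Nat.card ↥M = m * n := by
    rw [mul_comm]; exact (Cfsg.Agent.Helper62.isPiHallOf_card_mul_relIndex hS).symm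
  have hcop : m.Coprime n := (Cfsg.Agent.Helper62.isPiHallOf_coprime hS).symm
  have : Group.IsSolvable ↥M := hG.2.2.2 M hM.1
  have hnpi : n = Nat.card (Cfsg.piCore (Cfsg.sigma M) ↥M) := by
    rw [hn]; unfold Cfsg.sigmaCore
    exact Subgroup.card_map_of_injective M.subtype_injective
  have hYc : (Nat.card (Y.subgroupOf M)).Coprime n := by
    rw [Cfsg.Agent.Helper1.card_subgroupOf_of_le hYM]
    exact Nat.coprime_of_dvd fun k hk hkY hkn => hY k hk hkY (hS.2.1 k hk hkn)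
  obtain ⟨H₁, hH₁c, hYH₁⟩ := Cfsg.Agent.Lib.hall_le (G := ↥M) m n hcard hcop _ hYc
  refine ⟨H₁.map M.subtype, ⟨Subgroup.map_subtype_le _, sigmaCore_le M, ?_, ?_⟩, ?_⟩
  · rw [eq_bot_iff]
    rintro y ⟨hy1, hy2⟩
    rw [Subgroup.mem_bot]
    have h1 : orderOf y ∣ m := by
      have := Subgroup.orderOf_dvd_natCard _ hy1
      rwa [Subgroup.card_map_of_injective M.subtype_injective, hH₁c] at this
    have h2 : orderOf y ∣ n := Subgroup.orderOf_dvd_natCard _ hy2
    exact orderOf_eq_one_iff.1 (Nat.eq_one_of_dvd_coprimes hcop h1 h2)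
  · intro y hy
    have hc : H₁.IsComplement' (Cfsg.piCore (Cfsg.sigma M) ↥M) := by
      apply Subgroup.isComplement'_of_coprime
      · rw [hH₁c, ← hnpi, ← hcard]
      · rw [hH₁c, ← hnpi]; exact hcop
    obtain ⟨⟨⟨a, ha⟩, ⟨b, hb⟩⟩, hab, -⟩ := hc.existsUnique ⟨y, hy⟩
    refine ⟨(a : G), ⟨a, ha, rfl⟩, (b : G), ⟨b, hb, rfl⟩, ?_⟩
    have := congrArg Subtype.val hab
    simpa using this.symm
  · intro y hy
    exact ⟨⟨y, hYM hy⟩, hYH₁ (Subgroup.mem_subgroupOf.2 hy), rfl⟩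

/-- a complement of `M_σ` in `M` exists -/
theorem exists_isComplIn_sigmaCore [Finite G] (hG : Cfsg.IsMinSimpleOddOrder G)
    (hU : UniquenessThm G) {M : Subgroup G} (hM : IsCoatom M) :
    ∃ E : Subgroup G, Cfsg.IsComplIn E (Cfsg.sigmaCore M) M := by
  obtain ⟨E, hE, -⟩ := exists_isComplIn_sigmaCore_ge hG hU hM (Y := ⊥) bot_le (by
    intro q hq hd
    rw [Subgroup.card_bot] at hd
    exact absurd (Nat.dvd_one.1 hd) hq.one_lt.ne')
  exact ⟨E, hE⟩

/-- for `p ∉ σ(M)` with `M` of `p`-rank exactly two, every complement `E` of `M_σ` in `M`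
contains an elementary abelian subgroup of order `p ^ 2` -/
theorem exists_elementaryAbelian_sq_le_compl [Finite G] {M E : Subgroup G} (h : ECtx M E)
    {p : ℕ} [hp : Fact p.Prime] (hpσ : p ∉ Cfsg.sigma M) (hr2 : Cfsg.PRankLE p 2 ↥M)
    (hr1 : ¬ Cfsg.PRankLE p 1 ↥M) :
    ∃ A : Subgroup G, A ≤ E ∧ Cfsg.IsElementaryAbelian p A ∧ Nat.card A = p ^ 2 := by
  classical
  set m := Nat.card E with hm
  set n := Nat.card (Cfsg.sigmaCore M) with hn
  have hcard : Nat.card ↥M = m * n := (card_mul_card_of_isComplIn h.compl).symm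
  have hcop : m.Coprime n :=
    Nat.coprime_of_dvd fun k hk hkm hkn => h.not_sigma_of_dvd k hk hkm (h.sigma_of_dvd k hk hkn)
  have : Group.IsSolvable ↥M := h.solvable_M
  obtain ⟨A₀, hA₀M, hA₀e, hA₀c⟩ := exists_elementaryAbelian_sq hr2 hr1
  have hpn : ¬ p ∣ n := fun hd => hpσ (h.sigma_of_dvd p hp.out hd)
  have hK₂c : (Nat.card (A₀.subgroupOf M)).Coprime n := by
    rw [Cfsg.Agent.Helper1.card_subgroupOf_of_le hA₀M, hA₀c]
    exact Nat.Coprime.pow_left _ ((Nat.Prime.coprime_iff_not_dvd hp.out).2 hpn)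
  obtain ⟨H₂, hH₂c, hK₂H₂⟩ := Cfsg.Agent.Lib.hall_le (G := ↥M) m n hcard hcop _ hK₂c
  have hEc : Nat.card (E.subgroupOf M) = m := Cfsg.Agent.Helper1.card_subgroupOf_of_le h.le
  obtain ⟨g, hg⟩ :=
    Cfsg.Agent.Lib.hall_conj (G := ↥M) m n hcard hcop H₂ (E.subgroupOf M) hH₂c hEc
  refine ⟨cj (g : G) A₀, ?_, isElementaryAbelian_cj hA₀e _, ?_⟩
  · intro y hy
    rw [mem_cj] at hy
    have h1 : (⟨(g : G)⁻¹ * y * (g : G), hA₀M hy⟩ : M) ∈ A₀.subgroupOf M :=
      Subgroup.mem_subgroupOf.2 hy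
    have h2 : MulAut.conj g • (⟨(g : G)⁻¹ * y * (g : G), hA₀M hy⟩ : M) ∈ MulAut.conj g • H₂ :=
      Subgroup.smul_mem_pointwise_smul _ _ _ (hK₂H₂ h1)
    rw [hg, Subgroup.mem_subgroupOf] at h2
    have h3 : ((MulAut.conj g • (⟨(g : G)⁻¹ * y * (g : G), hA₀M hy⟩ : M) : M) : G) = y := by
      simp [MulAut.smul_def, mul_assoc]
    rwa [h3] at h2
  · rw [card_cj, hA₀c]

end Cfsg.Agent.Helper71.BGHall
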