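import Mathlib
import Cfsg.Prelude.Def_Transfer
import Cfsg.Agent.S0055
import Cfsg.Agent.Helper22.Sup
import Cfsg.Agent.Helper62.FrobActGroup

/-!
# Basic tools for the Shult-type reduction (S3765, S3769)

Normalizer bookkeeping in an ambient group, generation of a subgroup of prime order, minimal
invariant subgroups, and the abelian case of the reduction (via the Frobenius fixed point
formula of `Helper62`).
-/

set_option autoImplicit false

namespace Cfsg.Agent.Helper71.Shult

open Subgroup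
open scoped commutatorElement

variable {G : Type*} [Group G]

theorem le_normalizer_of_conj_mem {X U : Subgroup G}
    (h : ∀ x ∈ X, ∀ u ∈ U, x * u * x⁻¹ ∈ U) : X ≤ normalizer (U : Set G) := by
  intro x hx
  rw [mem_normalizer_iff]
  intro u
  constructor
  · exact h x hx u
  · intro hu
    have := h x⁻¹ (X.inv_mem hx) _ hu
    simpa [mul_assoc] using this

theorem conj_mem_of_le_normalizer {X U : Subgroup G} (h : X ≤ normalizer (U : Set G)) {x u : G}
    (hx : x ∈ X) (hu : u ∈ U) : x * u * x⁻¹ ∈ U :=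
  (mem_normalizer_iff.mp (h hx) u).mp hu

theorem conj_inv_mem_of_le_normalizer {X U : Subgroup G} (h : X ≤ normalizer (U : Set G))
    {x u : G} (hx : x ∈ X) (hu : u ∈ U) : x⁻¹ * u * x ∈ U := by
  have := conj_mem_of_le_normalizer h (X.inv_mem hx) hu
  simpa using this

theorem inf_le_normalizer {X U W : Subgroup G} (hU : X ≤ normalizer (U : Set G))
    (hW : X ≤ normalizer (W : Set G)) : X ≤ normalizer ((U ⊓ W : Subgroup G) : Set G) :=
  le_normalizer_of_conj_mem fun _ hx _ hu =>
    ⟨conj_mem_of_le_normalizer hU hx hu.1, conj_mem_of_le_normalizer hW hx hu.2⟩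

theorem sup_le_normalizer {X U W : Subgroup G} (hU : X ≤ normalizer (U : Set G))
    (hW : X ≤ normalizer (W : Set G)) : X ≤ normalizer ((U ⊔ W : Subgroup G) : Set G) := by
  apply le_normalizer_of_conj_mem
  intro x hx u hu
  have h1 : U ⊔ W ≤ (U ⊔ W).comap (MulAut.conj x⁻¹).toMonoidHom := by
    apply sup_le
    · intro a ha
      rw [mem_comap]
      apply (le_sup_left : U ≤ U ⊔ W)
      simpa [MulAut.conj_apply] using conj_inv_mem_of_le_normalizer hU hx ha
    · intro a ha
      rw [mem_comap]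
      apply (le_sup_right : W ≤ U ⊔ W)
      simpa [MulAut.conj_apply] using conj_inv_mem_of_le_normalizer hW hx ha
  have h2 : U ⊔ W ≤ (U ⊔ W).comap (MulAut.conj x).toMonoidHom := by
    apply sup_le
    · intro a ha
      rw [mem_comap]
      apply (le_sup_left : U ≤ U ⊔ W)
      simpa [MulAut.conj_apply] using conj_mem_of_le_normalizer hU hx ha
    · intro a ha
      rw [mem_comap]
      apply (le_sup_right : W ≤ U ⊔ W)
      simpa [MulAut.conj_apply] using conj_mem_of_le_normalizer hW hx ha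
  have := h2 hu
  simpa [mem_comap, MulAut.conj_apply] using this

theorem le_normalizer_centralizer {X U : Subgroup G} (hU : X ≤ normalizer (U : Set G)) :
    X ≤ normalizer ((centralizer (U : Set G) : Subgroup G) : Set G) := by
  apply le_normalizer_of_conj_mem
  intro x hx c hc
  rw [mem_centralizer_iff] at hc ⊢
  intro u hu
  have h1 := hc _ (conj_inv_mem_of_le_normalizer hU hx hu)
  calc u * (x * c * x⁻¹) = x * ((x⁻¹ * u * x) * c) * x⁻¹ := by group
    _ = x * (c * (x⁻¹ * u * x)) * x⁻¹ := by rw [h1]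
    _ = x * c * x⁻¹ * u := by group

theorem le_normalizer_of_le_centralizer {X U : Subgroup G} (h : X ≤ centralizer (U : Set G)) :
    X ≤ normalizer (U : Set G) :=
  h.trans (centralizer_le_normalizer _)

/-- `S ≤ C(T)` iff `T ≤ C(S)`. -/
theorem le_centralizer_symm {S T : Subgroup G} (h : S ≤ centralizer (T : Set G)) :
    T ≤ centralizer (S : Set G) := by
  intro t ht
  rw [mem_centralizer_iff]
  intro s hs
  exact (mem_centralizer_iff.mp (h hs) t ht).symm

theorem commutator_eq_bot_of_le_centralizer {S T : Subgroup G}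
    (h : S ≤ centralizer (T : Set G)) : ⁅S, T⁆ = ⊥ :=
  (commutator_eq_bot_iff_le_centralizer).mpr h

/-- An element commuting with a nontrivial element of a subgroup of prime order centralizes it. -/
theorem mem_centralizer_of_prime_card {X : Subgroup G} {r : ℕ} (hr : r.Prime)
    (hX : Nat.card X = r) {x : G} (hx : x ∈ X) (hx1 : x ≠ 1) {g : G} (hg : x * g = g * x) :
    g ∈ centralizer (X : Set G) := by
  haveI : Fact r.Prime := ⟨hr⟩
  rw [mem_centralizer_iff]
  intro y hy
  have hne : (⟨x, hx⟩ : ↥X) ≠ 1 := fun h => hx1 (congrArg Subtype.val h)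
  have h1 : (⟨y, hy⟩ : ↥X) ∈ zpowers (⟨x, hx⟩ : ↥X) := mem_zpowers_of_prime_card hX hne
  obtain ⟨k, hk⟩ := mem_zpowers_iff.mp h1
  have h2 : x ^ k = y := by
    have := congrArg Subtype.val hk
    simpa using this
  rw [← h2]
  have hc : Commute x g := hg
  exact (hc.zpow_left k).eq

/-- A subgroup of prime order which does not centralize `S` meets `C(S)` trivially. -/
theorem inf_centralizer_eq_bot_of_prime_card {X S : Subgroup G} {r : ℕ} (hr : r.Prime)
    (hX : Nat.card X = r) (h : ¬ X ≤ centralizer (S : Set G)) :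
    X ⊓ centralizer (S : Set G) = ⊥ := by
  rw [eq_bot_iff]
  intro x hx
  rw [mem_bot]
  by_contra hx1
  apply h
  apply le_centralizer_symm
  intro s hs
  have h2 : x * s = s * x := (mem_centralizer_iff.mp hx.2 s hs).symm
  exact mem_centralizer_of_prime_card hr hX hx.1 hx1 h2

theorem ne_bot_of_prime_card {X : Subgroup G} {r : ℕ} (hr : r.Prime) (hX : Nat.card X = r) :
    X ≠ ⊥ := by
  intro h
  rw [h, Subgroup.card_bot] at hX
  exact hr.ne_one hX.symm

/-- Minimal invariant subgroups with a nontrivial action. -/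
theorem exists_min_action [Finite G] (X Q : Subgroup G) (P : Subgroup G → Prop) (hP : P Q)
    (hXQ : X ≤ normalizer (Q : Set G)) :
    ∃ Q₁ : Subgroup G, Q₁ ≤ Q ∧ X ≤ normalizer (Q₁ : Set G) ∧ P Q₁ ∧
      ∀ U : Subgroup G, U < Q₁ → X ≤ normalizer (U : Set G) → ¬ P U := by
  let S : Set (Subgroup G) := {U | U ≤ Q ∧ X ≤ normalizer (U : Set G) ∧ P U}
  have hne : S.Nonempty := ⟨Q, le_rfl, hXQ, hP⟩
  obtain ⟨m, hm, hmin⟩ := wellFounded_lt.has_min S hne
  refine ⟨m, hm.1, hm.2.1, hm.2.2, fun U hU hXU hPU => ?_⟩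
  exact hmin U ⟨hU.le.trans hm.1, hXU, hPU⟩ hU

theorem isPGroup_of_isElementaryAbelian {p : ℕ} {V : Subgroup G}
    (hV : Cfsg.IsElementaryAbelian p V) : IsPGroup p V := by
  intro v
  refine ⟨1, ?_⟩
  apply Subtype.ext
  rw [pow_one, coe_pow, coe_one]
  exact hV.2 v v.2

theorem isElementaryAbelian_of_le {p : ℕ} {V W : Subgroup G} (hV : Cfsg.IsElementaryAbelian p V)
    (hWV : W ≤ V) : Cfsg.IsElementaryAbelian p W := by
  have hc : IsMulCommutative ↥V := hV.1
  refine ⟨⟨⟨fun a b => ?_⟩⟩, fun a ha => hV.2 a (hWV ha)⟩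
  have := mul_comm' (⟨a.1, hWV a.2⟩ : ↥V) ⟨b.1, hWV b.2⟩
  apply Subtype.ext
  show (a : G) * (b : G) = (b : G) * (a : G)
  exact congrArg Subtype.val this

/-- If `g ^ a = 1` and `g ^ b = 1` with `a`, `b` coprime then `g = 1`. -/
theorem eq_one_of_pow_eq_one_of_coprime {g : G} {a b : ℕ} (hab : a.Coprime b) (ha : g ^ a = 1)
    (hb : g ^ b = 1) : g = 1 := by
  have h1 : orderOf g ∣ a := orderOf_dvd_of_pow_eq_one ha
  have h2 : orderOf g ∣ b := orderOf_dvd_of_pow_eq_one hb
  have h3 : orderOf g ∣ 1 := by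
    have := Nat.dvd_gcd h1 h2
    rwa [hab] at this
  exact orderOf_eq_one_iff.mp (Nat.dvd_one.mp h3)

/-- Subgroups of coprime orders meet trivially. -/
theorem inf_eq_bot_of_coprime_card [Finite G] {S T : Subgroup G}
    (h : (Nat.card S).Coprime (Nat.card T)) : S ⊓ T = ⊥ :=
  Subgroup.inf_eq_bot_of_coprime h

/-- **Abelian case**: if `X` of prime order `r` acts on an abelian `q`-group `Q₁ = [Q₁, X]` and
`X Q₁` acts on an elementary abelian `p`-group `V` with `C_V(X) = 1`, then `Q₁` centralizes `V`. -/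
theorem abelian_case [Finite G] {p q r : ℕ} (hp : p.Prime) (hq : q.Prime) (hr : r.Prime)
    (hpq : p ≠ q) (hpr : p ≠ r) (hqr : q ≠ r) (X Q₁ V : Subgroup G) (hX : Nat.card X = r)
    (hQ₁ : IsPGroup q Q₁) (hXQ₁ : X ≤ normalizer (Q₁ : Set G)) (hab : IsMulCommutative ↥Q₁)
    (hcomm : ⁅Q₁, X⁆ = Q₁) (hV : Cfsg.IsElementaryAbelian p V)
    (hXV : X ≤ normalizer (V : Set G)) (hQV : Q₁ ≤ normalizer (V : Set G))
    (hCV : V ⊓ centralizer (X : Set G) = ⊥) : Q₁ ≤ centralizer (V : Set G) := by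
  haveI : Fact q.Prime := ⟨hq⟩
  haveI : Fact p.Prime := ⟨hp⟩
  obtain ⟨k, hk⟩ := (IsPGroup.iff_card).mp hQ₁
  obtain ⟨a, ha⟩ := (IsPGroup.iff_card).mp (isPGroup_of_isElementaryAbelian hV)
  have hrq : r.Coprime q := (Nat.coprime_primes hr hq).mpr hqr.symm
  have hpq' : p.Coprime q := (Nat.coprime_primes hp hq).mpr hpq
  have hpr' : p.Coprime r := (Nat.coprime_primes hp hr).mpr hpr
  have hcop : (Nat.card X).Coprime (Nat.card Q₁) := by
    rw [hX, hk]; exact Nat.Coprime.pow_right k hrq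
  have h55 := Cfsg.Agent.S0055.result X Q₁ hXQ₁ hcop
  have hfix : Q₁ ⊓ centralizer (X : Set G) = ⊥ := by
    have := h55.1
    rwa [hcomm, inf_eq_left.mpr inf_le_left] at this
  have hfpf : ∀ e ∈ X, e ≠ 1 → ∀ u ∈ Q₁, e * u = u * e → u = 1 := by
    intro e he he1 u hu heu
    have h1 : u ∈ Q₁ ⊓ centralizer (X : Set G) :=
      ⟨hu, mem_centralizer_of_prime_card hr hX he he1 heu⟩
    rw [hfix, mem_bot] at h1
    exact h1
  have hE1 : X ≠ ⊥ := ne_bot_of_prime_card hr hX
  have hsupV : Q₁ ⊔ X ≤ normalizer (V : Set G) := sup_le hQV hXV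
  haveI : IsMulCommutative ↥V := hV.1
  have hsolv : Group.IsSolvable ↥V := isSolvable_of_comm (fun a b => mul_comm' a b)
  have hcopV : Nat.Coprime (Nat.card V) (Nat.card ↥(Q₁ ⊔ X)) := by
    have h1 : Nat.card ↥(Q₁ ⊔ X) ∣ Nat.card X * Nat.card Q₁ := by
      rw [sup_comm]; exact Cfsg.Agent.Helper22.card_sup_dvd_of_le_normalizer X Q₁ hXQ₁
    apply Nat.Coprime.coprime_dvd_right h1
    rw [ha, hX, hk]
    apply Nat.Coprime.pow_left
    exact Nat.Coprime.mul_right hpr' (Nat.Coprime.pow_right k hpq')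
  have key := Cfsg.Agent.Helper62.FrobAct.frobenius_fixed_point_formula Q₁ X hE1
    (fun e he u hu => conj_mem_of_le_normalizer hXQ₁ he hu) hfpf (Nat.card V) V rfl
    (fun x hx h hh => conj_mem_of_le_normalizer hsupV hx hh) hsolv hcopV
  rw [hCV, Subgroup.card_bot, one_pow, one_mul] at key
  -- `|C_V(Q₁ X)| ^ r * |V| = |C_V(Q₁)|`
  have h1 : Nat.card V ≤ Nat.card ↥(V ⊓ centralizer (Q₁ : Set G)) := by
    rw [← key]
    apply Nat.le_mul_of_pos_left
    exact pow_pos Nat.card_pos _
  have h2 : V ⊓ centralizer (Q₁ : Set G) = V :=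
    Subgroup.eq_of_le_of_card_ge inf_le_left h1
  apply le_centralizer_symm
  rw [← h2]
  exact inf_le_right

end Cfsg.Agent.Helper71.Shult
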