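import Mathlib
import Cfsg.Prelude.Def_Transfer
import Cfsg.Agent.Helper71.ShultBasic

/-!
# Tools for S3769: generation by invariant Sylow subgroups
-/

set_option autoImplicit false

namespace Cfsg.Agent.Helper71.Shult

open Subgroup
open scoped commutatorElement

variable {X : Type*} [Group X]

/-- The elements of `K` all of whose commutators with `R` lie in `C` (a subgroup when `K`
normalizes `C`). -/
def commIn (R K C : Subgroup X) (hKC : K ≤ normalizer (C : Set X)) : Subgroup X where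
  carrier := {g | g ∈ K ∧ ∀ x ∈ R, ⁅x, g⁆ ∈ C}
  one_mem' := ⟨K.one_mem, fun x _ => by rw [commutatorElement_one_right]; exact C.one_mem⟩
  mul_mem' := by
    rintro g₁ g₂ ⟨h1, h1'⟩ ⟨h2, h2'⟩
    refine ⟨K.mul_mem h1 h2, fun x hx => ?_⟩
    have e : ⁅x, g₁ * g₂⁆ = ⁅x, g₁⁆ * (g₁ * ⁅x, g₂⁆ * g₁⁻¹) := by
      simp only [commutatorElement_def]; group
    rw [e]
    exact C.mul_mem (h1' x hx) (conj_mem_of_le_normalizer hKC h1 (h2' x hx))
  inv_mem' := by
    rintro g ⟨h1, h1'⟩
    refine ⟨K.inv_mem h1, fun x hx => ?_⟩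
    have e : ⁅x, g⁻¹⁆ = g⁻¹ * ⁅x, g⁆⁻¹ * g⁻¹⁻¹ := by
      simp only [commutatorElement_def]; group
    rw [e]
    exact conj_mem_of_le_normalizer hKC (K.inv_mem h1) (C.inv_mem (h1' x hx))

theorem mem_commIn {R K C : Subgroup X} {hKC : K ≤ normalizer (C : Set X)} {g : X} :
    g ∈ commIn R K C hKC ↔ g ∈ K ∧ ∀ x ∈ R, ⁅x, g⁆ ∈ C := Iff.rfl

/-- A subgroup of `K` containing a Sylow `q`-subgroup of `K` for every prime `q` is `K`. -/
theorem eq_of_contains_sylows [Finite X] {D K : Subgroup X} (hDK : D ≤ K)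
    (h : ∀ q : ℕ, q.Prime → ∃ P : Sylow q ↥K, (P : Subgroup ↥K).map K.subtype ≤ D) : D = K := by
  apply le_antisymm hDK
  have h1 : (D.subgroupOf K).index = 1 := by
    rw [Nat.eq_one_iff_not_exists_prime_dvd]
    intro q hq hdvd
    haveI : Fact q.Prime := ⟨hq⟩
    obtain ⟨P, hP⟩ := h q hq
    have h2 : (P : Subgroup ↥K) ≤ D.subgroupOf K := by
      rw [subgroupOf, ← map_le_iff_le_comap]
      exact hP
    exact P.not_dvd_index (dvd_trans hdvd (index_dvd_of_le h2))
  exact subgroupOf_eq_top.mp (index_eq_one.mp h1)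

/-- `[K R : K] = |R|` when `R` normalizes `K` and `K ∩ R = 1`. -/
theorem relIndex_sup_eq_card {K R : Subgroup X} (hRK : R ≤ normalizer (K : Set X))
    (hKR : K ⊓ R = ⊥) : K.relIndex (K ⊔ R) = Nat.card R := by
  have h1 : K.relIndex (R ⊔ K) = K.relIndex R := by
    let _i1 := Subgroup.normal_subgroupOf_of_le_normalizer hRK
    let _i2 := Subgroup.normal_subgroupOf_sup_of_le_normalizer hRK
    exact Nat.card_congr (QuotientGroup.quotientInfEquivProdNormalizerQuotient R K hRK).toEquiv.symm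
  rw [sup_comm, h1, ← inf_relIndex_right, hKR, relIndex_bot_left]

end Cfsg.Agent.Helper71.Shult
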