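import Mathlib
import Cfsg.Prelude.Def_Transfer

/-!
# Images of subgroups in `N_G(N) / N`

For a subgroup `N` of `G` we put `Quo N = N_G(N) / N`, `proj N : N_G(N) →* Quo N` and, for
`S ≤ G`, `img N S` the image of `S ∩ N_G(N)` in `Quo N`.  This file collects the bookkeeping
needed to pass hypotheses written for subgroups of `G` to the quotient.
-/

set_option autoImplicit false

namespace Cfsg.Agent.Helper71.QI

open Subgroup

variable {G : Type*} [Group G]

/-- `N_G(N) / N`. -/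
abbrev Quo (N : Subgroup G) : Type _ :=
  ↥(normalizer (N : Set G)) ⧸ N.subgroupOf (normalizer (N : Set G))

/-- The projection `N_G(N) →* N_G(N) / N`. -/
def proj (N : Subgroup G) : ↥(normalizer (N : Set G)) →* Quo N :=
  QuotientGroup.mk' (N.subgroupOf (normalizer (N : Set G)))

/-- The image of `S ∩ N_G(N)` in `N_G(N) / N`. -/
def img (N S : Subgroup G) : Subgroup (Quo N) :=
  (S.subgroupOf (normalizer (N : Set G))).map (proj N)

theorem proj_surjective (N : Subgroup G) : Function.Surjective (proj N) :=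
  QuotientGroup.mk'_surjective _

theorem proj_eq_one_iff {N : Subgroup G} (g : ↥(normalizer (N : Set G))) :
    proj N g = 1 ↔ (g : G) ∈ N := by
  rw [proj, QuotientGroup.mk'_apply, QuotientGroup.eq_one_iff, mem_subgroupOf]

theorem proj_eq_proj_iff {N : Subgroup G} (g h : ↥(normalizer (N : Set G))) :
    proj N g = proj N h ↔ (g : G)⁻¹ * (h : G) ∈ N := by
  rw [proj, QuotientGroup.mk'_apply, QuotientGroup.mk'_apply, QuotientGroup.eq, mem_subgroupOf]
  rfl

theorem mem_img {N S : Subgroup G} {y : Quo N} :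
    y ∈ img N S ↔ ∃ s, ∃ hs : s ∈ normalizer (N : Set G), s ∈ S ∧ proj N ⟨s, hs⟩ = y := by
  constructor
  · rintro ⟨g, hg, rfl⟩
    exact ⟨g.1, g.2, mem_subgroupOf.mp hg, rfl⟩
  · rintro ⟨s, hs, hsS, rfl⟩
    exact ⟨⟨s, hs⟩, mem_subgroupOf.mpr hsS, rfl⟩

theorem img_mono {N S T : Subgroup G} (h : S ≤ T) : img N S ≤ img N T :=
  map_mono (fun _ hg => h hg)

theorem img_sup {N S T : Subgroup G} (hS : S ≤ normalizer (N : Set G))
    (hT : T ≤ normalizer (N : Set G)) : img N (S ⊔ T) = img N S ⊔ img N T := by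
  unfold img
  rw [subgroupOf_sup hS hT, Subgroup.map_sup]

theorem img_le_normalizer {N S T : Subgroup G} (h : S ≤ normalizer (T : Set G)) :
    img N S ≤ normalizer ((img N T : Subgroup (Quo N)) : Set (Quo N)) := by
  unfold img
  refine le_trans (map_mono ?_) (le_normalizer_map (proj N))
  intro g hg
  have h1 : (g : G) ∈ normalizer (T : Set G) := h (mem_subgroupOf.mp hg)
  exact le_normalizer_comap (normalizer (N : Set G)).subtype (mem_comap.mpr h1)

theorem img_eq_bot_of_le {N S : Subgroup G} (h : S ≤ N) : img N S = ⊥ := by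
  rw [eq_bot_iff]
  intro y hy
  obtain ⟨s, hs, hsS, rfl⟩ := mem_img.mp hy
  rw [mem_bot, proj_eq_one_iff]
  exact h hsS

theorem le_of_img_eq_bot {N S : Subgroup G} (hS : S ≤ normalizer (N : Set G))
    (h : img N S = ⊥) : S ≤ N := by
  intro s hs
  have h1 : proj N ⟨s, hS hs⟩ ∈ img N S := mem_img.mpr ⟨s, hS hs, hs, rfl⟩
  rw [h, mem_bot, proj_eq_one_iff] at h1
  exact h1

/-- The restriction of the projection to a subgroup `S ≤ N_G(N)`, onto its image. -/
def imgHom (N : Subgroup G) {S : Subgroup G} (hS : S ≤ normalizer (N : Set G)) :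
    ↥S →* ↥(img N S) :=
  ((proj N).comp (inclusion hS)).codRestrict (img N S)
    (fun s => mem_img.mpr ⟨s.1, hS s.2, s.2, rfl⟩)

theorem imgHom_coe (N : Subgroup G) {S : Subgroup G} (hS : S ≤ normalizer (N : Set G)) (s : ↥S) :
    ((imgHom N hS s : ↥(img N S)) : Quo N) = proj N ⟨s.1, hS s.2⟩ := rfl

theorem imgHom_surjective (N : Subgroup G) {S : Subgroup G} (hS : S ≤ normalizer (N : Set G)) :
    Function.Surjective (imgHom N hS) := by
  rintro ⟨y, hy⟩
  obtain ⟨s, hs, hsS, rfl⟩ := mem_img.mp hy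
  exact ⟨⟨s, hsS⟩, Subtype.ext rfl⟩

theorem imgHom_eq_one_iff (N : Subgroup G) {S : Subgroup G} (hS : S ≤ normalizer (N : Set G))
    (s : ↥S) : imgHom N hS s = 1 ↔ (s : G) ∈ N := by
  rw [Subtype.ext_iff, imgHom_coe, coe_one, proj_eq_one_iff]

theorem card_img {N S : Subgroup G} (hS : S ≤ normalizer (N : Set G)) (h : S ⊓ N = ⊥) :
    Nat.card (img N S) = Nat.card S := by
  symm
  apply Nat.card_congr
  refine Equiv.ofBijective (imgHom N hS) ⟨?_, imgHom_surjective N hS⟩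
  rw [injective_iff_map_eq_one]
  intro s hs
  rw [imgHom_eq_one_iff] at hs
  have h1 : (s : G) ∈ S ⊓ N := ⟨s.2, hs⟩
  rw [h, mem_bot] at h1
  exact Subtype.ext h1

theorem isPGroup_img {N S : Subgroup G} {p : ℕ} (h : IsPGroup p S) : IsPGroup p (img N S) :=
  (h.comap_subtype).map (proj N)

theorem isElementaryAbelian_img {N S : Subgroup G} {p : ℕ} (h : Cfsg.IsElementaryAbelian p S) :
    Cfsg.IsElementaryAbelian p (img N S) := by
  have hc : IsMulCommutative ↥S := h.1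
  constructor
  · refine ⟨⟨fun a b => ?_⟩⟩
    obtain ⟨s, hs, hsS, h1⟩ := mem_img.mp a.2
    obtain ⟨t, ht, htS, h2⟩ := mem_img.mp b.2
    apply Subtype.ext
    rw [coe_mul, coe_mul, ← h1, ← h2, ← map_mul, ← map_mul]
    congr 1
    apply Subtype.ext
    have := mul_comm' (⟨s, hsS⟩ : ↥S) ⟨t, htS⟩
    show s * t = t * s
    exact congrArg Subtype.val this
  · intro a ha
    obtain ⟨s, hs, hsS, rfl⟩ := mem_img.mp ha
    rw [← map_pow]
    have h1 : (⟨s, hs⟩ : ↥(normalizer (N : Set G))) ^ p = 1 := by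
      apply Subtype.ext
      rw [coe_pow, coe_one]
      exact h.2 s hsS
    rw [h1, map_one]

/-- Elementwise description of `img N S ⊓ C(img N T)`. -/
theorem mem_img_inf_centralizer {N S T : Subgroup G} (hT : T ≤ normalizer (N : Set G))
    {y : Quo N} :
    y ∈ img N S ⊓ centralizer ((img N T : Subgroup (Quo N)) : Set (Quo N)) ↔
      ∃ s, ∃ hs : s ∈ normalizer (N : Set G), s ∈ S ∧ (∀ t ∈ T, (t * s)⁻¹ * (s * t) ∈ N) ∧
        proj N ⟨s, hs⟩ = y := by
  constructor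
  · rintro ⟨h1, h2⟩
    obtain ⟨s, hs, hsS, rfl⟩ := mem_img.mp h1
    refine ⟨s, hs, hsS, fun t ht => ?_, rfl⟩
    have h3 := mem_centralizer_iff.mp h2 (proj N ⟨t, hT ht⟩) (mem_img.mpr ⟨t, hT ht, ht, rfl⟩)
    rw [← map_mul, ← map_mul, proj_eq_proj_iff] at h3
    exact h3
  · rintro ⟨s, hs, hsS, h, rfl⟩
    refine ⟨mem_img.mpr ⟨s, hs, hsS, rfl⟩, ?_⟩
    show _ ∈ centralizer _
    rw [mem_centralizer_iff]
    intro z hz
    obtain ⟨t, ht, htT, rfl⟩ := mem_img.mp hz
    rw [← map_mul, ← map_mul, proj_eq_proj_iff]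
    exact h t htT

/-- If `T` normalizes `S` and `S ⊓ N = ⊥`, centralizers of `T` in `S` pass to the quotient. -/
theorem img_inf_centralizer_of_left {N S T : Subgroup G} (hT : T ≤ normalizer (N : Set G))
    (hTS : T ≤ normalizer (S : Set G)) (h : S ⊓ N = ⊥) :
    img N S ⊓ centralizer ((img N T : Subgroup (Quo N)) : Set (Quo N)) =
      img N (S ⊓ centralizer (T : Set G)) := by
  ext y
  rw [mem_img_inf_centralizer hT]
  constructor
  · rintro ⟨s, hs, hsS, h1, rfl⟩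
    refine mem_img.mpr ⟨s, hs, ⟨hsS, ?_⟩, rfl⟩
    show _ ∈ centralizer _
    rw [mem_centralizer_iff]
    intro t ht
    have h2 := h1 t ht
    have h3 : (t * s)⁻¹ * (s * t) ∈ S := by
      have h4 : t⁻¹ * s * t⁻¹⁻¹ ∈ S :=
        (mem_normalizer_iff.mp (hTS (T.inv_mem ht)) s).mp hsS
      have h5 : (t * s)⁻¹ * (s * t) = s⁻¹ * (t⁻¹ * s * t⁻¹⁻¹) := by group
      rw [h5]
      exact S.mul_mem (S.inv_mem hsS) h4
    have h6 : (t * s)⁻¹ * (s * t) ∈ S ⊓ N := ⟨h3, h2⟩
    rw [h, mem_bot] at h6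
    exact (inv_mul_eq_one.mp h6)
  · intro hy
    obtain ⟨s, hs, ⟨hsS, hsC⟩, rfl⟩ := mem_img.mp hy
    refine ⟨s, hs, hsS, fun t ht => ?_, rfl⟩
    rw [mem_centralizer_iff.mp hsC t ht, inv_mul_cancel]
    exact N.one_mem

/-- If `S` normalizes `T` and `T ⊓ N = ⊥`, centralizers of `T` in `S` pass to the quotient. -/
theorem img_inf_centralizer_of_right {N S T : Subgroup G} (hT : T ≤ normalizer (N : Set G))
    (hST : S ≤ normalizer (T : Set G)) (h : T ⊓ N = ⊥) :
    img N S ⊓ centralizer ((img N T : Subgroup (Quo N)) : Set (Quo N)) =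
      img N (S ⊓ centralizer (T : Set G)) := by
  ext y
  rw [mem_img_inf_centralizer hT]
  constructor
  · rintro ⟨s, hs, hsS, h1, rfl⟩
    refine mem_img.mpr ⟨s, hs, ⟨hsS, ?_⟩, rfl⟩
    show _ ∈ centralizer _
    rw [mem_centralizer_iff]
    intro t ht
    have h2 := h1 t ht
    have h3 : (t * s)⁻¹ * (s * t) ∈ T := by
      have h4 : s⁻¹ * t⁻¹ * s⁻¹⁻¹ ∈ T :=
        (mem_normalizer_iff.mp (inv_mem (hST hsS)) t⁻¹).mp (T.inv_mem ht)
      have h5 : (t * s)⁻¹ * (s * t) = (s⁻¹ * t⁻¹ * s⁻¹⁻¹) * t := by group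
      rw [h5]
      exact T.mul_mem h4 ht
    have h6 : (t * s)⁻¹ * (s * t) ∈ T ⊓ N := ⟨h3, h2⟩
    rw [h, mem_bot] at h6
    exact (inv_mul_eq_one.mp h6)
  · intro hy
    obtain ⟨s, hs, ⟨hsS, hsC⟩, rfl⟩ := mem_img.mp hy
    refine ⟨s, hs, hsS, fun t ht => ?_, rfl⟩
    rw [mem_centralizer_iff.mp hsC t ht, inv_mul_cancel]
    exact N.one_mem

end Cfsg.Agent.Helper71.QI
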