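import Mathlib
import Cfsg.Prelude.Def_Transfer
import Cfsg.Agent.Helper63.Frattini
import Cfsg.Agent.Helper47.Frattini
import Cfsg.Agent.S3754

/-!
# Extraspecial images of special groups

* `commutatorElement_pow_left`: `⁅a ^ n, b⁆ = ⁅a, b⁆ ^ n` when `⁅a, b⁆` commutes with `a`.
* `special_center_pow`: the centre of a finite special `q`-group has exponent `q`.
* `isExtraspecial_of_surjective`: a surjective image `E` of a special `q`-group `P`, such that the
  image of the centre is cyclic and nontrivial and such that only central elements of `P` become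
  central in `E`, is extraspecial, with `Z(E)` the image of `Z(P)`.
-/

set_option autoImplicit false

namespace Cfsg.Agent.Helper71

open Subgroup
open scoped commutatorElement

theorem commutatorElement_pow_left {P : Type*} [Group P] (a b : P) (h : Commute ⁅a, b⁆ a)
    (n : ℕ) : ⁅a ^ n, b⁆ = ⁅a, b⁆ ^ n := by
  induction n with
  | zero => simp
  | succ n ih =>
    have h1 : ⁅a ^ (n + 1), b⁆ = (a ^ n * ⁅a, b⁆ * (a ^ n)⁻¹) * ⁅a ^ n, b⁆ := by
      simp only [commutatorElement_def, pow_succ]; group
    have h2 : a ^ n * ⁅a, b⁆ * (a ^ n)⁻¹ = ⁅a, b⁆ := by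
      have := (h.pow_right n).eq
      rw [← this, mul_inv_cancel_right]
    rw [h1, h2, ih, pow_succ']

theorem special_center_pow {P : Type*} [Group P] [Finite P] {q : ℕ} [Fact q.Prime]
    (h : Cfsg.IsSpecial q P) : ∀ z ∈ center P, z ^ q = 1 := by
  intro z hz
  have hz' : z ∈ commutator P := by rw [h.2.2]; exact hz
  rw [_root_.commutator_def, Subgroup.commutator_def] at hz'
  have key : ∀ w ∈ closure {g | ∃ g₁ ∈ (⊤ : Subgroup P), ∃ g₂ ∈ (⊤ : Subgroup P), ⁅g₁, g₂⁆ = g},
      w ∈ center P ∧ w ^ q = 1 := by
    intro w hw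
    induction hw using Subgroup.closure_induction with
    | mem x hx =>
      obtain ⟨a, -, b, -, rfl⟩ := hx
      have hc : ⁅a, b⁆ ∈ center P := by
        rw [← h.2.2, _root_.commutator_def]
        exact Subgroup.commutator_mem_commutator (mem_top a) (mem_top b)
      refine ⟨hc, ?_⟩
      have hcomm : Commute ⁅a, b⁆ a := (Subgroup.mem_center_iff.mp hc a).symm
      rw [← commutatorElement_pow_left a b hcomm q]
      have haq : a ^ q ∈ center P := by
        rw [← h.2.1]; exact Cfsg.Agent.Helper63.pow_prime_mem_frattini h.1 a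
      rw [commutatorElement_eq_one_iff_commute]
      exact (Subgroup.mem_center_iff.mp haq b).symm
    | one => exact ⟨one_mem _, one_pow _⟩
    | mul x y _ _ hx hy =>
      refine ⟨mul_mem hx.1 hy.1, ?_⟩
      have hc : Commute x y := (Subgroup.mem_center_iff.mp hx.1 y).symm
      rw [hc.mul_pow, hx.2, hy.2, one_mul]
    | inv x _ hx => exact ⟨inv_mem hx.1, by rw [inv_pow, hx.2, inv_one]⟩
  exact (key z hz').2

theorem isExtraspecial_of_surjective {P E : Type*} [Group P] [Group E] [Finite P] {q : ℕ}
    [Fact q.Prime] (hP : Cfsg.IsSpecial q P) (f : P →* E) (hf : Function.Surjective f)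
    (u : P) (hu : u ∈ center P) (hfu : f u ≠ 1)
    (hgen : ∀ z ∈ center P, ∃ i : ℤ, f z = f u ^ i)
    (hnd : ∀ a : P, (∀ b : P, f ⁅a, b⁆ = 1) → a ∈ center P) :
    Cfsg.IsExtraspecial q E ∧ center E = (center P).map f := by
  have : Finite E := Finite.of_surjective f hf
  have hq : q.Prime := Fact.out
  have hE : IsPGroup q E := hP.1.of_surjective f hf
  have hcen : center E = (center P).map f := by
    apply le_antisymm
    · intro y hy
      obtain ⟨a, rfl⟩ := hf y
      refine ⟨a, hnd a (fun b => ?_), rfl⟩
      rw [map_commutatorElement, commutatorElement_eq_one_iff_commute]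
      exact (Subgroup.mem_center_iff.mp hy (f b)).symm
    · rintro _ ⟨z, hz, rfl⟩
      rw [Subgroup.mem_center_iff]
      intro e
      obtain ⟨b, rfl⟩ := hf e
      rw [← map_mul, ← map_mul, Subgroup.mem_center_iff.mp hz b]
  have hcomm : commutator E = center E := by
    rw [hcen, ← hP.2.2, _root_.commutator_def, _root_.commutator_def, Subgroup.map_commutator,
      Subgroup.map_top_of_surjective f hf]
  have hfrat : frattini E = center E := by
    apply le_antisymm
    · apply Cfsg.Agent.Helper47.frattini_le_of_commutator_pow_mem (p := q) (center E)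
      · intro a b
        rw [← hcomm, _root_.commutator_def]
        exact Subgroup.commutator_mem_commutator (mem_top a) (mem_top b)
      · intro a
        obtain ⟨a', rfl⟩ := hf a
        rw [← map_pow, hcen]
        refine ⟨a' ^ q, ?_, rfl⟩
        rw [← hP.2.1]
        exact Cfsg.Agent.Helper63.pow_prime_mem_frattini hP.1 a'
    · rw [← hcomm]
      exact Cfsg.Agent.S3754.commutator_le_frattini_of_isPGroup hE
  have hcard : Nat.card (center E) = q := by
    have hz : center E = zpowers (f u) := by
      rw [hcen]
      apply le_antisymm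
      · rintro _ ⟨z, hz, rfl⟩
        obtain ⟨i, hi⟩ := hgen z hz
        rw [hi]
        exact zpow_mem (mem_zpowers _) i
      · rw [zpowers_le]
        exact ⟨u, hu, rfl⟩
    rw [hz, Nat.card_zpowers]
    have h1 : (f u) ^ q = 1 := by rw [← map_pow, special_center_pow hP u hu, map_one]
    exact orderOf_eq_prime h1 hfu
  exact ⟨⟨⟨hE, hfrat, hcomm⟩, hcard⟩, hcen⟩

end Cfsg.Agent.Helper71
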