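import Mathlib
import Cfsg.Prelude.Def_Transfer
import Cfsg.Agent.S0055
import Cfsg.Agent.Helper53.Conj
import Cfsg.Agent.Helper97.MinimalAction
import Cfsg.Agent.Helper71.FrobPP
import Cfsg.Agent.Helper71.ExtraQuot
import Cfsg.Agent.Helper71.ShultBasic

/-!
# The special case of the Shult-type reduction: structure inside the ambient group
-/

set_option autoImplicit false

namespace Cfsg.Agent.Helper71.Shult

open Subgroup
open scoped commutatorElement

variable {G : Type*} [Group G]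

/-- the centre of a subgroup, as a subgroup of the ambient group -/
abbrev zOf (Q₁ : Subgroup G) : Subgroup G := (center ↥Q₁).map Q₁.subtype

theorem zOf_le (Q₁ : Subgroup G) : zOf Q₁ ≤ Q₁ := map_subtype_le _

theorem mem_zOf_iff {Q₁ : Subgroup G} {z : G} :
    z ∈ zOf Q₁ ↔ z ∈ Q₁ ∧ ∀ a ∈ Q₁, a * z = z * a := by
  constructor
  · rintro ⟨c, hc, rfl⟩
    refine ⟨c.2, fun a ha => ?_⟩
    have := Subgroup.mem_center_iff.mp hc ⟨a, ha⟩
    exact congrArg Subtype.val this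
  · rintro ⟨hz, h⟩
    refine ⟨⟨z, hz⟩, ?_, rfl⟩
    show (⟨z, hz⟩ : ↥Q₁) ∈ center ↥Q₁
    rw [Subgroup.mem_center_iff]
    intro a
    exact Subtype.ext (h a a.2)

theorem le_centralizer_zOf (Q₁ : Subgroup G) : Q₁ ≤ centralizer (zOf Q₁ : Set G) := by
  intro a ha
  rw [mem_centralizer_iff]
  intro z hz
  exact ((mem_zOf_iff.mp hz).2 a ha).symm

theorem normalizer_le_normalizer_zOf (Q₁ : Subgroup G) :
    normalizer (Q₁ : Set G) ≤ normalizer (zOf Q₁ : Set G) :=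
  Cfsg.Agent.Helper53.char_map_normalizer_le Q₁ (center ↥Q₁) inferInstance

theorem zOf_subgroupOf (Q₁ : Subgroup G) : (zOf Q₁).subgroupOf Q₁ = center ↥Q₁ :=
  comap_map_eq_self_of_injective (subtype_injective _) _

/-- Irreducibility on the Frattini quotient, in the form used below. -/
theorem le_zOf_or_eq [Finite G] {X Q₁ : Subgroup G}
    (hfc : frattini ↥Q₁ = center ↥Q₁) (hXQ₁ : X ≤ normalizer (Q₁ : Set G))
    (hirr : ∀ U : Subgroup G, (frattini ↥Q₁).map Q₁.subtype ≤ U → U ≤ Q₁ →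
      X ≤ normalizer (U : Set G) → U = (frattini ↥Q₁).map Q₁.subtype ∨ U = Q₁)
    {U : Subgroup G} (hU : U ≤ Q₁) (hXU : X ≤ normalizer (U : Set G)) :
    U ≤ zOf Q₁ ∨ U = Q₁ := by
  have hXZ : X ≤ normalizer (zOf Q₁ : Set G) := hXQ₁.trans (normalizer_le_normalizer_zOf Q₁)
  rw [hfc] at hirr
  rcases hirr (U ⊔ zOf Q₁) le_sup_right (sup_le hU (zOf_le Q₁)) (sup_le_normalizer hXU hXZ)
    with h | h
  · left
    exact le_sup_left.trans h.le
  · right
    have h1 : (U ⊔ zOf Q₁).subgroupOf Q₁ = ⊤ := by rw [h]; exact subgroupOf_self Q₁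
    rw [subgroupOf_sup hU (zOf_le Q₁), zOf_subgroupOf, ← hfc] at h1
    have h2 := frattini_nongenerating h1
    exact le_antisymm hU (subgroupOf_eq_top.mp h2)

/-- Facts about the centre of the minimal special group. -/
theorem zOf_facts [Finite G] {q : ℕ} (hq : q.Prime) {X Q₁ : Subgroup G}
    (hsp : Cfsg.IsSpecial q ↥Q₁) (hXQ₁ : X ≤ normalizer (Q₁ : Set G)) (hnt : ⁅Q₁, X⁆ ≠ ⊥)
    (hmin : ∀ U : Subgroup G, U < Q₁ → X ≤ normalizer (U : Set G) → ⁅U, X⁆ = ⊥) :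
    zOf Q₁ ≠ Q₁ ∧ zOf Q₁ ≠ ⊥ ∧ X ≤ centralizer (zOf Q₁ : Set G) ∧ ∀ z ∈ zOf Q₁, z ^ q = 1 := by
  haveI : Fact q.Prime := ⟨hq⟩
  have hQne : Q₁ ≠ ⊥ := by
    rintro rfl
    exact hnt (commutator_bot_left X)
  haveI : Nontrivial ↥Q₁ := (nontrivial_iff_ne_bot Q₁).mpr hQne
  have h1 : zOf Q₁ ≠ Q₁ := by
    intro h
    have h2 : center ↥Q₁ = ⊤ := by
      rw [← zOf_subgroupOf, h]; exact subgroupOf_self Q₁
    have h3 : frattini ↥Q₁ = ⊤ := by rw [hsp.2.1, h2]
    have h4 : (⊥ : Subgroup ↥Q₁) = ⊤ := frattini_nongenerating (by rw [h3]; simp)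
    exact bot_ne_top h4
  have h2 : zOf Q₁ ≠ ⊥ := by
    intro h
    have h3 : center ↥Q₁ = ⊥ := by
      rw [← zOf_subgroupOf, h]; exact bot_subgroupOf Q₁
    exact (hsp.1.bot_lt_center).ne' h3
  have hXZ : X ≤ normalizer (zOf Q₁ : Set G) := hXQ₁.trans (normalizer_le_normalizer_zOf Q₁)
  have h3 : ⁅zOf Q₁, X⁆ = ⊥ := hmin _ (lt_of_le_of_ne (zOf_le Q₁) h1) hXZ
  refine ⟨h1, h2, ?_, ?_⟩
  · exact le_centralizer_symm (commutator_eq_bot_iff_le_centralizer.mp h3)
  · rintro _ ⟨c, hc, rfl⟩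
    have := special_center_pow hsp c hc
    have h4 := congrArg Subtype.val this
    simpa using h4

/-- If `g ^ a` and `g ^ b` lie in a subgroup, with `a` and `b` coprime, then so does `g`. -/
theorem mem_of_pow_mem_of_coprime {H : Subgroup G} {g : G} {a b : ℕ} (hab : a.Coprime b)
    (ha : g ^ a ∈ H) (hb : g ^ b ∈ H) : g ∈ H := by
  have h1 : (1 : ℤ) = a * Nat.gcdA a b + b * Nat.gcdB a b := by
    have := Nat.gcd_eq_gcd_ab a b
    rw [hab] at this
    exact_mod_cast this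
  have h2 : g = (g ^ a) ^ (Nat.gcdA a b) * (g ^ b) ^ (Nat.gcdB a b) := by
    rw [← zpow_natCast, ← zpow_natCast, ← zpow_mul, ← zpow_mul, ← zpow_add, ← h1, zpow_one]
  rw [h2]
  exact H.mul_mem (H.zpow_mem ha _) (H.zpow_mem hb _)

/-- A central elementary abelian `q`-subgroup `Z` of `H`, acting faithfully on the elementary
abelian `p`-group `V`, acts on some nontrivial `H`-invariant subgroup `V₁` of `V` with all
elements outside the kernel fixed-point-free; consequently its image there is cyclic. -/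
theorem exists_module_and_generator [Finite G] {p q : ℕ} (hp : p.Prime) (hq : q.Prime)
    (hpq : p ≠ q) {H Z V : Subgroup G} (hZH : Z ≤ H) (hHZ : H ≤ centralizer (Z : Set G))
    (hZpow : ∀ z ∈ Z, z ^ q = 1) (hZ1 : Z ≠ ⊥) (hV : Cfsg.IsElementaryAbelian p V)
    (hHV : H ≤ normalizer (V : Set G)) (hfaith : H ⊓ centralizer (V : Set G) = ⊥) :
    ∃ V₁ : Subgroup G, V₁ ≤ V ∧ V₁ ≠ ⊥ ∧ H ≤ normalizer (V₁ : Set G) ∧
      ∃ u ∈ Z, u ∉ centralizer (V₁ : Set G) ∧
        ∀ z ∈ Z, ∃ i : ℕ, u ^ i * z ∈ centralizer (V₁ : Set G) := by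
  haveI : Fact q.Prime := ⟨hq⟩
  haveI : Fact p.Prime := ⟨hp⟩
  have hZV : Z ≤ normalizer (V : Set G) := hZH.trans hHV
  have hZq : IsPGroup q Z := by
    intro z
    refine ⟨1, ?_⟩
    apply Subtype.ext
    rw [pow_one, coe_pow, coe_one]
    exact hZpow z z.2
  obtain ⟨k, hk⟩ := (IsPGroup.iff_card).mp hZq
  obtain ⟨a, ha⟩ := (IsPGroup.iff_card).mp (isPGroup_of_isElementaryAbelian hV)
  have hqp : q.Coprime p := (Nat.coprime_primes hq hp).mpr hpq.symm
  have hcop : (Nat.card Z).Coprime (Nat.card V) := by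
    rw [hk, ha]; exact Nat.Coprime.pow _ _ hqp
  haveI : IsMulCommutative ↥V := hV.1
  have h55 := (Cfsg.Agent.S0055.result Z V hZV hcop).1
  have hV₀V : ⁅V, Z⁆ ≤ V := Subgroup.le_normalizer_iff_commutator_le_left.mp hZV
  have hV₀ne : ⁅V, Z⁆ ≠ ⊥ := by
    intro h
    have h1 : Z ≤ centralizer (V : Set G) :=
      le_centralizer_symm (commutator_eq_bot_iff_le_centralizer.mp h)
    have h2 : Z ≤ H ⊓ centralizer (V : Set G) := le_inf hZH h1
    rw [hfaith] at h2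
    exact hZ1 (eq_bot_iff.mpr h2)
  have hHZn : H ≤ normalizer (Z : Set G) := le_normalizer_of_le_centralizer hHZ
  have hHV₀ : H ≤ normalizer ((⁅V, Z⁆ : Subgroup G) : Set G) :=
    fun h hh => Cfsg.Agent.Helper97.mem_normalizer_commutator (hHV hh) (hHZn hh)
  obtain ⟨V₁, hV₁V₀, hHV₁, hV₁ne, hV₁min⟩ :=
    exists_min_action H ⁅V, Z⁆ (fun U => U ≠ ⊥) hV₀ne hHV₀
  have hV₁V : V₁ ≤ V := hV₁V₀.trans hV₀V
  -- dichotomy
  have hfpf : ∀ z ∈ Z, z ∉ centralizer (V₁ : Set G) → ∀ v ∈ V₁, z * v = v * z → v = 1 := by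
    intro z hz hzC v hv hzv
    have hT : H ≤ normalizer ((V₁ ⊓ centralizer ({z} : Set G) : Subgroup G) : Set G) := by
      apply le_normalizer_of_conj_mem
      intro h hh w hw
      refine ⟨conj_mem_of_le_normalizer hHV₁ hh hw.1, ?_⟩
      show _ ∈ centralizer _
      rw [mem_centralizer_iff]
      intro g hg
      rw [Set.mem_singleton_iff] at hg
      subst hg
      have h1 : g * h = h * g := mem_centralizer_iff.mp (hHZ hh) g hz
      have h2 : g * w = w * g := mem_centralizer_iff.mp hw.2 g rfl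
      have h3 : g * h⁻¹ = h⁻¹ * g := by
        have : h⁻¹ * (g * h) * h⁻¹ = h⁻¹ * (h * g) * h⁻¹ := by rw [h1]
        simpa [mul_assoc] using this.symm
      calc g * (h * w * h⁻¹) = (g * h) * w * h⁻¹ := by group
        _ = h * (g * w) * h⁻¹ := by rw [h1]; group
        _ = h * w * (g * h⁻¹) := by rw [h2]; group
        _ = h * w * h⁻¹ * g := by rw [h3]; group
    by_cases hTV : V₁ ⊓ centralizer ({z} : Set G) = V₁
    · exfalso
      apply hzC
      rw [mem_centralizer_iff]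
      intro w hw
      have h1 : w ∈ V₁ ⊓ centralizer ({z} : Set G) := by rw [hTV]; exact hw
      exact (mem_centralizer_iff.mp h1.2 z rfl).symm
    · have hlt : V₁ ⊓ centralizer ({z} : Set G) < V₁ := lt_of_le_of_ne inf_le_left hTV
      have h1 := hV₁min _ hlt hT
      rw [not_not] at h1
      have h2 : v ∈ V₁ ⊓ centralizer ({z} : Set G) := by
        refine ⟨hv, ?_⟩
        show _ ∈ centralizer _
        rw [mem_centralizer_iff]
        intro g hg
        rw [Set.mem_singleton_iff] at hg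
        subst hg
        exact hzv
      rw [h1, mem_bot] at h2
      exact h2
  -- existence of `u`
  have hexu : ∃ u ∈ Z, u ∉ centralizer (V₁ : Set G) := by
    by_contra hcon
    push_neg at hcon
    have h1 : V₁ ≤ centralizer (Z : Set G) := le_centralizer_symm hcon
    have h2 : V₁ ≤ (V ⊓ centralizer (Z : Set G)) ⊓ ⁅V, Z⁆ := le_inf (le_inf hV₁V h1) hV₁V₀
    rw [h55] at h2
    exact hV₁ne (eq_bot_iff.mpr h2)
  obtain ⟨u, hu, huC⟩ := hexu
  refine ⟨V₁, hV₁V, hV₁ne, hHV₁, u, hu, huC, ?_⟩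
  intro z hz
  by_contra hcon
  push_neg at hcon
  have hcommV₁ : ∀ x y : ↥V₁, x * y = y * x := by
    intro x y
    have := mul_comm' (⟨x.1, hV₁V x.2⟩ : ↥V) ⟨y.1, hV₁V y.2⟩
    apply Subtype.ext
    show (x : G) * (y : G) = (y : G) * (x : G)
    exact congrArg Subtype.val this
  have huz : u * z = z * u := (mem_centralizer_iff.mp (hHZ (hZH hu)) z hz).symm
  have key := pow_eq_one_of_fpf_pair_subgroup V₁ hcommV₁ q hq.pos u z
    (fun n hn => conj_mem_of_le_normalizer hHV₁ (hZH hu) hn)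
    (fun n hn => conj_mem_of_le_normalizer hHV₁ (hZH hz) hn) huz (hZpow u hu) (hZpow z hz)
    (fun k hk0 hkq n hn hcomm => by
      have hcop' : k.Coprime q :=
        Nat.Coprime.symm ((Nat.Prime.coprime_iff_not_dvd hq).mpr (Nat.not_dvd_of_pos_of_lt hk0 hkq))
      have h1 : u ^ k ∉ centralizer (V₁ : Set G) := by
        intro h2
        apply huC
        apply mem_of_pow_mem_of_coprime hcop' h2
        rw [hZpow u hu]
        exact one_mem _
      exact hfpf (u ^ k) (Z.pow_mem hu k) h1 n hn hcomm)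
    (fun i _ n hn hcomm =>
      hfpf (u ^ i * z) (Z.mul_mem (Z.pow_mem hu i) hz) (hcon i) n hn hcomm)
  apply hV₁ne
  rw [eq_bot_iff]
  intro n hn
  rw [mem_bot]
  exact eq_one_of_pow_eq_one_of_coprime hqp (key n hn) (hV.2 n (hV₁V hn))

theorem pow_card_eq_one_of_mem [Finite G] {S : Subgroup G} {g : G} (hg : g ∈ S) :
    g ^ Nat.card S = 1 := by
  have h := pow_card_eq_one' (G := ↥S) (x := ⟨g, hg⟩)
  have h2 := congrArg Subtype.val h
  rw [coe_pow, coe_one] at h2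
  exact h2

/-- The elements of `Q₁` which are central modulo `K₀` (for `K₀` centralized by `Q₁`). -/
def relCenter (Q₁ K₀ : Subgroup G) (hK : ∀ k ∈ K₀, ∀ a ∈ Q₁, a * k = k * a) : Subgroup G where
  carrier := {a | a ∈ Q₁ ∧ ∀ b ∈ Q₁, ⁅a, b⁆ ∈ K₀}
  one_mem' := ⟨Q₁.one_mem, fun b _ => by rw [commutatorElement_one_left]; exact K₀.one_mem⟩
  mul_mem' := by
    rintro a₁ a₂ ⟨h1, h1'⟩ ⟨h2, h2'⟩
    refine ⟨Q₁.mul_mem h1 h2, fun b hb => ?_⟩
    have e : ⁅a₁ * a₂, b⁆ = a₁ * ⁅a₂, b⁆ * a₁⁻¹ * ⁅a₁, b⁆ := by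
      simp only [commutatorElement_def]; group
    rw [e, hK _ (h2' b hb) a₁ h1, mul_inv_cancel_right]
    exact K₀.mul_mem (h2' b hb) (h1' b hb)
  inv_mem' := by
    rintro a ⟨h1, h1'⟩
    refine ⟨Q₁.inv_mem h1, fun b hb => ?_⟩
    have e : ⁅a⁻¹, b⁆ = a⁻¹ * ⁅a, b⁆⁻¹ * a := by
      simp only [commutatorElement_def]; group
    rw [e, hK _ (K₀.inv_mem (h1' b hb)) a⁻¹ (Q₁.inv_mem h1), inv_mul_cancel_right]
    exact K₀.inv_mem (h1' b hb)

theorem mem_relCenter {Q₁ K₀ : Subgroup G} {hK : ∀ k ∈ K₀, ∀ a ∈ Q₁, a * k = k * a} {a : G} :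
    a ∈ relCenter Q₁ K₀ hK ↔ a ∈ Q₁ ∧ ∀ b ∈ Q₁, ⁅a, b⁆ ∈ K₀ := Iff.rfl

/-- The four structural facts about the configuration `X`, `Q₁`, `V₁`. -/
theorem special_facts [Finite G] {q r : ℕ} (hq : q.Prime) (hr : r.Prime) (hqr : q ≠ r)
    {X Q₁ V₁ : Subgroup G} (hX : Nat.card X = r) (hQ₁ : IsPGroup q Q₁)
    (hsp : Cfsg.IsSpecial q ↥Q₁) (hXQ₁ : X ≤ normalizer (Q₁ : Set G)) (hnt : ⁅Q₁, X⁆ ≠ ⊥)
    (hirr : ∀ U : Subgroup G, (frattini ↥Q₁).map Q₁.subtype ≤ U → U ≤ Q₁ →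
      X ≤ normalizer (U : Set G) → U = (frattini ↥Q₁).map Q₁.subtype ∨ U = Q₁)
    (hXZ : X ≤ centralizer (zOf Q₁ : Set G))
    (hXV₁ : X ≤ normalizer (V₁ : Set G)) (hQV₁ : Q₁ ≤ normalizer (V₁ : Set G))
    (hV₁X : ¬ V₁ ≤ centralizer (X : Set G))
    {u : G} (hu : u ∈ zOf Q₁) (huC : u ∉ centralizer (V₁ : Set G)) :
    Q₁ ⊓ centralizer (V₁ : Set G) = zOf Q₁ ⊓ centralizer (V₁ : Set G) ∧
    Q₁ ⊓ centralizer (X : Set G) = zOf Q₁ ∧
    (∀ a ∈ Q₁, (∀ b ∈ Q₁, ⁅a, b⁆ ∈ zOf Q₁ ⊓ centralizer (V₁ : Set G)) → a ∈ zOf Q₁) ∧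
    (X ⊔ Q₁) ⊓ centralizer (V₁ : Set G) = zOf Q₁ ⊓ centralizer (V₁ : Set G) := by
  haveI : Fact q.Prime := ⟨hq⟩
  have hfc := hsp.2.1
  have hZQ : zOf Q₁ ≤ Q₁ := zOf_le Q₁
  -- (a)
  have ha : Q₁ ⊓ centralizer (V₁ : Set G) = zOf Q₁ ⊓ centralizer (V₁ : Set G) := by
    apply le_antisymm
    · have hinv : X ≤ normalizer ((Q₁ ⊓ centralizer (V₁ : Set G) : Subgroup G) : Set G) :=
        inf_le_normalizer hXQ₁ (le_normalizer_centralizer hXV₁)
      rcases le_zOf_or_eq hfc hXQ₁ hirr inf_le_left hinv with h | h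
      · exact le_inf h inf_le_right
      · exfalso
        apply huC
        have : u ∈ Q₁ ⊓ centralizer (V₁ : Set G) := by rw [h]; exact hZQ hu
        exact this.2
    · exact inf_le_inf_right _ hZQ
  -- (b)
  have hb : Q₁ ⊓ centralizer (X : Set G) = zOf Q₁ := by
    apply le_antisymm
    · have hinv : X ≤ normalizer ((Q₁ ⊓ centralizer (X : Set G) : Subgroup G) : Set G) :=
        inf_le_normalizer hXQ₁ (le_normalizer_centralizer le_normalizer)
      rcases le_zOf_or_eq hfc hXQ₁ hirr inf_le_left hinv with h | h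
      · exact h
      · exfalso
        apply hnt
        apply commutator_eq_bot_of_le_centralizer
        rw [← h]
        exact inf_le_right
    · exact le_inf hZQ (le_centralizer_symm hXZ)
  -- `K₀` is centralized by `Q₁` and `X`
  have hK : ∀ k ∈ zOf Q₁ ⊓ centralizer (V₁ : Set G), ∀ a ∈ Q₁, a * k = k * a :=
    fun k hk a ha => (mem_zOf_iff.mp hk.1).2 a ha
  have hKX : ∀ k ∈ zOf Q₁ ⊓ centralizer (V₁ : Set G), ∀ x ∈ X, x * k = k * x :=
    fun k hk x hx => (mem_centralizer_iff.mp (hXZ hx) k hk.1).symm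
  -- (c)
  have hc : ∀ a ∈ Q₁, (∀ b ∈ Q₁, ⁅a, b⁆ ∈ zOf Q₁ ⊓ centralizer (V₁ : Set G)) → a ∈ zOf Q₁ := by
    intro a haQ hab
    have hinv : X ≤ normalizer ((relCenter Q₁ _ hK : Subgroup G) : Set G) := by
      apply le_normalizer_of_conj_mem
      intro x hx c hc
      rw [mem_relCenter] at hc ⊢
      refine ⟨conj_mem_of_le_normalizer hXQ₁ hx hc.1, fun b hb => ?_⟩
      have h1 := hc.2 _ (conj_inv_mem_of_le_normalizer hXQ₁ hx hb)
      have e : ⁅x * c * x⁻¹, b⁆ = x * ⁅c, x⁻¹ * b * x⁆ * x⁻¹ := by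
        simp only [commutatorElement_def]; group
      rw [e, hKX _ h1 x hx, mul_inv_cancel_right]
      exact h1
    have hle : relCenter Q₁ _ hK ≤ Q₁ := fun c hc => (mem_relCenter.mp hc).1
    rcases le_zOf_or_eq hfc hXQ₁ hirr hle hinv with h | h
    · exact h (mem_relCenter.mpr ⟨haQ, hab⟩)
    · exfalso
      apply huC
      have h1 : commutator ↥Q₁ ≤ (zOf Q₁ ⊓ centralizer (V₁ : Set G)).subgroupOf Q₁ := by
        rw [_root_.commutator_def, Subgroup.commutator_le]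
        intro g₁ _ g₂ _
        rw [mem_subgroupOf]
        have h2 : (g₁ : G) ∈ relCenter Q₁ _ hK := by rw [h]; exact g₁.2
        exact (mem_relCenter.mp h2).2 g₂ g₂.2
      obtain ⟨c, hc, rfl⟩ := hu
      rw [← hsp.2.2] at hc
      have := h1 hc
      rw [mem_subgroupOf] at this
      exact this.2
  refine ⟨ha, hb, hc, ?_⟩
  -- (d)
  apply le_antisymm
  · intro g hg
    have h1 : g ∈ ((X ⊔ Q₁ : Subgroup G) : Set G) := hg.1
    rw [coe_mul_of_left_le_normalizer_right X Q₁ hXQ₁] at h1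
    obtain ⟨x, hx, a, haQ, rfl⟩ := Set.mem_mul.mp h1
    by_cases hx1 : x = 1
    · subst hx1
      rw [one_mul] at hg ⊢
      rw [← ha]
      exact ⟨haQ, hg.2⟩
    · exfalso
      apply hV₁X
      -- conjugation by `x⁻¹` agrees with conjugation by `a` on `V₁`
      have hconj : ∀ w ∈ V₁, x⁻¹ * w * x = a * w * a⁻¹ := by
        intro w hw
        have h2 := mem_centralizer_iff.mp hg.2 w hw
        -- `w * (x * a) = (x * a) * w`
        calc x⁻¹ * w * x = x⁻¹ * (w * (x * a)) * a⁻¹ := by group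
          _ = x⁻¹ * ((x * a) * w) * a⁻¹ := by rw [h2]
          _ = a * w * a⁻¹ := by group
      have hiter : ∀ m : ℕ, ∀ w ∈ V₁, (x⁻¹) ^ m * w * x ^ m = a ^ m * w * (a⁻¹) ^ m := by
        intro m
        induction m with
        | zero => intro w _; simp
        | succ m ih =>
          intro w hw
          have h3 : a ^ m * w * (a⁻¹) ^ m ∈ V₁ := by
            have := conj_mem_of_le_normalizer hQV₁ (Q₁.pow_mem haQ m) hw
            rwa [← inv_pow] at this
          calc (x⁻¹) ^ (m + 1) * w * x ^ (m + 1)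
              = x⁻¹ * ((x⁻¹) ^ m * w * x ^ m) * x := by rw [pow_succ', pow_succ]; group
            _ = x⁻¹ * (a ^ m * w * (a⁻¹) ^ m) * x := by rw [ih w hw]
            _ = a * (a ^ m * w * (a⁻¹) ^ m) * a⁻¹ := hconj _ h3
            _ = a ^ (m + 1) * w * (a⁻¹) ^ (m + 1) := by rw [pow_succ', pow_succ]; group
      obtain ⟨k, hk⟩ := (IsPGroup.iff_card).mp hQ₁
      have ham : a ^ (q ^ k) = 1 := by rw [← hk]; exact pow_card_eq_one_of_mem haQ
      have hxm : x ^ (q ^ k) ≠ 1 := by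
        intro h
        apply hx1
        have hxr : x ^ r = 1 := by rw [← hX]; exact pow_card_eq_one_of_mem hx
        have hcop : (q ^ k).Coprime r :=
          Nat.Coprime.pow_left k ((Nat.coprime_primes hq hr).mpr hqr)
        exact eq_one_of_pow_eq_one_of_coprime hcop h hxr
      intro w hw
      have h4 := hiter (q ^ k) w hw
      have ham' : (a⁻¹) ^ (q ^ k) = 1 := by rw [inv_pow, ham, inv_one]
      rw [ham, ham', one_mul, mul_one, inv_pow] at h4
      have h5 : x ^ (q ^ k) * w = w * x ^ (q ^ k) := by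
        calc x ^ (q ^ k) * w = x ^ (q ^ k) * ((x ^ (q ^ k))⁻¹ * w * x ^ (q ^ k)) := by rw [h4]
          _ = w * x ^ (q ^ k) := by group
      exact mem_centralizer_of_prime_card hr hX (X.pow_mem hx _) hxm h5
  · exact inf_le_inf_right _ (hZQ.trans le_sup_right)

end Cfsg.Agent.Helper71.Shult
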