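import Mathlib
import Cfsg.Prelude.Def_Transfer
import Cfsg.Agent.S3764
import Cfsg.Agent.Helper71.ExtraQuot
import Cfsg.Agent.Helper71.QuotImage
import Cfsg.Agent.Helper71.ShultSpecial

/-!
# The quotient step of the Shult-type reduction

The configuration `X`, `Q₁`, `V₁`, `K₀` produced in `ShultSpecial` is passed to `N_G(K₀)/K₀`,
where `Q₁` becomes extraspecial, and `S3764` is applied.
-/

set_option autoImplicit false

namespace Cfsg.Agent.Helper71.Shult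

open Subgroup
open scoped commutatorElement

variable {G : Type*} [Group G]

/-- The coprime trick: if `x⁻¹ a x = a k` with `k` commuting with `x`, `x ^ r = 1`, `k ^ m = 1`
and `r`, `m` coprime, then `k = 1`. -/
theorem eq_one_of_conj_eq_mul {x a k : G} (hk : x⁻¹ * a * x = a * k) (hxk : x * k = k * x)
    {r m : ℕ} (hx : x ^ r = 1) (hkm : k ^ m = 1) (hcop : r.Coprime m) : k = 1 := by
  have hc : Commute x k := hxk
  have hiter : ∀ j : ℕ, (x⁻¹) ^ j * a * x ^ j = a * k ^ j := by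
    intro j
    induction j with
    | zero => simp
    | succ j ih =>
      have h1 : x⁻¹ * k ^ j * x = k ^ j := by
        have := (hc.pow_right j).eq
        rw [mul_assoc, ← this, inv_mul_cancel_left]
      calc (x⁻¹) ^ (j + 1) * a * x ^ (j + 1) = x⁻¹ * ((x⁻¹) ^ j * a * x ^ j) * x := by
            rw [pow_succ', pow_succ]; group
        _ = x⁻¹ * (a * k ^ j) * x := by rw [ih]
        _ = (x⁻¹ * a * x) * (x⁻¹ * k ^ j * x) := by group
        _ = a * k ^ (j + 1) := by rw [hk, h1, pow_succ', mul_assoc]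
  have h2 := hiter r
  rw [inv_pow, hx, inv_one, one_mul, mul_one] at h2
  have h3 : k ^ r = 1 := by
    have := mul_left_cancel (a := a) (b := 1) (c := k ^ r) (by rw [mul_one]; exact h2)
    exact this.symm
  exact eq_one_of_pow_eq_one_of_coprime hcop h3 hkm

theorem fermat_of_config [Finite G] {p q r : ℕ} (hp : p.Prime) (hq : q.Prime) (hr : r.Prime)
    (hpq : p ≠ q) (hpr : p ≠ r) (hqr : q ≠ r) {X Q₁ V₁ K₀ : Subgroup G}
    (hX : Nat.card X = r) (hQ₁ : IsPGroup q Q₁) (hsp : Cfsg.IsSpecial q ↥Q₁)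
    (hXQ₁ : X ≤ normalizer (Q₁ : Set G)) (hV₁ : Cfsg.IsElementaryAbelian p V₁)
    (hXV₁ : X ≤ normalizer (V₁ : Set G)) (hQV₁ : Q₁ ≤ normalizer (V₁ : Set G))
    (hK₀Z : K₀ ≤ zOf Q₁) (hK₀V : K₀ ≤ centralizer (V₁ : Set G))
    (hXK₀ : X ≤ centralizer (K₀ : Set G))
    {u : G} (hu : u ∈ zOf Q₁) (huK : u ∉ K₀) (hgen : ∀ z ∈ zOf Q₁, ∃ i : ℕ, u ^ i * z ∈ K₀)
    (hnd : ∀ a ∈ Q₁, (∀ b ∈ Q₁, ⁅a, b⁆ ∈ K₀) → a ∈ zOf Q₁)
    (hCQX : Q₁ ⊓ centralizer (X : Set G) = zOf Q₁)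
    (hker : (X ⊔ Q₁) ⊓ centralizer (V₁ : Set G) = K₀)
    (hCV : V₁ ⊓ centralizer (X : Set G) = ⊥) :
    q = 2 ∧ ∃ n : ℕ, r = 2 ^ n + 1 := by
  haveI : Fact q.Prime := ⟨hq⟩
  have hZQ : zOf Q₁ ≤ Q₁ := zOf_le Q₁
  have hQK : Q₁ ≤ centralizer (K₀ : Set G) :=
    (le_centralizer_zOf Q₁).trans (centralizer_le (by exact_mod_cast hK₀Z))
  have hVK : V₁ ≤ centralizer (K₀ : Set G) := le_centralizer_symm hK₀V
  have hXn : X ≤ normalizer (K₀ : Set G) := le_normalizer_of_le_centralizer hXK₀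
  have hQn : Q₁ ≤ normalizer (K₀ : Set G) := le_normalizer_of_le_centralizer hQK
  have hVn : V₁ ≤ normalizer (K₀ : Set G) := le_normalizer_of_le_centralizer hVK
  have hK₀q : IsPGroup q K₀ := hQ₁.to_le (hK₀Z.trans hZQ)
  obtain ⟨j, hj⟩ := (IsPGroup.iff_card).mp hK₀q
  obtain ⟨k, hk⟩ := (IsPGroup.iff_card).mp hQ₁
  haveI : Fact p.Prime := ⟨hp⟩
  obtain ⟨a, ha⟩ := (IsPGroup.iff_card).mp (isPGroup_of_isElementaryAbelian hV₁)
  have hrq : r.Coprime q := (Nat.coprime_primes hr hq).mpr hqr.symm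
  have hpq' : p.Coprime q := (Nat.coprime_primes hp hq).mpr hpq
  have hXK : X ⊓ K₀ = ⊥ := by
    apply inf_eq_bot_of_coprime_card
    rw [hX, hj]; exact Nat.Coprime.pow_right j hrq
  have hVK' : V₁ ⊓ K₀ = ⊥ := by
    apply inf_eq_bot_of_coprime_card
    rw [ha, hj]; exact Nat.Coprime.pow _ _ hpq'
  -- the extraspecial image
  obtain ⟨c, hc, rfl⟩ := hu
  have hfc : QI.imgHom K₀ hQn c ≠ 1 := by
    intro h
    rw [QI.imgHom_eq_one_iff] at h
    exact huK h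
  have hES := isExtraspecial_of_surjective hsp (QI.imgHom K₀ hQn) (QI.imgHom_surjective K₀ hQn)
    c hc hfc
    (fun z hz => by
      obtain ⟨i, hi⟩ := hgen (z : G) ⟨z, hz, rfl⟩
      refine ⟨-(i : ℤ), ?_⟩
      have h1 : QI.imgHom K₀ hQn (c ^ i * z) = 1 := by
        rw [QI.imgHom_eq_one_iff]
        simpa using hi
      rw [map_mul, map_pow] at h1
      rw [zpow_neg, zpow_natCast]
      exact eq_inv_of_mul_eq_one_right h1)
    (fun a hab => by
      have h1 : (a : G) ∈ zOf Q₁ := by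
        apply hnd a a.2
        intro b hb
        have h2 := hab ⟨b, hb⟩
        rw [QI.imgHom_eq_one_iff] at h2
        exact h2
      obtain ⟨c', hc', e⟩ := h1
      have : c' = a := Subtype.ext e
      rw [← this]
      exact hc')
  obtain ⟨hES1, hcen⟩ := hES
  have h1 : Nat.card (QI.img K₀ X) = r := by rw [QI.card_img hXn hXK, hX]
  have h3 : QI.img K₀ X ≤ normalizer ((QI.img K₀ Q₁ : Subgroup (QI.Quo K₀)) : Set (QI.Quo K₀)) :=
    QI.img_le_normalizer hXQ₁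
  have h4 : QI.img K₀ Q₁ ⊓ centralizer ((QI.img K₀ X : Subgroup (QI.Quo K₀)) : Set (QI.Quo K₀)) =
      (center ↥(QI.img K₀ Q₁)).map (QI.img K₀ Q₁).subtype := by
    ext y
    constructor
    · intro hy
      rw [QI.mem_img_inf_centralizer hXn] at hy
      obtain ⟨b, hb, hbQ, hcomm, rfl⟩ := hy
      have hbC : b ∈ centralizer (X : Set G) := by
        rw [mem_centralizer_iff]
        intro x hx
        have h5 := hcomm x hx
        have hxk : x * ((x * b)⁻¹ * (b * x)) = (x * b)⁻¹ * (b * x) * x :=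
          mem_centralizer_iff.mp (hXK₀ hx) _ h5 |>.symm
        have hkey : x⁻¹ * b * x = b * ((x * b)⁻¹ * (b * x)) := by group
        have h6 := eq_one_of_conj_eq_mul hkey hxk
          (by rw [← hX]; exact pow_card_eq_one_of_mem hx)
          (by rw [← hj]; exact pow_card_eq_one_of_mem h5)
          (Nat.Coprime.pow_right j hrq)
        exact (inv_mul_eq_one.mp h6)
      have hbZ : b ∈ zOf Q₁ := by rw [← hCQX]; exact ⟨hbQ, hbC⟩
      obtain ⟨c', hc', e⟩ := hbZ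
      refine ⟨QI.imgHom K₀ hQn c', ?_, ?_⟩
      · rw [SetLike.mem_coe, hcen]
        exact ⟨c', hc', rfl⟩
      · rw [coe_subtype, QI.imgHom_coe]
        congr 1
        exact Subtype.ext e
    · rintro ⟨z', hz', rfl⟩
      rw [SetLike.mem_coe, hcen] at hz'
      obtain ⟨z, hz, rfl⟩ := hz'
      rw [QI.mem_img_inf_centralizer hXn]
      refine ⟨(z : G), hQn z.2, z.2, fun x hx => ?_, rfl⟩
      have hzZ : (z : G) ∈ zOf Q₁ := ⟨z, hz, rfl⟩
      rw [← hCQX] at hzZ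
      have := mem_centralizer_iff.mp hzZ.2 x hx
      rw [this, inv_mul_cancel]
      exact K₀.one_mem
  have h5 : Cfsg.IsElementaryAbelian p (QI.img K₀ V₁) := QI.isElementaryAbelian_img hV₁
  have h6 : QI.img K₀ X ≤ normalizer ((QI.img K₀ V₁ : Subgroup (QI.Quo K₀)) : Set (QI.Quo K₀)) :=
    QI.img_le_normalizer hXV₁
  have h7 : QI.img K₀ Q₁ ≤ normalizer ((QI.img K₀ V₁ : Subgroup (QI.Quo K₀)) : Set (QI.Quo K₀)) :=
    QI.img_le_normalizer hQV₁
  have h8 : (QI.img K₀ X ⊔ QI.img K₀ Q₁) ⊓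
      centralizer ((QI.img K₀ V₁ : Subgroup (QI.Quo K₀)) : Set (QI.Quo K₀)) = ⊥ := by
    rw [← QI.img_sup hXn hQn, QI.img_inf_centralizer_of_right hVn (sup_le hXV₁ hQV₁) hVK', hker,
      QI.img_eq_bot_of_le le_rfl]
  have h9 : QI.img K₀ V₁ ⊓
      centralizer ((QI.img K₀ X : Subgroup (QI.Quo K₀)) : Set (QI.Quo K₀)) = ⊥ := by
    rw [QI.img_inf_centralizer_of_left hXn hXV₁ hVK', hCV, QI.img_eq_bot_of_le bot_le]
  have key := Cfsg.Agent.S3764.result (G := QI.Quo K₀) hp hq hr hpq hpr hqr (QI.img K₀ X)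
    (QI.img K₀ Q₁) (QI.img K₀ V₁) h1 hES1 h3 h4 h5 h6 h7 h8 h9
  obtain ⟨hq2, n, hn, -⟩ := key
  exact ⟨hq2, n, hn⟩

end Cfsg.Agent.Helper71.Shult
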