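import Mathlib
import Cfsg.Prelude.Def_Transfer
import Cfsg.Agent.S0043
import Cfsg.Agent.S0022
import Cfsg.Agent.S3769
import Cfsg.Agent.Helper11.Uniserial
import Cfsg.Agent.Helper97.ChiefFitting
import Cfsg.Agent.Helper71.ShultBasic
import Cfsg.Agent.Helper71.QuotImage

/-!
# Chief factors and prime-order operators (tools for S1445)

* `chiefCent U V`: the kernel of the conjugation action on the normal section `U / V`.
* `chief_elementary`: a chief factor of a finite solvable group is elementary abelian.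
* `commutator_sup_ne_of_isPGroup`: an `ℓ`-subgroup `S` acting on the nontrivial `ℓ`-section `U / V`
  has `[U, S] V ≠ U`.
* `commutator_le_chiefCent`: S3769 transported to a section: a subgroup `R₀` of prime order
  without fixed points on the elementary abelian `ℓ`-section `U / V`, normalizing an `ℓ'`-group
  `Q` (odd order situation), has `[R₀, Q]` acting trivially on `U / V`.
-/

set_option autoImplicit false

namespace Cfsg.Agent.Helper71.Shult

open Subgroup Cfsg.Agent.Helper97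
open scoped commutatorElement

variable {G : Type*} [Group G]

/-- The kernel of the conjugation action on the section `U / V` (both normal). -/
def chiefCent (U V : Subgroup G) [hU : U.Normal] [hV : V.Normal] : Subgroup G where
  carrier := {g | ∀ u ∈ U, ⁅u, g⁆ ∈ V}
  one_mem' := fun u _ => by rw [commutatorElement_one_right]; exact V.one_mem
  mul_mem' := by
    intro g₁ g₂ h1 h2 u hu
    have e : ⁅u, g₁ * g₂⁆ = ⁅u, g₁⁆ * (g₁ * ⁅u, g₂⁆ * g₁⁻¹) := by
      simp only [commutatorElement_def]; group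
    rw [e]
    exact V.mul_mem (h1 u hu) (hV.conj_mem _ (h2 u hu) g₁)
  inv_mem' := by
    intro g h u hu
    have e : ⁅u, g⁻¹⁆ = g⁻¹ * ⁅u, g⁆⁻¹ * g⁻¹⁻¹ := by
      simp only [commutatorElement_def]; group
    rw [e]
    exact hV.conj_mem _ (V.inv_mem (h u hu)) g⁻¹

theorem mem_chiefCent {U V : Subgroup G} [U.Normal] [V.Normal] {g : G} :
    g ∈ chiefCent U V ↔ ∀ u ∈ U, ⁅u, g⁆ ∈ V := Iff.rfl

instance chiefCent_normal (U V : Subgroup G) [hU : U.Normal] [hV : V.Normal] :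
    (chiefCent U V).Normal := by
  constructor
  intro g hg h
  rw [mem_chiefCent] at hg ⊢
  intro u hu
  have h1 : h⁻¹ * u * h⁻¹⁻¹ ∈ U := hU.conj_mem u hu h⁻¹
  have e : ⁅u, h * g * h⁻¹⁆ = h * ⁅h⁻¹ * u * h⁻¹⁻¹, g⁆ * h⁻¹ := by
    simp only [commutatorElement_def]; group
  rw [e]
  exact hV.conj_mem _ (hg _ h1) h

/-- A chief factor of a finite solvable group is an elementary abelian `ℓ`-group. -/
theorem chief_elementary [Finite G] [Group.IsSolvable G] {U V : Subgroup G}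
    (h : IsChiefPair U V) :
    ∃ ℓ : ℕ, ℓ.Prime ∧ (∀ u ∈ U, u ^ ℓ ∈ V) ∧ (∀ u ∈ U, ∀ u' ∈ U, ⁅u, u'⁆ ∈ V) := by
  obtain ⟨hU, hV, hlt, hmin⟩ := h
  have hker : (QuotientGroup.mk' V).ker = V := QuotientGroup.ker_mk' V
  have hsurj : Function.Surjective (QuotientGroup.mk' V) := QuotientGroup.mk'_surjective V
  have hUn : (U.map (QuotientGroup.mk' V)).Normal := hU.map _ hsurj
  have hne : U.map (QuotientGroup.mk' V) ≠ ⊥ := by
    intro h0
    rw [Subgroup.map_eq_bot_iff, hker] at h0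
    exact absurd (le_antisymm h0 hlt.le) (ne_of_gt hlt)
  have hmin' : ∀ M : Subgroup (G ⧸ V), M.Normal → M ≤ U.map (QuotientGroup.mk' V) →
      M = ⊥ ∨ M = U.map (QuotientGroup.mk' V) := by
    intro M hM hMU
    have h1 : (M.comap (QuotientGroup.mk' V)).Normal := hM.comap _
    have h2 : V ≤ M.comap (QuotientGroup.mk' V) :=
      hker.symm.le.trans (ker_le_comap _ _)
    have h3 : M.comap (QuotientGroup.mk' V) ≤ U := by
      have := comap_mono (f := QuotientGroup.mk' V) hMU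
      rw [comap_map_eq, hker, sup_eq_left.mpr hlt.le] at this
      exact this
    rcases hmin _ h1 h2 h3 with h4 | h4
    · left
      rw [← map_comap_eq_self_of_surjective hsurj M, h4, Subgroup.map_eq_bot_iff, hker]
    · right
      rw [← map_comap_eq_self_of_surjective hsurj M, h4]
  obtain ⟨hc, ℓ, hℓ, hpow⟩ := Cfsg.Agent.S0043.result (U.map (QuotientGroup.mk' V)) hne hmin'
  refine ⟨ℓ, hℓ, ?_, ?_⟩
  · intro u hu
    have h1 := hpow _ (mem_map_of_mem (QuotientGroup.mk' V) hu)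
    rw [← map_pow] at h1
    rw [← hker]
    exact h1
  · intro u hu u' hu'
    have h1 := mul_comm' (⟨_, mem_map_of_mem (QuotientGroup.mk' V) hu⟩ :
      ↥(U.map (QuotientGroup.mk' V))) ⟨_, mem_map_of_mem (QuotientGroup.mk' V) hu'⟩
    have h2 : (QuotientGroup.mk' V) u * (QuotientGroup.mk' V) u' =
        (QuotientGroup.mk' V) u' * (QuotientGroup.mk' V) u := congrArg Subtype.val h1
    rw [← hker, MonoidHom.mem_ker, map_commutatorElement, commutatorElement_eq_one_iff_commute]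
    exact h2

/-- An `ℓ`-subgroup cannot act on a nontrivial `ℓ`-section `U / V` with `[U, S] V = U`. -/
theorem commutator_sup_ne_of_isPGroup [Finite G] {U V S : Subgroup G} [hU : U.Normal]
    [hV : V.Normal] (hVU : V < U) {ℓ : ℕ} [Fact ℓ.Prime] (hUℓ : ∀ u ∈ U, u ^ ℓ ∈ V)
    (hS : IsPGroup ℓ S) : ⁅U, S⁆ ⊔ V ≠ U := by
  intro h
  have hker : (QuotientGroup.mk' V).ker = V := QuotientGroup.ker_mk' V
  have hsurj : Function.Surjective (QuotientGroup.mk' V) := QuotientGroup.mk'_surjective V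
  have hUn : (U.map (QuotientGroup.mk' V)).Normal := hU.map _ hsurj
  have hne : U.map (QuotientGroup.mk' V) ≠ ⊥ := by
    intro h0
    rw [Subgroup.map_eq_bot_iff, hker] at h0
    exact absurd (le_antisymm h0 hVU.le) (ne_of_gt hVU)
  have hUp : IsPGroup ℓ ↥(U.map (QuotientGroup.mk' V)) := by
    rintro ⟨y, hy⟩
    obtain ⟨u, hu, rfl⟩ := mem_map.mp hy
    refine ⟨1, ?_⟩
    apply Subtype.ext
    rw [pow_one, coe_pow, coe_one]
    show (QuotientGroup.mk' V) u ^ ℓ = 1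
    rw [← map_pow, ← MonoidHom.mem_ker, hker]
    exact hUℓ u hu
  have hSp : IsPGroup ℓ ↥(S.map (QuotientGroup.mk' V)) := hS.map _
  have hnorm : S.map (QuotientGroup.mk' V) ≤
      normalizer ((U.map (QuotientGroup.mk' V) : Subgroup (G ⧸ V)) : Set (G ⧸ V)) := by
    rw [normalizer_eq_top]; exact le_top
  have key := Cfsg.Agent.Helper11.commutator_ne_self hUp hSp hnorm hne
  apply key
  rw [← map_commutator]
  have hVbot : V.map (QuotientGroup.mk' V) = ⊥ := by rw [Subgroup.map_eq_bot_iff, hker]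
  conv_rhs => rw [← h]
  rw [Subgroup.map_sup, hVbot, sup_bot_eq]

theorem card_img_dvd [Finite G] {N S : Subgroup G} (hS : S ≤ normalizer (N : Set G)) :
    Nat.card (QI.img N S) ∣ Nat.card S :=
  Subgroup.card_dvd_of_surjective (QI.imgHom N hS) (QI.imgHom_surjective N hS)

/-- **S3769 on a section.** -/
theorem commutator_le_chiefCent [Finite G] [Group.IsSolvable G] (hodd : Odd (Nat.card G))
    {U V : Subgroup G} [hU : U.Normal] [hV : V.Normal] {ℓ q r : ℕ} (hℓ : ℓ.Prime) (hq : q.Prime)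
    (hr : r.Prime) (hUℓ : ∀ u ∈ U, u ^ ℓ ∈ V) (hUab : ∀ u ∈ U, ∀ u' ∈ U, ⁅u, u'⁆ ∈ V)
    {R₀ Q : Subgroup G} (hR₀ : Nat.card R₀ = r) (hQ : IsPGroup q Q)
    (hRQ : R₀ ≤ normalizer (Q : Set G)) (hqr : q ≠ r) (hℓq : ℓ ≠ q) (hℓr : ℓ ≠ r)
    (hRV : R₀ ⊓ V = ⊥) (hfix : ∀ u ∈ U, (∀ t ∈ R₀, ⁅t, u⁆ ∈ V) → u ∈ V) :
    ⁅R₀, Q⁆ ≤ chiefCent U V := by
  haveI : Fact q.Prime := ⟨hq⟩
  have hVn : ∀ S : Subgroup G, S ≤ normalizer (V : Set G) := fun S => by
    rw [normalizer_eq_top]; exact le_top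
  have hUn : ∀ S : Subgroup G, S ≤ normalizer (U : Set G) := fun S => by
    rw [normalizer_eq_top]; exact le_top
  have hQn : Q ⊔ R₀ ≤ normalizer (Q : Set G) := sup_le le_normalizer hRQ
  -- cardinalities
  have h1 : Nat.card (QI.img V R₀) = r := by rw [QI.card_img (hVn R₀) hRV, hR₀]
  obtain ⟨a, ha⟩ := (IsPGroup.iff_card).mp (QI.isPGroup_img (N := V) hQ)
  obtain ⟨b, hb⟩ := (IsPGroup.iff_card).mp hQ
  have hqr' : q.Coprime r := (Nat.coprime_primes hq hr).mpr hqr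
  have hKR : QI.img V Q ⊓ QI.img V R₀ = ⊥ := by
    apply inf_eq_bot_of_coprime_card
    rw [ha, h1]; exact Nat.Coprime.pow_left a hqr'
  have hsup : QI.img V Q ⊔ QI.img V R₀ = QI.img V (Q ⊔ R₀) := (QI.img_sup (hVn Q) (hVn R₀)).symm
  have hRK : QI.img V R₀ ≤ normalizer ((QI.img V Q : Subgroup (QI.Quo V)) : Set (QI.Quo V)) :=
    QI.img_le_normalizer hRQ
  have hHall : (Nat.card (QI.img V Q)).Coprime ((QI.img V Q).relIndex (QI.img V (Q ⊔ R₀))) := by
    rw [← hsup, relIndex_sup_eq_card hRK hKR, ha, h1]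
    exact Nat.Coprime.pow_left a hqr'
  have hodd' : Odd (Nat.card (QI.img V (Q ⊔ R₀))) := by
    apply Odd.of_dvd_nat hodd
    exact (card_img_dvd (hVn _)).trans (Subgroup.card_subgroup_dvd_card _)
  have hℓG : ¬ ℓ ∣ Nat.card (QI.img V (Q ⊔ R₀)) := by
    intro h
    have h2 : ℓ ∣ Nat.card R₀ * Nat.card Q := by
      refine h.trans ((card_img_dvd (hVn _)).trans ?_)
      rw [sup_comm]
      exact Cfsg.Agent.Helper22.card_sup_dvd_of_le_normalizer R₀ Q hRQ
    rw [hR₀, hb] at h2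
    rcases (Nat.Prime.dvd_mul hℓ).mp h2 with h3 | h3
    · exact hℓr ((Nat.prime_dvd_prime_iff_eq hℓ hr).mp h3)
    · exact hℓq ((Nat.prime_dvd_prime_iff_eq hℓ hq).mp (hℓ.dvd_of_dvd_pow h3))
  have hVel : Cfsg.IsElementaryAbelian ℓ (QI.img V U) := by
    constructor
    · refine ⟨⟨fun x y => ?_⟩⟩
      obtain ⟨s, hs, hsU, h3⟩ := QI.mem_img.mp x.2
      obtain ⟨t, ht, htU, h4⟩ := QI.mem_img.mp y.2
      apply Subtype.ext
      rw [coe_mul, coe_mul, ← h3, ← h4, ← map_mul, ← map_mul, QI.proj_eq_proj_iff]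
      have e : ((⟨s, hs⟩ * ⟨t, ht⟩ : ↥(normalizer (V : Set G))) : G)⁻¹ *
          ((⟨t, ht⟩ * ⟨s, hs⟩ : ↥(normalizer (V : Set G))) : G) = ⁅t⁻¹, s⁻¹⁆ := by
        simp only [coe_mul, commutatorElement_def]; group
      rw [e]
      exact hUab _ (U.inv_mem htU) _ (U.inv_mem hsU)
    · intro y hy
      obtain ⟨s, hs, hsU, rfl⟩ := QI.mem_img.mp hy
      rw [← map_pow, QI.proj_eq_one_iff]
      exact hUℓ s hsU
  have hCV : QI.img V U ⊓
      centralizer ((QI.img V R₀ : Subgroup (QI.Quo V)) : Set (QI.Quo V)) = ⊥ := by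
    rw [eq_bot_iff]
    intro y hy
    rw [QI.mem_img_inf_centralizer (hVn R₀)] at hy
    obtain ⟨s, hs, hsU, hcomm, rfl⟩ := hy
    rw [mem_bot, QI.proj_eq_one_iff]
    apply hfix s hsU
    intro t ht
    have h3 := hcomm t⁻¹ (R₀.inv_mem ht)
    have e : ⁅t, s⁆ = s * ((t⁻¹ * s)⁻¹ * (s * t⁻¹)) * s⁻¹ := by
      simp only [commutatorElement_def]; group
    rw [e]
    exact hV.conj_mem _ h3 s
  have key := Cfsg.Agent.S3769.result (X := QI.Quo V) (QI.img V (Q ⊔ R₀)) inferInstance hodd'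
    (QI.img V U) hℓ hVel hℓG (QI.img_le_normalizer (hUn _)) (QI.img V Q) (QI.img V R₀)
    (QI.img_mono le_sup_left) (QI.img_le_normalizer hQn) hHall (QI.img_mono le_sup_right)
    (h1.symm ▸ hr) hKR hsup hCV
  rw [commutator_le]
  intro t ht c hc
  rw [mem_chiefCent]
  intro u hu
  have h3 : ⁅QI.proj V ⟨t, hVn R₀ ht⟩, QI.proj V ⟨c, hVn Q hc⟩⁆ ∈
      ⁅QI.img V R₀, QI.img V Q⁆ :=
    commutator_mem_commutator (QI.mem_img.mpr ⟨t, _, ht, rfl⟩) (QI.mem_img.mpr ⟨c, _, hc, rfl⟩)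
  have h4 := mem_centralizer_iff.mp (key h3) (QI.proj V ⟨u⁻¹, hVn U (U.inv_mem hu)⟩)
    (QI.mem_img.mpr ⟨u⁻¹, _, U.inv_mem hu, rfl⟩)
  rw [← map_commutatorElement, ← map_mul, ← map_mul, QI.proj_eq_proj_iff] at h4
  have e : ⁅u, ⁅t, c⁆⁆ = ⁅t, c⁆ *
      (((⟨u⁻¹, hVn U (U.inv_mem hu)⟩ * ⁅(⟨t, hVn R₀ ht⟩ : ↥(normalizer (V : Set G))),
        ⟨c, hVn Q hc⟩⁆ : ↥(normalizer (V : Set G))) : G)⁻¹ *
      ((⁅(⟨t, hVn R₀ ht⟩ : ↥(normalizer (V : Set G))), ⟨c, hVn Q hc⟩⁆ *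
        ⟨u⁻¹, hVn U (U.inv_mem hu)⟩ : ↥(normalizer (V : Set G))) : G)) * ⁅t, c⁆⁻¹ := by
    simp only [coe_mul, commutatorElement_def, coe_inv]; group
  rw [e]
  exact hV.conj_mem _ h4 _

end Cfsg.Agent.Helper71.Shult
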