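import Mathlib
import Cfsg.Prelude.Def_Transfer
import Cfsg.Agent.S3769
import Cfsg.Agent.S0022
import Cfsg.Agent.S0029
import Cfsg.Agent.S3754
import Cfsg.Agent.Helper63.Frattini
import Cfsg.Agent.Helper71.QuotImage
import Cfsg.Agent.Helper71.ShultBasic
import Cfsg.Agent.Helper71.ShultHall
import Cfsg.Agent.Helper71.PrimeAction

/-!
# Shult's theorem with a nilpotent target (for B-G §11, Theorem 11.7)

`commutator_le_centralizer_of_fpf`: let `K`, `R`, `A₁` be subgroups of a finite group with `K`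
nilpotent, `A₁` of prime order `p` normalizing `R` and `K`, `R` a `p'`-group normalizing `K`,
`R A₁` solvable of odd order prime to `|K|`, and `C_K(A₁) = 1`.  Then `[R, A₁]` centralizes `K`.

The proof applies S3769 to the Frattini quotients of the Sylow subgroups of `K` (S0022 to pass the
fixed-point-freeness to the quotient, S0029 to come back).
-/

set_option autoImplicit false
set_option linter.style.haveILetI false

namespace Cfsg.Agent.Helper71.ShultNil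

open Subgroup
open scoped commutatorElement
open Cfsg.Agent.Helper71 Cfsg.Agent.Helper71.Shult

variable {X : Type*} [Group X]

/-- conjugation by an element of the normalizer, as an automorphism of the subgroup -/
def conjEquiv (P : Subgroup X) (g : X) (hg : g ∈ normalizer (P : Set X)) : ↥P ≃* ↥P where
  toFun x := ⟨g * x * g⁻¹, (mem_normalizer_iff.1 hg x).1 x.2⟩
  invFun x := ⟨g⁻¹ * x * g, by
    have := (mem_normalizer_iff.1 (inv_mem hg) x).1 x.2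
    simpa using this⟩
  left_inv x := by
    apply Subtype.ext
    show g⁻¹ * (g * (x : X) * g⁻¹) * g = x
    group
  right_inv x := by
    apply Subtype.ext
    show g * (g⁻¹ * (x : X) * g) * g⁻¹ = x
    group
  map_mul' x y := by
    apply Subtype.ext
    show g * ((x : X) * (y : X)) * g⁻¹ = (g * (x : X) * g⁻¹) * (g * (y : X) * g⁻¹)
    group

theorem conjEquiv_coe (P : Subgroup X) (g : X) (hg : g ∈ normalizer (P : Set X)) (x : ↥P) :
    ((conjEquiv P g hg x : ↥P) : X) = g * x * g⁻¹ := rfl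

/-- the Frattini subgroup of `P` is normalized by `N(P)` -/
theorem normalizer_le_normalizer_frattini (P : Subgroup X) :
    normalizer (P : Set X) ≤ normalizer (((frattini ↥P).map P.subtype : Subgroup X) : Set X) := by
  apply le_normalizer_of_conj_mem
  rintro g hg _ ⟨y, hy, rfl⟩
  have h : (frattini ↥P).map (conjEquiv P g hg).toMonoidHom = frattini ↥P :=
    OrderIso.map_radical ((conjEquiv P g hg).mapSubgroup)
  have h2 : (conjEquiv P g hg) y ∈ frattini ↥P := by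
    rw [← h]
    exact ⟨y, hy, rfl⟩
  exact ⟨_, h2, rfl⟩

/-- a characteristic subgroup of `K` (as a subgroup of `X`) is normalized by `N(K)` -/
theorem normalizer_le_normalizer_map_of_characteristic (K : Subgroup X) (S : Subgroup ↥K)
    [hS : S.Characteristic] :
    normalizer (K : Set X) ≤ normalizer ((S.map K.subtype : Subgroup X) : Set X) := by
  apply le_normalizer_of_conj_mem
  rintro g hg _ ⟨y, hy, rfl⟩
  have h : S.map (conjEquiv K g hg).toMonoidHom = S :=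
    Subgroup.characteristic_iff_map_eq.1 hS (conjEquiv K g hg)
  have h2 : (conjEquiv K g hg) y ∈ S := by
    rw [← h]
    exact ⟨y, hy, rfl⟩
  exact ⟨_, h2, rfl⟩

variable [Finite X]

/-- **The `ℓ`-group case.** -/
theorem sylow_case {P R A₁ : Subgroup X} {ℓ p : ℕ} (hℓ : ℓ.Prime) (hp : p.Prime)
    (hP : IsPGroup ℓ P) (hA₁ : Nat.card A₁ = p) (hAR : A₁ ≤ normalizer (R : Set X))
    (hRP : R ≤ normalizer (P : Set X)) (hAP : A₁ ≤ normalizer (P : Set X))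
    (hsolv : Group.IsSolvable ↥(R ⊔ A₁)) (hodd : Odd (Nat.card ↥(R ⊔ A₁)))
    (hcop : (Nat.card ↥(R ⊔ A₁)).Coprime (Nat.card P)) (hpR : ¬ p ∣ Nat.card R)
    (hfpf : P ⊓ centralizer (A₁ : Set X) = ⊥) : ⁅R, A₁⁆ ≤ centralizer (P : Set X) := by
  haveI : Fact ℓ.Prime := ⟨hℓ⟩
  by_cases hP1 : P = ⊥
  · subst hP1
    intro x _
    rw [mem_centralizer_iff]
    intro y hy
    rw [coe_bot, Set.mem_singleton_iff] at hy
    subst hy
    simp
  set Φ : Subgroup X := (frattini ↥P).map P.subtype with hΦ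
  set G₀ : Subgroup X := R ⊔ A₁ with hG₀
  have hΦP : Φ ≤ P := map_subtype_le _
  have hG₀P : G₀ ≤ normalizer (P : Set X) := sup_le hRP hAP
  have hNΦ := normalizer_le_normalizer_frattini P
  have hG₀Φ : G₀ ≤ normalizer (Φ : Set X) := hG₀P.trans hNΦ
  have hPΦ : P ≤ normalizer (Φ : Set X) := le_normalizer.trans hNΦ
  have hRG₀ : R ≤ G₀ := le_sup_left
  have hAG₀ : A₁ ≤ G₀ := le_sup_right
  have hRΦ : R ≤ normalizer (Φ : Set X) := hRG₀.trans hG₀Φ
  have hAΦ : A₁ ≤ normalizer (Φ : Set X) := hAG₀.trans hG₀Φ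
  have hG₀R : G₀ ≤ normalizer (R : Set X) := sup_le le_normalizer hAR
  -- arithmetic
  have hℓP : ℓ ∣ Nat.card P := by
    obtain ⟨k, hk⟩ := IsPGroup.iff_card.1 hP
    have hk0 : k ≠ 0 := by
      intro h0
      rw [h0, pow_zero, Subgroup.card_eq_one] at hk
      exact hP1 hk
    rw [hk]; exact dvd_pow_self ℓ hk0
  have hℓG₀ : ¬ ℓ ∣ Nat.card G₀ := by
    intro h
    have h2 := Nat.dvd_gcd h hℓP
    rw [hcop.gcd_eq_one] at h2
    exact hℓ.one_lt.ne' (Nat.dvd_one.1 h2)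
  have hcardΦ : Nat.card Φ ∣ Nat.card P := Subgroup.card_dvd_of_le hΦP
  have hA₁G₀ : Nat.card A₁ ∣ Nat.card G₀ := Subgroup.card_dvd_of_le hAG₀
  have hRcG₀ : Nat.card R ∣ Nat.card G₀ := Subgroup.card_dvd_of_le hRG₀
  have hcopAP : (Nat.card A₁).Coprime (Nat.card P) := Nat.Coprime.coprime_dvd_left hA₁G₀ hcop
  have hAΦbot : A₁ ⊓ Φ = ⊥ :=
    inf_eq_bot_of_coprime_card (Nat.Coprime.coprime_dvd_right hcardΦ hcopAP)
  -- the quotient data
  set Gq := QI.img Φ G₀ with hGq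
  set Vq := QI.img Φ P with hVq
  set Kq := QI.img Φ R with hKq
  set Rq := QI.img Φ A₁ with hRq
  have hsolv' : Group.IsSolvable ↥Gq :=
    Group.isSolvable_of_surjective (QI.imgHom_surjective Φ hG₀Φ)
  have hcardGq : Nat.card Gq ∣ Nat.card G₀ := card_img_dvd hG₀Φ
  have hodd' : Odd (Nat.card Gq) := Odd.of_dvd_nat hodd hcardGq
  have hVel : Cfsg.IsElementaryAbelian ℓ Vq := by
    constructor
    · refine ⟨⟨fun x y => ?_⟩⟩
      obtain ⟨s, hs, hsP, h3⟩ := QI.mem_img.mp x.2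
      obtain ⟨t, ht, htP, h4⟩ := QI.mem_img.mp y.2
      apply Subtype.ext
      rw [coe_mul, coe_mul, ← h3, ← h4, ← map_mul, ← map_mul, QI.proj_eq_proj_iff]
      have e : ((⟨s, hs⟩ * ⟨t, ht⟩ : ↥(normalizer (Φ : Set X))) : X)⁻¹ *
          ((⟨t, ht⟩ * ⟨s, hs⟩ : ↥(normalizer (Φ : Set X))) : X) = ⁅t⁻¹, s⁻¹⁆ := by
        simp only [coe_mul, commutatorElement_def]; group
      rw [e]
      have h5 : ⁅(⟨t⁻¹, P.inv_mem htP⟩ : ↥P), (⟨s⁻¹, P.inv_mem hsP⟩ : ↥P)⁆ ∈ frattini ↥P :=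
        Cfsg.Agent.S3754.commutator_le_frattini_of_isPGroup hP
          (commutator_mem_commutator (mem_top _) (mem_top _))
      exact ⟨_, h5, rfl⟩
    · intro y hy
      obtain ⟨s, hs, hsP, rfl⟩ := QI.mem_img.mp hy
      rw [← map_pow, QI.proj_eq_one_iff]
      have h5 : (⟨s, hsP⟩ : ↥P) ^ ℓ ∈ frattini ↥P :=
        Cfsg.Agent.Helper63.pow_prime_mem_frattini hP ⟨s, hsP⟩
      exact ⟨_, h5, rfl⟩
  have hℓGq : ¬ ℓ ∣ Nat.card Gq := fun h => hℓG₀ (h.trans hcardGq)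
  have hGV : Gq ≤ normalizer ((Vq : Subgroup (QI.Quo Φ)) : Set (QI.Quo Φ)) :=
    QI.img_le_normalizer hG₀P
  have hKG : Kq ≤ Gq := QI.img_mono hRG₀
  have hKn : Gq ≤ normalizer ((Kq : Subgroup (QI.Quo Φ)) : Set (QI.Quo Φ)) :=
    QI.img_le_normalizer hG₀R
  have hRG : Rq ≤ Gq := QI.img_mono hAG₀
  have hcardRq : Nat.card Rq = p := by rw [QI.card_img hAΦ hAΦbot, hA₁]
  have hR : (Nat.card Rq).Prime := by rw [hcardRq]; exact hp
  have hcardKq : Nat.card Kq ∣ Nat.card R := card_img_dvd hRΦ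
  have hpKq : ¬ p ∣ Nat.card Kq := fun h => hpR (h.trans hcardKq)
  have hcopKR : (Nat.card Kq).Coprime (Nat.card Rq) := by
    rw [hcardRq]
    exact ((Nat.Prime.coprime_iff_not_dvd hp).2 hpKq).symm
  have hKR : Kq ⊓ Rq = ⊥ := inf_eq_bot_of_coprime_card hcopKR
  have hKRG : Kq ⊔ Rq = Gq := (QI.img_sup hRΦ hAΦ).symm
  have hRqKq : Rq ≤ normalizer ((Kq : Subgroup (QI.Quo Φ)) : Set (QI.Quo Φ)) :=
    QI.img_le_normalizer hAR
  have hHall : (Nat.card Kq).Coprime (Kq.relIndex Gq) := by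
    rw [← hKRG, relIndex_sup_eq_card hRqKq hKR]
    exact hcopKR
  have hCV : Vq ⊓ centralizer ((Rq : Subgroup (QI.Quo Φ)) : Set (QI.Quo Φ)) = ⊥ := by
    rw [eq_bot_iff]
    intro y hy
    rw [QI.mem_img_inf_centralizer hAΦ] at hy
    obtain ⟨s, hs, hsP, hcomm, rfl⟩ := hy
    rw [mem_bot, QI.proj_eq_one_iff]
    show s ∈ Φ
    haveI : Group.IsNilpotent ↥P := hP.isNilpotent
    have hfix : ∀ a ∈ A₁, a * s * a⁻¹ * s⁻¹ ∈ Φ := by
      intro a ha
      have h1 := hcomm a⁻¹ (A₁.inv_mem ha)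
      have h2 := conj_mem_of_le_normalizer hPΦ hsP h1
      have e : s * ((a⁻¹ * s)⁻¹ * (s * a⁻¹)) * s⁻¹ = a * s * a⁻¹ * s⁻¹ := by group
      rwa [e] at h2
    obtain ⟨c, hc, hsc⟩ := Cfsg.Agent.S0022.result A₁ P hAP hcopAP (Or.inr inferInstance) Φ hΦP
      hPΦ hAΦ s hsP hfix
    rw [hfpf, mem_bot] at hc
    subst hc
    rw [mul_one] at hsc
    have := Φ.inv_mem hsc
    rwa [inv_inv] at this
  have key := Cfsg.Agent.S3769.result (X := QI.Quo Φ) Gq hsolv' hodd' Vq hℓ hVel hℓGq hGV Kq Rq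
    hKG hKn hHall hRG hR hKR hKRG hCV
  -- back to `X`: `[R, A₁]` acts trivially on `P / Φ`
  have hT : ⁅R, A₁⁆ ≤ commIn P G₀ Φ hG₀Φ := by
    rw [commutator_le]
    intro r hr a ha
    have hd : ⁅r, a⁆ ∈ G₀ := G₀.mul_mem (G₀.mul_mem (G₀.mul_mem (hRG₀ hr) (hAG₀ ha))
      (G₀.inv_mem (hRG₀ hr))) (G₀.inv_mem (hAG₀ ha))
    refine mem_commIn.2 ⟨hd, fun x hx => ?_⟩
    have hrN : r ∈ normalizer (Φ : Set X) := hRΦ hr
    have haN : a ∈ normalizer (Φ : Set X) := hAΦ ha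
    have hxN : x ∈ normalizer (Φ : Set X) := hPΦ hx
    have h1 : QI.proj Φ ⟨r, hrN⟩ ∈ Kq := QI.mem_img.2 ⟨r, hrN, hr, rfl⟩
    have h2 : QI.proj Φ ⟨a, haN⟩ ∈ Rq := QI.mem_img.2 ⟨a, haN, ha, rfl⟩
    have h3 : QI.proj Φ ⟨x, hxN⟩ ∈ Vq := QI.mem_img.2 ⟨x, hxN, hx, rfl⟩
    have h4 : ⁅QI.proj Φ ⟨r, hrN⟩, QI.proj Φ ⟨a, haN⟩⁆ ∈ ⁅Rq, Kq⁆ := by
      rw [commutator_comm]
      exact commutator_mem_commutator h1 h2
    have h5 := mem_centralizer_iff.1 (key h4) _ h3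
    -- `proj x * proj d = proj d * proj x`
    rw [← map_commutatorElement, ← map_mul, ← map_mul, QI.proj_eq_proj_iff] at h5
    have e : ((⟨x, hxN⟩ * ⁅(⟨r, hrN⟩ : ↥(normalizer (Φ : Set X))), ⟨a, haN⟩⁆ :
        ↥(normalizer (Φ : Set X))) : X)⁻¹ *
        ((⁅(⟨r, hrN⟩ : ↥(normalizer (Φ : Set X))), ⟨a, haN⟩⁆ * ⟨x, hxN⟩ :
          ↥(normalizer (Φ : Set X))) : X) = ⁅⁅r, a⁆⁻¹, x⁻¹⁆ := by
      simp only [coe_mul, commutatorElement_def, coe_inv]; group
    rw [e] at h5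
    -- `⁅x, d⁆ = x d (⁅d⁻¹, x⁻¹⁆) d⁻¹ x⁻¹`-type rewriting
    have hdN : ⁅r, a⁆ ∈ normalizer (Φ : Set X) := hG₀Φ hd
    have h6 : x * ⁅r, a⁆ * ⁅⁅r, a⁆⁻¹, x⁻¹⁆ * (x * ⁅r, a⁆)⁻¹ ∈ Φ :=
      (mem_normalizer_iff.1 ((normalizer (Φ : Set X)).mul_mem hxN hdN) _).1 h5
    have e2 : x * ⁅r, a⁆ * ⁅⁅r, a⁆⁻¹, x⁻¹⁆ * (x * ⁅r, a⁆)⁻¹ = ⁅⁅r, a⁆, x⁆ := by
      simp only [commutatorElement_def]; group
    rw [e2] at h6
    have h7 := Φ.inv_mem h6
    rwa [commutatorElement_inv] at h7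
  have hDG₀ : ⁅R, A₁⁆ ≤ G₀ := fun d hd => (mem_commIn.1 (hT hd)).1
  have hcopD : (Nat.card ↥⁅R, A₁⁆).Coprime (Nat.card (frattini ↥P)) := by
    have h1 : Nat.card ↥⁅R, A₁⁆ ∣ Nat.card G₀ := Subgroup.card_dvd_of_le hDG₀
    have h2 : Nat.card (frattini ↥P) ∣ Nat.card P := Subgroup.card_subgroup_dvd_card _
    exact Nat.Coprime.coprime_dvd_left h1 (Nat.Coprime.coprime_dvd_right h2 hcop)
  refine Cfsg.Agent.S0029.result ⁅R, A₁⁆ P (hDG₀.trans hG₀P) hcopD ?_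
  intro a ha k hk
  have h1 := (mem_commIn.1 (hT ha)).2 k hk
  have h2 := Φ.inv_mem h1
  have e : ⁅k, a⁆⁻¹ = a * k * a⁻¹ * k⁻¹ := by
    simp only [commutatorElement_def]; group
  rwa [e] at h2

/-- **Shult's theorem, nilpotent target.** -/
theorem commutator_le_centralizer_of_fpf (K R A₁ : Subgroup X) (hKnil : Group.IsNilpotent ↥K)
    {p : ℕ} (hp : p.Prime) (hA₁ : Nat.card A₁ = p) (hAR : A₁ ≤ normalizer (R : Set X))
    (hRK : R ≤ normalizer (K : Set X)) (hAK : A₁ ≤ normalizer (K : Set X))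
    (hsolv : Group.IsSolvable ↥(R ⊔ A₁)) (hodd : Odd (Nat.card ↥(R ⊔ A₁)))
    (hcop : (Nat.card ↥(R ⊔ A₁)).Coprime (Nat.card K)) (hpR : ¬ p ∣ Nat.card R)
    (hfpf : K ⊓ centralizer (A₁ : Set X) = ⊥) : ⁅R, A₁⁆ ≤ centralizer (K : Set X) := by
  apply le_centralizer_symm
  have hD : K ⊓ centralizer ((⁅R, A₁⁆ : Subgroup X) : Set X) = K := by
    apply eq_of_contains_sylows inf_le_left
    intro q hq
    haveI : Fact q.Prime := ⟨hq⟩
    obtain ⟨S⟩ : Nonempty (Sylow q ↥K) := inferInstance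
    refine ⟨S, ?_⟩
    set P : Subgroup X := (S : Subgroup ↥K).map K.subtype with hPdef
    have hPK : P ≤ K := map_subtype_le _
    have htfae : Group.IsNilpotent ↥K ↔ ∀ (p : ℕ) (_hp : Fact p.Prime) (P : Sylow p ↥K),
        (↑P : Subgroup ↥K).Normal := (Group.isNilpotent_of_finite_tfae (G := ↥K)).out 0 3
    have hSn : (S : Subgroup ↥K).Normal := htfae.1 hKnil q inferInstance S
    haveI : (S : Subgroup ↥K).Characteristic := Sylow.characteristic_of_normal S hSn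
    have hNKP := normalizer_le_normalizer_map_of_characteristic K (S : Subgroup ↥K)
    have hPq : IsPGroup q P := S.isPGroup'.map _
    have h1 := sylow_case hq hp hPq hA₁ hAR (hRK.trans hNKP) (hAK.trans hNKP) hsolv hodd
      (Nat.Coprime.coprime_dvd_right (Subgroup.card_dvd_of_le hPK) hcop) hpR
      (by
        rw [eq_bot_iff, ← hfpf]
        exact inf_le_inf_right _ hPK)
    exact le_inf hPK (le_centralizer_symm h1)
  rw [← hD]
  exact inf_le_right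

end Cfsg.Agent.Helper71.ShultNil
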