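import Mathlib

set_option autoImplicit false

namespace Cfsg.Agent.Helper71

universe u

section basic

variable {G : Type*} [Group G]

/-- If `g ^ o = 1` and `m` is coprime to `o`, then `g` is a power of `g ^ m`. -/
theorem mem_zpowers_zpow_of_isCoprime {g : G} {o : ℕ} (ho : g ^ o = 1) {m : ℤ}
    (hm : IsCoprime m (o : ℤ)) : g ∈ Subgroup.zpowers (g ^ m) := by
  obtain ⟨s, t, hst⟩ := hm
  rw [Subgroup.mem_zpowers_iff]
  refine ⟨s, ?_⟩
  have h1 : g ^ (t * (o : ℤ)) = 1 := by
    rw [mul_comm, zpow_mul, zpow_natCast, ho, one_zpow]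
  calc (g ^ m) ^ s = g ^ (s * m) := by rw [mul_comm, zpow_mul]
    _ = g ^ (s * m) * g ^ (t * (o : ℤ)) := by rw [h1, mul_one]
    _ = g ^ (s * m + t * (o : ℤ)) := by rw [zpow_add]
    _ = g := by rw [hst, zpow_one]

/-- In a cyclic group of prime order generated by `g`, any nontrivial element generates `g`. -/
theorem mem_zpowers_of_prime_order {p : ℕ} (hp : p.Prime) {g w : G} (hg : g ^ p = 1)
    (hw : w ∈ Subgroup.zpowers g) (hw1 : w ≠ 1) : g ∈ Subgroup.zpowers w := by
  obtain ⟨j, rfl⟩ := Subgroup.mem_zpowers_iff.mp hw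
  have hpj : ¬ (p : ℤ) ∣ j := by
    rintro ⟨d, rfl⟩
    apply hw1
    rw [zpow_mul, zpow_natCast, hg, one_zpow]
  have hcop : IsCoprime j (p : ℤ) :=
    ((Nat.prime_iff_prime_int.mp hp).coprime_iff_not_dvd.mpr hpj).symm
  exact mem_zpowers_zpow_of_isCoprime hg hcop

theorem pow_mul_comm_of_central {a b c : G} (hcb : Commute c b) (h : b * a = c * a * b) (n : ℕ) :
    b ^ n * a = c ^ n * a * b ^ n := by
  induction n with
  | zero => simp
  | succ n ih =>
    calc b ^ (n + 1) * a = b ^ n * (b * a) := by rw [pow_succ, mul_assoc]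
      _ = b ^ n * (c * a * b) := by rw [h]
      _ = (b ^ n * c) * a * b := by group
      _ = (c * b ^ n) * a * b := by rw [(hcb.pow_right n).eq]
      _ = c * (b ^ n * a) * b := by group
      _ = c * (c ^ n * a * b ^ n) * b := by rw [ih]
      _ = c ^ (n + 1) * a * b ^ (n + 1) := by group

theorem mul_pow_of_central {a b c : G} (hca : Commute c a) (hcb : Commute c b)
    (h : b * a = c * a * b) (n : ℕ) :
    (a * b) ^ n = c ^ (n * (n - 1) / 2) * a ^ n * b ^ n := by
  induction n with
  | zero => simp
  | succ n ih =>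
    have h1 := pow_mul_comm_of_central hcb h n
    rw [pow_succ, ih, Nat.triangle_succ, pow_add]
    generalize n * (n - 1) / 2 = T
    calc c ^ T * a ^ n * b ^ n * (a * b) = c ^ T * a ^ n * (b ^ n * a) * b := by group
      _ = c ^ T * a ^ n * (c ^ n * a * b ^ n) * b := by rw [h1]
      _ = c ^ T * (a ^ n * c ^ n) * a * b ^ n * b := by group
      _ = c ^ T * (c ^ n * a ^ n) * a * b ^ n * b := by rw [(hca.pow_pow n n).eq]
      _ = c ^ T * c ^ n * a ^ (n + 1) * b ^ (n + 1) := by group

/-- conjugation relation for integer powers -/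
theorem conj_rel_zpow {a b c : G} (hca : Commute c a) (h : b * a = c * a * b) (z : ℤ) :
    b * a ^ z = c ^ z * a ^ z * b := by
  have h1 : b * a * b⁻¹ = c * a := by rw [h]; group
  have h2 : b * a ^ z * b⁻¹ = c ^ z * a ^ z := by
    rw [← conj_zpow, h1, hca.mul_zpow]
  calc b * a ^ z = (b * a ^ z * b⁻¹) * b := by group
    _ = c ^ z * a ^ z * b := by rw [h2]

end basic

/-- All elements of order dividing `p` lie in one cyclic subgroup of order `p`. -/
def UniqueOrderP (p : ℕ) (S : Type*) [Group S] : Prop :=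
  ∃ u : S, u ≠ 1 ∧ u ^ p = 1 ∧ ∀ v : S, v ^ p = 1 → v ∈ Subgroup.zpowers u

/-- A "quaternion pair". -/
def HasQuatPair (S : Type*) [Group S] : Prop :=
  ∃ x y : S, y * y = x * x ∧ x * x ≠ 1 ∧ (x * x) * (x * x) = 1 ∧ y * x * y⁻¹ = x⁻¹

open Subgroup in
/-- Core case: a non-cyclic `p`-group with a unique subgroup of order `p`, all of whose proper
subgroups are cyclic, has `p = 2` and contains a quaternion pair. -/
theorem core_min_noncyclic {p : ℕ} [hp : Fact p.Prime] {S : Type*} [Group S] [Finite S]
    (hS : IsPGroup p S) (hU : UniqueOrderP p S) (hnc : ¬ IsCyclic S)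
    (hmin : ∀ T : Subgroup S, T ≠ ⊤ → IsCyclic T) : p = 2 ∧ HasQuatPair S := by
  classical
  obtain ⟨u, hu1, hup, hU⟩ := hU
  obtain ⟨N, hN⟩ := IsPGroup.iff_card.mp hS
  have hN2 : 2 ≤ N := by
    by_contra hlt
    push Not at hlt
    interval_cases N
    · apply hnc
      have : Subsingleton S := (Nat.card_eq_one_iff_unique.mp (by simpa using hN)).1
      exact isCyclic_of_subsingleton
    · apply hnc
      exact isCyclic_of_prime_card (p := p) (by simpa using hN)
  obtain ⟨n, rfl⟩ : ∃ n, N = n + 2 := ⟨N - 2, by omega⟩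
  have hdvd : p ^ (n + 1) ∣ Nat.card S := by rw [hN]; exact pow_dvd_pow p (by omega)
  -- proper subgroups have order at most p^(n+1)
  have hprop : ∀ T : Subgroup S, T ≠ ⊤ → Nat.card T ≤ p ^ (n + 1) := by
    intro T hT
    obtain ⟨k, hk⟩ := IsPGroup.iff_card.mp (hS.to_subgroup T)
    have hlt : Nat.card T < Nat.card S := by
      apply lt_of_le_of_ne (Subgroup.card_le_card_group _)
      intro h
      exact hT ((Subgroup.card_eq_iff_eq_top _).mp h)
    rw [hk, hN] at hlt
    have := (Nat.pow_lt_pow_iff_right hp.out.one_lt).mp hlt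
    rw [hk]
    exact Nat.pow_le_pow_right hp.out.pos (by omega)
  have hnotcyc : ∀ g : S, zpowers g ≠ ⊤ := fun g h =>
    hnc (isCyclic_iff_exists_zpowers_eq_top.mpr ⟨g, h⟩)
  -- first maximal subgroup
  obtain ⟨M₁, hM₁⟩ := Sylow.exists_subgroup_card_pow_prime p hdvd
  have hcardlt : p ^ (n + 1) < p ^ (n + 2) := Nat.pow_lt_pow_right hp.out.one_lt (by omega)
  have htop_of_card : ∀ M : Subgroup S, Nat.card M = p ^ (n + 1) → M ≠ ⊤ := by
    intro M hM h
    rw [h, Subgroup.card_top, hN] at hM
    omega
  obtain ⟨a, ha⟩ := (Subgroup.isCyclic_iff_exists_zpowers_eq_top M₁).mp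
    (hmin M₁ (htop_of_card M₁ hM₁))
  have hacard : Nat.card (zpowers a) = p ^ (n + 1) := by rw [ha, hM₁]
  have haord : orderOf a = p ^ (n + 1) := by rw [← Nat.card_zpowers, hacard]
  obtain ⟨b₀, hb₀⟩ : ∃ b₀ : S, b₀ ∉ zpowers a := by
    by_contra hcon
    push Not at hcon
    apply htop_of_card M₁ hM₁
    rw [← ha, eq_top_iff]
    intro x _
    exact hcon x
  obtain ⟨k, hk⟩ := IsPGroup.iff_card.mp (hS.to_subgroup (zpowers b₀))
  have hk_le : k ≤ n + 1 := by
    have := hprop _ (hnotcyc b₀)
    rw [hk] at this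
    exact (Nat.pow_le_pow_iff_right hp.out.one_lt).mp this
  obtain ⟨M₂, hM₂, hb₀M₂⟩ := Sylow.exists_subgroup_card_pow_prime_le p hdvd (zpowers b₀) hk hk_le
  obtain ⟨b, hb⟩ := (Subgroup.isCyclic_iff_exists_zpowers_eq_top M₂).mp
    (hmin M₂ (htop_of_card M₂ hM₂))
  have hbcard : Nat.card (zpowers b) = p ^ (n + 1) := by rw [hb, hM₂]
  have hb_notin : b ∉ zpowers a := by
    intro h
    have hle : zpowers b ≤ zpowers a := Subgroup.zpowers_le.mpr h
    have heq : zpowers b = zpowers a :=
      Subgroup.eq_of_le_of_card_ge hle (by rw [hacard, hbcard])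
    apply hb₀
    rw [← heq, hb]
    exact hb₀M₂ (Subgroup.mem_zpowers b₀)
  have ha_notin : a ∉ zpowers b := by
    intro h
    have hle : zpowers a ≤ zpowers b := Subgroup.zpowers_le.mpr h
    have heq : zpowers a = zpowers b :=
      Subgroup.eq_of_le_of_card_ge hle (by rw [hacard, hbcard])
    apply hb_notin
    rw [heq]
    exact Subgroup.mem_zpowers b
  -- normality
  have hidx : ∀ M : Subgroup S, Nat.card M = p ^ (n + 1) → M.index = p := by
    intro M hM
    have h1 := Subgroup.card_mul_index M
    rw [hM, hN, pow_succ p (n + 1)] at h1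
    exact Nat.eq_of_mul_eq_mul_left (pow_pos hp.out.pos _) h1
  have hminfac : (Nat.card S).minFac = p := by
    rw [hN, Nat.pow_minFac (by omega), Nat.Prime.minFac_eq hp.out]
  have hnormA : (zpowers a).Normal :=
    Subgroup.normal_of_index_eq_minFac_card (by rw [hidx _ hacard, hminfac])
  have hnormB : (zpowers b).Normal :=
    Subgroup.normal_of_index_eq_minFac_card (by rw [hidx _ hbcard, hminfac])
  have hbab : b * a * b⁻¹ ∈ zpowers a := hnormA.conj_mem a (Subgroup.mem_zpowers a) b
  have haba : a * b * a⁻¹ ∈ zpowers b := hnormB.conj_mem b (Subgroup.mem_zpowers b) a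
  have hbp : b ^ p ∈ zpowers a := by
    have := (zpowers a).pow_index_mem b
    rwa [hidx _ hacard] at this
  -- the commutator
  set c : S := b * a * b⁻¹ * a⁻¹ with hc
  have hcA : c ∈ zpowers a := mul_mem hbab (inv_mem (Subgroup.mem_zpowers a))
  have hcB : c ∈ zpowers b := by
    have : c = b * (a * b * a⁻¹)⁻¹ := by rw [hc]; group
    rw [this]
    exact mul_mem (Subgroup.mem_zpowers b) (inv_mem haba)
  have hca : Commute c a := by
    obtain ⟨i, hi⟩ := Subgroup.mem_zpowers_iff.mp hcA
    rw [← hi]; exact (Commute.refl a).zpow_left i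
  have hcb : Commute c b := by
    obtain ⟨i, hi⟩ := Subgroup.mem_zpowers_iff.mp hcB
    rw [← hi]; exact (Commute.refl b).zpow_left i
  have hrel : b * a = c * a * b := by rw [hc]; group
  have hbpa : Commute (b ^ p) a := by
    obtain ⟨i, hi⟩ := Subgroup.mem_zpowers_iff.mp hbp
    rw [← hi]; exact (Commute.refl a).zpow_left i
  have hcp : c ^ p = 1 := by
    have h1 := pow_mul_comm_of_central hcb hrel p
    rw [hbpa.eq, mul_assoc] at h1
    have h2 : 1 * (a * b ^ p) = c ^ p * (a * b ^ p) := by rw [one_mul]; exact h1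
    exact (mul_right_cancel h2).symm
  -- b^p = a^(p k')
  obtain ⟨m, hm⟩ := Subgroup.mem_zpowers_iff.mp hbp
  have hapow : a ^ (p ^ (n + 1)) = 1 := by rw [← haord]; exact pow_orderOf_eq_one a
  have hpm : (p : ℤ) ∣ m := by
    by_contra hndvd
    have hcop : IsCoprime m ((p ^ (n + 1) : ℕ) : ℤ) := by
      have h0 : IsCoprime (p : ℤ) m :=
        (Nat.prime_iff_prime_int.mp hp.out).coprime_iff_not_dvd.mpr hndvd
      push_cast
      exact (h0.pow_left).symm
    have h1 := mem_zpowers_zpow_of_isCoprime hapow hcop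
    rw [hm] at h1
    apply ha_notin
    exact (Subgroup.zpowers_le.mpr (Subgroup.pow_mem _ (Subgroup.mem_zpowers b) p)) h1
  obtain ⟨k', rfl⟩ := hpm
  set a' : S := a ^ (-k') with ha'
  set c' : S := c ^ (-k') with hc'
  set t : S := a' * b with ht
  have ha'mem : a' ∈ zpowers a := Subgroup.zpow_mem_zpowers a _
  have hrel' : b * a' = c' * a' * b := conj_rel_zpow hca hrel (-k')
  have hc'a' : Commute c' a' := hca.zpow_zpow _ _
  have hc'b : Commute c' b := hcb.zpow_left _
  have hab1 : a' ^ p * b ^ p = 1 := by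
    rw [← hm, ha', ← zpow_natCast, ← zpow_mul, ← zpow_add]
    have : -k' * (p : ℤ) + (p : ℤ) * k' = 0 := by ring
    rw [this, zpow_zero]
  have htp : t ^ p = c' ^ (p * (p - 1) / 2) := by
    rw [ht, mul_pow_of_central hc'a' hc'b hrel' p, mul_assoc, hab1, mul_one]
  have hc'p : c' ^ p = 1 := by
    rw [hc', ← zpow_natCast, ← zpow_mul, mul_comm, zpow_mul, zpow_natCast, hcp, one_zpow]
  have ht_notin : t ∉ zpowers a := by
    intro h
    apply hb_notin
    have : b = a'⁻¹ * t := by rw [ht]; group
    rw [this]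
    exact mul_mem (inv_mem ha'mem) h
  have hu_in : u ∈ zpowers a := by
    have hw1 : a ^ (p ^ n) ≠ 1 := by
      intro h
      have := orderOf_dvd_of_pow_eq_one h
      rw [haord] at this
      have := Nat.le_of_dvd (pow_pos hp.out.pos _) this
      have := Nat.pow_lt_pow_right hp.out.one_lt (show n < n + 1 by omega)
      omega
    have hwp : (a ^ (p ^ n)) ^ p = 1 := by
      rw [← pow_mul, ← pow_succ]; exact hapow
    have h1 := mem_zpowers_of_prime_order hp.out hup (hU _ hwp) hw1
    exact (Subgroup.zpowers_le.mpr (Subgroup.pow_mem _ (Subgroup.mem_zpowers a) _)) h1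
  have hord_p : ∀ v : S, v ^ p = 1 → v ∈ zpowers a := fun v hv =>
    (Subgroup.zpowers_le.mpr hu_in) (hU v hv)
  rcases hp.out.eq_two_or_odd' with h2 | hodd
  · -- p = 2
    subst h2
    refine ⟨rfl, ?_⟩
    have hT : 2 * (2 - 1) / 2 = 1 := by norm_num
    rw [hT, pow_one] at htp
    have key2 : ∀ v : S, v ^ 2 = 1 → v = 1 ∨ v = u := by
      intro v hv
      obtain ⟨i, rfl⟩ := Subgroup.mem_zpowers_iff.mp (hU v hv)
      rcases Int.even_or_odd i with ⟨j, rfl⟩ | ⟨j, rfl⟩
      · left
        rw [← two_mul, zpow_mul, zpow_ofNat, hup, one_zpow]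
      · right
        rw [zpow_add, zpow_mul, zpow_ofNat, hup, one_zpow, one_mul, zpow_one]
    have hc'1 : c' ≠ 1 := by
      intro h
      apply ht_notin
      apply hord_p
      rw [htp, h]
    have hc'u : c' = u := (key2 c' hc'p).resolve_left hc'1
    have hc1 : c ≠ 1 := by
      intro h
      apply hc'1
      rw [hc', h, one_zpow]
    have hcu : c = u := (key2 c hcp).resolve_left hc1
    have hyy : t * t = u := by rw [← pow_two, htp, hc'u]
    have huu : u * u = 1 := by rw [← pow_two]; exact hup
    have hua : Commute u a := by rw [← hcu]; exact hca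
    have hya : t * a * t⁻¹ = u * a := by
      have h1 : b * a * b⁻¹ = c * a := by rw [hrel]; group
      have h3 : Commute a' (c * a) :=
        Commute.mul_right (hca.symm.zpow_left _) ((Commute.refl a).zpow_left _)
      calc t * a * t⁻¹ = a' * (b * a * b⁻¹) * a'⁻¹ := by rw [ht]; group
        _ = a' * (c * a) * a'⁻¹ := by rw [h1]
        _ = (c * a) * a' * a'⁻¹ := by rw [h3.eq]
        _ = u * a := by rw [hcu]; group
    rcases Nat.eq_zero_or_pos n with hn0 | hnpos
    · -- order of a is 2: impossible
      exfalso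
      subst hn0
      have ha2 : a ^ 2 = 1 := by
        have := hapow
        simpa using this
      have ha1 : a ≠ 1 := by
        intro h
        rw [h, orderOf_one] at haord
        norm_num at haord
      have hau : a = u := (key2 a ha2).resolve_left ha1
      have hay : a ∈ zpowers t := by
        rw [hau, ← hyy, ← pow_two]
        exact Subgroup.pow_mem _ (Subgroup.mem_zpowers t) 2
      have hle : zpowers a ≤ zpowers t := Subgroup.zpowers_le.mpr hay
      have hcard := hprop _ (hnotcyc t)
      have heq : zpowers a = zpowers t :=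
        Subgroup.eq_of_le_of_card_ge hle (by rw [hacard]; exact hcard)
      apply ht_notin
      rw [heq]
      exact Subgroup.mem_zpowers t
    · obtain ⟨n', rfl⟩ : ∃ n', n = n' + 1 := ⟨n - 1, by omega⟩
      set x : S := a ^ (2 ^ n') with hx
      have hxmem : x ∈ zpowers a := Subgroup.pow_mem _ (Subgroup.mem_zpowers a) _
      have hxx : x * x = u := by
        have hw2 : (x * x) ^ 2 = 1 := by
          have e : (x * x) ^ 2 = a ^ (2 ^ (n' + 1 + 1)) := by
            rw [hx, ← pow_two, ← pow_mul, ← pow_mul]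
            congr 1
            ring
          rw [e]; exact hapow
        have hw1 : x * x ≠ 1 := by
          intro h
          rw [hx, ← pow_two, ← pow_mul, ← pow_succ] at h
          have := orderOf_dvd_of_pow_eq_one h
          rw [haord] at this
          have := Nat.le_of_dvd (pow_pos (by norm_num) _) this
          have := Nat.pow_lt_pow_right (show 1 < 2 by norm_num) (show n' + 1 < n' + 1 + 1 by omega)
          omega
        exact (key2 _ hw2).resolve_left hw1
      have hyx : t * x * t⁻¹ = u ^ (2 ^ n') * x := by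
        rw [hx, ← conj_pow, hya, hua.mul_pow]
      rcases Nat.eq_zero_or_pos n' with hn'0 | hn'pos
      · subst hn'0
        rw [pow_zero, pow_one] at hyx
        refine ⟨x, t, hyy.trans hxx.symm, by rw [hxx]; exact hu1, by rw [hxx]; exact huu, ?_⟩
        rw [hyx]
        apply eq_inv_of_mul_eq_one_left
        rw [mul_assoc, hxx, huu]
      · exfalso
        have hupow : u ^ (2 ^ n') = 1 := by
          obtain ⟨n'', rfl⟩ : ∃ n'', n' = n'' + 1 := ⟨n' - 1, by omega⟩
          rw [pow_succ, mul_comm, pow_mul, hup, one_pow]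
        rw [hupow, one_mul] at hyx
        have hcomm : Commute t x := by
          have : t * x = x * t := by
            calc t * x = (t * x * t⁻¹) * t := by group
              _ = x * t := by rw [hyx]
          exact this
        have hs2 : (x * t⁻¹) ^ 2 = 1 := by
          have h1 : Commute x t⁻¹ := hcomm.symm.inv_right
          rw [h1.mul_pow, pow_two, pow_two, hxx, ← mul_inv_rev, hyy, mul_inv_cancel]
        have hs := hord_p _ hs2
        apply ht_notin
        have : t = (x * t⁻¹)⁻¹ * x := by group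
        rw [this]
        exact mul_mem (inv_mem hs) hxmem
  · -- p odd: impossible
    exfalso
    obtain ⟨j, hj⟩ := hodd
    have hT : p * (p - 1) / 2 = p * j := by
      have : p - 1 = 2 * j := by omega
      rw [this, ← mul_assoc, mul_comm p 2, mul_assoc, Nat.mul_div_cancel_left _ (by norm_num)]
    rw [hT, pow_mul, hc'p, one_pow] at htp
    exact ht_notin (hord_p t htp)

theorem quat_pair_of_uniqueOrderP_aux {p : ℕ} [hp : Fact p.Prime] :
    ∀ (n : ℕ) (S : Type u) [Group S] [Finite S], Nat.card S = n → IsPGroup p S →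
      UniqueOrderP p S → ¬ IsCyclic S → p = 2 ∧ HasQuatPair S := by
  intro n
  induction n using Nat.strong_induction_on with
  | _ n ih =>
    intro S _ _ hn hS hU hnc
    by_cases hmin : ∀ T : Subgroup S, T ≠ ⊤ → IsCyclic T
    · exact core_min_noncyclic hS hU hnc hmin
    · push Not at hmin
      obtain ⟨T, hT, hTnc⟩ := hmin
      have hlt : Nat.card T < n := by
        rw [← hn]
        apply lt_of_le_of_ne (Subgroup.card_le_card_group _)
        intro h
        exact hT ((Subgroup.card_eq_iff_eq_top _).mp h)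
      have hUT : UniqueOrderP p T := by
        obtain ⟨u, hu1, hup, hU⟩ := hU
        have hTne : Nat.card T ≠ 1 := by
          intro h1
          apply hTnc
          have : Subsingleton T := (Nat.card_eq_one_iff_unique.mp h1).1
          exact isCyclic_of_subsingleton
        obtain ⟨k, hk⟩ := IsPGroup.iff_card.mp (hS.to_subgroup T)
        have hk0 : k ≠ 0 := by
          rintro rfl
          exact hTne (by simpa using hk)
        have hpT : p ∣ Nat.card T := by rw [hk]; exact dvd_pow_self p hk0
        obtain ⟨w, hw⟩ := exists_prime_orderOf_dvd_card' p hpT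
        have hw1 : (w : S) ≠ 1 := by
          intro h
          have : w = 1 := Subtype.ext h
          rw [this, orderOf_one] at hw
          exact hp.out.one_lt.ne hw
        have hwp : (w : S) ^ p = 1 := by
          have := pow_orderOf_eq_one w
          rw [hw] at this
          exact_mod_cast congrArg Subtype.val this
        have huw := mem_zpowers_of_prime_order hp.out hup (hU _ hwp) hw1
        have huT : u ∈ T := (Subgroup.zpowers_le.mpr w.2) huw
        refine ⟨⟨u, huT⟩, fun h => hu1 (congrArg Subtype.val h),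
          Subtype.ext (by simpa using hup), ?_⟩
        intro v hv
        have hv' : (v : S) ^ p = 1 := by exact_mod_cast congrArg Subtype.val hv
        obtain ⟨i, hi⟩ := Subgroup.mem_zpowers_iff.mp (hU _ hv')
        rw [Subgroup.mem_zpowers_iff]
        exact ⟨i, Subtype.ext (by simpa using hi)⟩
      obtain ⟨h2, x, y, h1, h3, h4, h5⟩ := ih _ hlt T rfl (hS.to_subgroup T) hUT hTnc
      refine ⟨h2, (x : S), (y : S), ?_, ?_, ?_, ?_⟩
      · exact_mod_cast congrArg Subtype.val h1
      · intro h
        apply h3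
        apply Subtype.ext
        simpa using h
      · exact_mod_cast congrArg Subtype.val h4
      · exact_mod_cast congrArg Subtype.val h5

/-- A non-cyclic finite `p`-group with a unique subgroup of order `p` has `p = 2` and contains a
quaternion pair. -/
theorem quat_pair_of_uniqueOrderP {p : ℕ} [Fact p.Prime] {S : Type u} [Group S] [Finite S]
    (hS : IsPGroup p S) (hU : UniqueOrderP p S) (hnc : ¬ IsCyclic S) : p = 2 ∧ HasQuatPair S :=
  quat_pair_of_uniqueOrderP_aux _ S rfl hS hU hnc

end Cfsg.Agent.Helper71
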