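import Mathlib
import Cfsg.Prelude.Def_OddOrderLocal
import Cfsg.Agent.Helper23.BG13C
import Cfsg.Agent.Helper23.BG13D
import Cfsg.Agent.Helper64.BG1217D
import Cfsg.Agent.Helper71.BGHall
import Cfsg.Agent.Helper71.ShultBasic
import Cfsg.Agent.Helper63.BG13F
import Cfsg.Agent.Helper67.NilHallKey
import Cfsg.Agent.S1415

set_option autoImplicit false
set_option linter.unusedSectionVars false
set_option linter.unusedVariables false
set_option linter.style.haveILetI false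

/-!
# B-G Lemma 13.1(a), the `τ₂` case ("Lemma A (iii)", piece W2 of board post #3275)
(helper71; paper proof helper70 #3002 / helper23 #3275)

`M`, `H` non-conjugate maximal subgroups, `x ∈ τ₂(H)`, `x ∈ π(M) - σ(M)`: then
`[M_σ ∩ H, M ∩ H] = 1`.
-/

namespace Cfsg.Agent.Helper71.BG13W2

open Cfsg Cfsg.Agent.Helper29 Cfsg.Agent.Helper29.BG10 Cfsg.Agent.Helper29.BG11
open scoped commutatorElement

variable {G : Type*} [Group G] [Finite G]

theorem lemma_A_tau2 (hG : Cfsg.IsMinSimpleOddOrder G) (hU : UniquenessThm G)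
    (h17 : ∀ M : Subgroup G, IsCoatom M → Cfsg.Agent.Helper64.BG1218.Hyp1217 M)
    (h1417 : Cfsg.Agent.Helper23.BG13.H1417 G)
    (h1418 : ∀ (H E : Subgroup G) (x : ℕ) [Fact x.Prime] (A : Subgroup G), IsCoatom H →
      Cfsg.IsComplIn E (Cfsg.sigmaCore H) H → x ∈ Cfsg.tau2 H → A ≤ E →
      Cfsg.IsElementaryAbelian x A → Nat.card A = x ^ 2 →
      E ≤ Subgroup.normalizer (A : Set G))
    {M H : Subgroup G} (hM : IsCoatom M) (hH : IsCoatom H) (hnc : ∀ g : G, BG10.cj g M ≠ H)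
    {x : ℕ} [Fact x.Prime] (hx : x ∈ Cfsg.tau2 H) (hxM : x ∣ Nat.card M)
    (hxs : x ∉ Cfsg.sigma M) :
    ⁅Cfsg.sigmaCore M ⊓ H, M ⊓ H⁆ = ⊥ := by
  classical
  by_contra hne
  have hxp : x.Prime := Fact.out
  -- `H_σ` is nilpotent
  obtain ⟨A₀, hA₀H, hA₀e, hA₀c⟩ := exists_elementaryAbelian_sq hx.2.2.1 hx.2.2.2
  obtain ⟨hnilH, -, -, -⟩ := h1417 H hH x hx A₀ hA₀H hA₀e hA₀c
  -- `σ(M) ∩ σ(H) = ∅`
  have hnc' : ∀ g : G, BG10.cj g H ≠ M := by
    intro g hg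
    apply hnc g⁻¹
    rw [← hg, cj_inv_cj]
  have hdisj : ∀ q : ℕ, q ∈ Cfsg.sigma M → q ∉ Cfsg.sigma H := fun q hqM hqH =>
    not_mem_sigma_of_mem_sigma hG hU hH hM hnc' hnilH hqH hqM
  obtain ⟨⟨hSM, hSpi, hSidx⟩, -, -⟩ := thm_10_2_sigma hG hU M hM
  -- `D` and `D0`
  obtain ⟨D, hD⟩ : ∃ D : Subgroup G, D = Cfsg.sigmaCore M ⊓ H := ⟨_, rfl⟩
  have hDS : D ≤ Cfsg.sigmaCore M := by rw [hD]; exact inf_le_left
  have hDH : D ≤ H := by rw [hD]; exact inf_le_right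
  have hDσ : ∀ q : ℕ, q.Prime → q ∣ Nat.card D → q ∈ Cfsg.sigma M := fun q hq hd =>
    hSpi q hq (hd.trans (Subgroup.card_dvd_of_le hDS))
  obtain ⟨E, hE, hDE⟩ := Cfsg.Agent.Helper71.BGHall.exists_isComplIn_sigmaCore_ge hG hU hH hDH
    (fun q hq hd => hdisj q (hDσ q hq hd))
  have hctx := Cfsg.Agent.Helper68.BG12.eCtx_of hG hU hH hE
  obtain ⟨A', hA'E, hA'e, hA'c⟩ :=
    Cfsg.Agent.Helper71.BGHall.exists_elementaryAbelian_sq_le_compl hctx hx.2.1 hx.2.2.1 hx.2.2.2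
  have hEA' : E ≤ Subgroup.normalizer (A' : Set G) := h1418 H E x A' hH hE hx hA'E hA'e hA'c
  have hEH : E ≤ H := hE.1
  have hMHD : M ⊓ H ≤ Subgroup.normalizer (D : Set G) := by
    rw [hD]
    exact Cfsg.Agent.Helper71.Shult.inf_le_normalizer
      (inf_le_left.trans (le_normalizer_sigmaCore M)) (inf_le_right.trans Subgroup.le_normalizer)
  rw [← hD] at hne
  obtain ⟨D0, hD0⟩ : ∃ D0 : Subgroup G, D0 = ⁅D, M ⊓ H⁆ := ⟨_, rfl⟩
  rw [← hD0] at hne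
  have hD0D : D0 ≤ D := by
    rw [hD0]; exact Cfsg.Agent.Helper63.BG13F.commutator_le_left_of_le_normalizer hMHD
  have hD0H : D0 ≤ H := hD0D.trans hDH
  have hD0E : D0 ≤ E := hD0D.trans hDE
  have hD0σ : ∀ q : ℕ, q.Prime → q ∣ Nat.card D0 → q ∈ Cfsg.sigma M := fun q hq hd =>
    hDσ q hq (hd.trans (Subgroup.card_dvd_of_le hD0D))
  -- `D0 ≤ E'`
  have hsup : Cfsg.sigmaCore H ⊔ E = H := by
    apply le_antisymm (sup_le hE.2.1 hE.1)
    intro m hm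
    obtain ⟨a, ha, b, hb, rfl⟩ := hE.2.2.2 m hm
    exact Subgroup.mul_mem _ (Subgroup.mem_sup_right ha) (Subgroup.mem_sup_left hb)
  have hHH : ⁅H, H⁆ ≤ Cfsg.sigmaCore H ⊔ ⁅E, E⁆ :=
    Cfsg.Agent.Helper64.BG1218.commutator_le_sup_of_sup_eq (le_normalizer_sigmaCore H) hsup
  have hEE : ⁅E, E⁆ ≤ E := Cfsg.Agent.Helper64.BG1218.commutator_self_le E
  have hD0K : D0 ≤ ⁅E, E⁆ := by
    intro y hy
    have h1 : y ∈ Cfsg.sigmaCore H ⊔ ⁅E, E⁆ := by
      apply hHH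
      rw [hD0] at hy
      exact Subgroup.commutator_mono hDH inf_le_right hy
    have hKN : ⁅E, E⁆ ≤ Subgroup.normalizer ((Cfsg.sigmaCore H : Subgroup G) : Set G) :=
      (hEE.trans hEH).trans (le_normalizer_sigmaCore H)
    have h2 : y ∈ ((Cfsg.sigmaCore H ⊔ ⁅E, E⁆ : Subgroup G) : Set G) := h1
    rw [Subgroup.coe_mul_of_right_le_normalizer_left _ _ hKN] at h2
    obtain ⟨n, hn, t, ht, rfl⟩ := h2
    have hnE : n ∈ E := by
      have e : n = (n * t) * t⁻¹ := by group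
      rw [e]
      exact E.mul_mem (hD0E hy) (E.inv_mem (hEE ht))
    have hn1 : n ∈ E ⊓ Cfsg.sigmaCore H := ⟨hnE, hn⟩
    rw [hE.2.2.1, Subgroup.mem_bot] at hn1
    show n * t ∈ ⁅E, E⁆
    rw [hn1, one_mul]
    exact ht
  -- `A'` centralizes `D0`
  have hKnil : Group.IsNilpotent ↥⁅E, E⁆ := (Cfsg.Agent.S1415.result hG H hH E hE).1
  have hA'p : IsPGroup x A' := isPGroup_of_isElementaryAbelian hA'e
  have hxD0 : ¬ x ∣ Nat.card D0 := fun hd => hxs (hD0σ x hxp hd)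
  have hD0x : (Nat.card D0).Coprime x := ((Nat.Prime.coprime_iff_not_dvd hxp).2 hxD0).symm
  have hD0A' : D0 ≤ Subgroup.normalizer (A' : Set G) := hD0E.trans hEA'
  have hEK : E ≤ Subgroup.normalizer ((⁅E, E⁆ : Subgroup G) : Set G) :=
    Cfsg.Agent.Helper23.BG13.le_normalizer_commutator_self E
  have hcomm : ⁅A', D0⁆ ≤ Subgroup.centralizer (D0 : Set G) := by
    rw [Subgroup.commutator_le]
    intro a ha d hd
    have huA : ⁅a, d⁆ ∈ A' := by
      have h1 := Cfsg.Agent.Helper71.Shult.conj_mem_of_le_normalizer hD0A' hd (A'.inv_mem ha)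
      have e : ⁅a, d⁆ = a * (d * a⁻¹ * d⁻¹) := by rw [commutatorElement_def]; group
      rw [e]; exact A'.mul_mem ha h1
    have huK : ⁅a, d⁆ ∈ ⁅E, E⁆ := by
      have h1 := Cfsg.Agent.Helper71.Shult.conj_mem_of_le_normalizer hEK (hA'E ha) (hD0K hd)
      have e : ⁅a, d⁆ = (a * d * a⁻¹) * d⁻¹ := by rw [commutatorElement_def]
      rw [e]; exact Subgroup.mul_mem _ h1 (Subgroup.inv_mem _ (hD0K hd))
    rw [Subgroup.mem_centralizer_iff]
    intro d' hd'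
    have ho1 : orderOf ⁅a, d⁆ ∣ x ^ 2 := by
      rw [← hA'c]; exact Subgroup.orderOf_dvd_natCard A' huA
    have ho2 : orderOf d' ∣ Nat.card D0 := Subgroup.orderOf_dvd_natCard D0 hd'
    have hcop : (orderOf d').Coprime (orderOf ⁅a, d⁆) :=
      Nat.Coprime.coprime_dvd_left ho2
        (Nat.Coprime.coprime_dvd_right ho1 (Nat.Coprime.pow_right 2 hD0x))
    exact Cfsg.Agent.Helper67.NilHall.commute_of_mem_nilpotent hKnil (hD0K hd') huK hcop
  have hA'C : A' ≤ Subgroup.centralizer (D0 : Set G) :=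
    Cfsg.Agent.Helper63.BG13F.le_centralizer_of_commutator_le_centralizer hxp A' D0 hA'p hD0A'
      hD0x hcomm
  -- contradiction with 12.18(a)
  have hideal : ¬ Cfsg.IsIdealPrime x G := (thm_10_5 hG hU H hH x hx.2.2.1 hx.2.2.2).1
  have hrank := Cfsg.Agent.Helper64.BG1218.lemma_12_18a hG hU hM (h17 M hM)
    (Cfsg.Agent.Helper64.BG1217D.hyp1417e_of h1417 hM x) hxM hxs hideal hH hnc hne hD0σ hD0H
  refine (Cfsg.Agent.Helper23.not_pRankLE_subgroup_iff x 1 _).2 ⟨A', ?_, hA'e, ?_⟩ hrank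
  · exact le_inf (hA'E.trans hEH) (hA'C.trans (Subgroup.centralizer_le_normalizer _))
  · rw [hA'c, pow_one]
    nlinarith [hxp.one_lt]

/-- the statement-shaped hypothesis `LemmaA3 G` of `Helper23.BG13D` -/
theorem lemmaA3_of (hG : Cfsg.IsMinSimpleOddOrder G) (hU : UniquenessThm G)
    (h17 : ∀ M : Subgroup G, IsCoatom M → Cfsg.Agent.Helper64.BG1218.Hyp1217 M)
    (h1417 : Cfsg.Agent.Helper23.BG13.H1417 G)
    (h1418 : ∀ (H E : Subgroup G) (x : ℕ) [Fact x.Prime] (A : Subgroup G), IsCoatom H →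
      Cfsg.IsComplIn E (Cfsg.sigmaCore H) H → x ∈ Cfsg.tau2 H → A ≤ E →
      Cfsg.IsElementaryAbelian x A → Nat.card A = x ^ 2 →
      E ≤ Subgroup.normalizer (A : Set G)) :
    Cfsg.Agent.Helper23.BG13.LemmaA3 G :=
  fun M H hM hH hnc x _ hx hxM hxs => lemma_A_tau2 hG hU h17 h1417 h1418 hM hH hnc hx hxM hxs

end Cfsg.Agent.Helper71.BG13W2
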