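import Mathlib
import Cfsg.Prelude.Def_Solvable
import Cfsg.Agent.Helper71.FrobPP
import Cfsg.Agent.Helper71.UniqueOrderP

set_option autoImplicit false

namespace Cfsg.Agent.Helper71

variable {L : Type*} [Group L] [Finite L] {H : Subgroup L}

/-- A nontrivial Sylow `p`-subgroup of a Frobenius complement has a unique subgroup of order
`p`. -/
theorem frob_sylow_uniqueOrderP (hF : Cfsg.IsFrobeniusComplement H) {p : ℕ} [hp : Fact p.Prime]
    (P : Sylow p H) (hnt : Nontrivial (P : Subgroup H)) : UniqueOrderP p (P : Subgroup H) := by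
  have hPp : IsPGroup p (P : Subgroup H) := P.isPGroup'
  have hcen := hPp.center_nontrivial
  have hcenP : IsPGroup p (Subgroup.center (P : Subgroup H)) := hPp.to_subgroup _
  obtain ⟨k, hk⟩ := IsPGroup.iff_card.mp hcenP
  have hk0 : k ≠ 0 := by
    rintro rfl
    have h1 : Nat.card (Subgroup.center (P : Subgroup H)) = 1 := by simpa using hk
    have h2 := Finite.one_lt_card (α := Subgroup.center (P : Subgroup H))
    omega
  obtain ⟨w, hw⟩ := exists_prime_orderOf_dvd_card' p (by rw [hk]; exact dvd_pow_self p hk0)
  have hw1 : w ≠ 1 := by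
    intro h
    rw [h, orderOf_one] at hw
    exact hp.out.one_lt.ne hw
  have hwp : w ^ p = 1 := by
    have := pow_orderOf_eq_one w
    rwa [hw] at this
  refine ⟨(w : (P : Subgroup H)), ?_, ?_, ?_⟩
  · intro h
    exact hw1 (Subtype.ext h)
  · have := congrArg Subtype.val hwp
    simpa using this
  · intro v hv
    have huL1 : (((w : (P : Subgroup H)) : H) : L) ≠ 1 := by
      intro h
      apply hw1
      apply Subtype.ext
      apply Subtype.ext
      apply Subtype.ext
      exact h
    have hupL : (((w : (P : Subgroup H)) : H) : L) ^ p = 1 := by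
      have := congrArg (fun t : Subgroup.center (P : Subgroup H) =>
        (((t : (P : Subgroup H)) : H) : L)) hwp
      simpa using this
    have hvpL : (((v : (P : Subgroup H)) : H) : L) ^ p = 1 := by
      have := congrArg (fun t : (P : Subgroup H) => ((t : H) : L)) hv
      simpa using this
    have hcomm : (((w : (P : Subgroup H)) : H) : L) * (((v : (P : Subgroup H)) : H) : L) =
        (((v : (P : Subgroup H)) : H) : L) * (((w : (P : Subgroup H)) : H) : L) := by
      have h1 := Subgroup.mem_center_iff.mp w.2 v
      have := congrArg (fun t : (P : Subgroup H) => ((t : H) : L)) h1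
      simpa using this.symm
    have key := frob_mem_zpowers_of_commute hF (p := p)
      (u := (((w : (P : Subgroup H)) : H) : L)) (v := (((v : (P : Subgroup H)) : H) : L))
      ((w : (P : Subgroup H)) : H).2 ((v : (P : Subgroup H)) : H).2 huL1 hupL hvpL hcomm
    obtain ⟨i, hi⟩ := Subgroup.mem_zpowers_iff.mp key
    rw [Subgroup.mem_zpowers_iff]
    refine ⟨i, ?_⟩
    apply Subtype.ext
    apply Subtype.ext
    simpa using hi

/-- Sylow subgroups of Frobenius complements are cyclic, or `p = 2` and they contain a
quaternion pair. -/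
theorem frob_sylow_cyclic_or_quat (hF : Cfsg.IsFrobeniusComplement H) {p : ℕ} [hp : Fact p.Prime]
    (P : Sylow p H) : IsCyclic (P : Subgroup H) ∨ (p = 2 ∧ HasQuatPair (P : Subgroup H)) := by
  by_cases hP : IsCyclic (P : Subgroup H)
  · exact Or.inl hP
  · right
    have hnt : Nontrivial (P : Subgroup H) := by
      by_contra h
      rw [not_nontrivial_iff_subsingleton] at h
      exact hP isCyclic_of_subsingleton
    exact quat_pair_of_uniqueOrderP P.isPGroup' (frob_sylow_uniqueOrderP hF P hnt) hP

/-- Sylow subgroups of odd-order Frobenius complements are cyclic. -/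
theorem frob_sylow_cyclic_of_odd (hF : Cfsg.IsFrobeniusComplement H) (hodd : Odd (Nat.card H))
    {p : ℕ} [hp : Fact p.Prime] (P : Sylow p H) : IsCyclic (P : Subgroup H) := by
  rcases frob_sylow_cyclic_or_quat hF P with h | ⟨h2, x, y, -, h3, h4, -⟩
  · exact h
  · exfalso
    subst h2
    -- x * x is an involution in P, so 2 ∣ card H
    have hord : orderOf (x * x) = 2 := by
      apply orderOf_eq_prime
      · rw [pow_two]; exact h4
      · exact h3
    have h2P : 2 ∣ Nat.card (P : Subgroup H) := by
      have := orderOf_dvd_natCard (x * x)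
      rwa [hord] at this
    have h2H : 2 ∣ Nat.card H := h2P.trans (Subgroup.card_subgroup_dvd_card _)
    exact (Nat.not_even_iff_odd.mpr hodd) (even_iff_two_dvd.mpr h2H)

end Cfsg.Agent.Helper71
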