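import Mathlib
import Cfsg.Agent.Helper10.Card
import Cfsg.Agent.S3867

/-!
Counting Sylow subgroups: `n_p(G) = n_p(G/N) * n_p(PN)`, `n_p(G) = n_p(N) * n_p(N_G(P ∩ N))`,
`n_p(G/R) = n_p(G)` for a normal `p`-subgroup `R`.
-/

set_option autoImplicit false

namespace Cfsg.Agent.Helper71

open Subgroup

section
variable {G : Type*} [Group G]

theorem card_subgroupOf_eq_card_inf (A H : Subgroup G) :
    Nat.card ↥(A.subgroupOf H) = Nat.card ↥(A ⊓ H) := by
  rw [← inf_subgroupOf_right]
  exact Nat.card_congr (subgroupOfEquivOfLe inf_le_right).toEquiv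

variable [Finite G] {p : ℕ} [Fact p.Prime]

/-- `n_p(H) * |N_G(P) ∩ H| = |H|` for a Sylow `p`-subgroup `P` of `H`. -/
theorem card_sylow_mul_card_normalizer_inf (H : Subgroup G) (P' : Sylow p H) :
    Nat.card (Sylow p H) *
      Nat.card ↥(normalizer (((P' : Subgroup H).map H.subtype : Subgroup G) : Set G) ⊓ H) =
      Nat.card H := by
  have h1 : Nat.card (Sylow p H) = (normalizer ((P' : Subgroup H) : Set H)).index :=
    Sylow.card_eq_index_normalizer P'
  have h2 := Subgroup.card_mul_index (normalizer ((P' : Subgroup H) : Set H))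
  have hle : (P' : Subgroup H).map H.subtype ≤ H := map_subtype_le _
  have h3 := subgroupOf_normalizer_eq hle
  have h4 : ((P' : Subgroup H).map H.subtype).subgroupOf H = P' :=
    comap_map_eq_self_of_injective (subtype_injective H) _
  rw [h4] at h3
  rw [← card_subgroupOf_eq_card_inf, h3, h1, mul_comm]
  exact h2

/-- Same with a Sylow subgroup of `G` contained in `H`. -/
theorem card_sylow_mul_card_normalizer_inf' (H : Subgroup G) (P : Sylow p G)
    (hPH : (P : Subgroup G) ≤ H) :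
    Nat.card (Sylow p H) * Nat.card ↥(normalizer ((P : Subgroup G) : Set G) ⊓ H) = Nat.card H := by
  have := card_sylow_mul_card_normalizer_inf H (P.subtype hPH)
  rwa [Sylow.coe_subtype, subgroupOf_map_subtype, inf_eq_left.mpr hPH] at this

/-- `n_p(G) * |N_G(P)| = |G|`. -/
theorem card_sylow_mul_card_normalizer (P : Sylow p G) :
    Nat.card (Sylow p G) * Nat.card ↥(normalizer ((P : Subgroup G) : Set G)) = Nat.card G := by
  rw [Sylow.card_eq_index_normalizer P, mul_comm]
  exact Subgroup.card_mul_index _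

/-- `n_p(G) = n_p(G/N) * n_p(PN)`. -/
theorem card_sylow_eq_quotient_mul (P : Sylow p G) (N : Subgroup G) [N.Normal] :
    Nat.card (Sylow p G) =
      Nat.card (Sylow p (G ⧸ N)) * Nat.card (Sylow p ↥((P : Subgroup G) ⊔ N)) := by
  set Np := normalizer ((P : Subgroup G) : Set G) with hNp
  have hPNp : (P : Subgroup G) ≤ Np := le_normalizer
  have ha := card_sylow_mul_card_normalizer P
  have hb : Nat.card (Sylow p (G ⧸ N)) * Nat.card ↥(Np ⊔ N) = Nat.card G := by
    rw [Cfsg.Agent.S3867.card_sylow_quotient P N, mul_comm]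
    exact Subgroup.card_mul_index _
  have hc := card_sylow_mul_card_normalizer_inf' ((P : Subgroup G) ⊔ N) P le_sup_left
  have hle : Np ≤ normalizer ((((P : Subgroup G) ⊔ N : Subgroup G)) : Set G) := by
    rw [Cfsg.Agent.S3867.normalizer_sup_normal]; exact le_sup_left
  have hd := Cfsg.Agent.Helper10.card_sup_mul_card_inf Np ((P : Subgroup G) ⊔ N) hle
  have he : Np ⊔ ((P : Subgroup G) ⊔ N) = Np ⊔ N := by
    rw [← sup_assoc, sup_eq_left.mpr hPNp]
  rw [he] at hd
  have hpos : 0 < Nat.card ↥Np := Nat.card_pos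
  have hpos2 : 0 < Nat.card ↥((P : Subgroup G) ⊔ N) := Nat.card_pos
  rw [← hNp] at ha hc
  -- combine
  have key : Nat.card (Sylow p G) * (Nat.card ↥Np * Nat.card ↥((P : Subgroup G) ⊔ N)) =
      (Nat.card (Sylow p (G ⧸ N)) * Nat.card (Sylow p ↥((P : Subgroup G) ⊔ N))) *
        (Nat.card ↥Np * Nat.card ↥((P : Subgroup G) ⊔ N)) := by
    calc Nat.card (Sylow p G) * (Nat.card ↥Np * Nat.card ↥((P : Subgroup G) ⊔ N))
        = (Nat.card (Sylow p G) * Nat.card ↥Np) * Nat.card ↥((P : Subgroup G) ⊔ N) := by ring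
      _ = Nat.card G * Nat.card ↥((P : Subgroup G) ⊔ N) := by rw [ha]
      _ = (Nat.card (Sylow p (G ⧸ N)) * Nat.card ↥(Np ⊔ N)) *
            (Nat.card (Sylow p ↥((P : Subgroup G) ⊔ N)) *
              Nat.card ↥(Np ⊓ ((P : Subgroup G) ⊔ N))) := by rw [hb, hc]
      _ = (Nat.card (Sylow p (G ⧸ N)) * Nat.card (Sylow p ↥((P : Subgroup G) ⊔ N))) *
            (Nat.card ↥(Np ⊔ N) * Nat.card ↥(Np ⊓ ((P : Subgroup G) ⊔ N))) := by ring
      _ = _ := by rw [hd]
  exact Nat.eq_of_mul_eq_mul_right (Nat.mul_pos hpos hpos2) key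

/-- `n_p(G/R) = n_p(G)` for a normal `p`-subgroup `R`. -/
theorem card_sylow_quotient_of_isPGroup (R : Subgroup G) [R.Normal] (hR : IsPGroup p R) :
    Nat.card (Sylow p (G ⧸ R)) = Nat.card (Sylow p G) := by
  obtain ⟨P⟩ : Nonempty (Sylow p G) := inferInstance
  have hRP : R ≤ (P : Subgroup G) := hR.le_sylow_of_normal P
  rw [Cfsg.Agent.S3867.card_sylow_quotient P R, Sylow.card_eq_index_normalizer P,
    sup_eq_left.mpr (hRP.trans le_normalizer)]
  rfl

/-- `n_p(G) = n_p(N) * n_p(N_G(R))` for `R` a Sylow `p`-subgroup of the normal subgroup `N`. -/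
theorem card_sylow_eq_normal_mul (N : Subgroup G) [N.Normal] (R' : Sylow p N) :
    Nat.card (Sylow p G) = Nat.card (Sylow p N) *
      Nat.card (Sylow p ↥(normalizer (((R' : Subgroup N).map N.subtype : Subgroup G) : Set G))) := by
  set R : Subgroup G := (R' : Subgroup N).map N.subtype with hR
  set M := normalizer (R : Set G) with hM
  have hRN : R ≤ N := map_subtype_le _
  have hRp : IsPGroup p R := R'.2.map _
  obtain ⟨P, hRP⟩ := hRp.exists_le_sylow
  -- R = P ⊓ N
  have hRPN : R = (P : Subgroup G) ⊓ N := by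
    have h1 : (R' : Subgroup N) ≤ ((P : Subgroup G) ⊓ N).subgroupOf N := by
      intro x hx
      rw [mem_subgroupOf]
      exact ⟨hRP (mem_map_of_mem _ hx), x.2⟩
    have h2 : IsPGroup p (((P : Subgroup G) ⊓ N).subgroupOf N) :=
      (P.2.to_le inf_le_left).comap_of_injective _ (subtype_injective N)
    have h3 := R'.is_maximal' h2 h1
    rw [hR, ← h3, subgroupOf_map_subtype, inf_eq_left.mpr inf_le_right]
  set Np := normalizer ((P : Subgroup G) : Set G) with hNp
  have hNpM : Np ≤ M := by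
    intro g hg
    rw [hM, mem_normalizer_iff]
    intro x
    have hgN : ∀ y, y ∈ N ↔ g * y * g⁻¹ ∈ N := fun y =>
      ⟨fun hy => (inferInstance : N.Normal).conj_mem y hy g, fun hy => by
        have := (inferInstance : N.Normal).conj_mem _ hy g⁻¹
        simpa [mul_assoc] using this⟩
    rw [hRPN, mem_inf, mem_inf, ← hgN x, ← (mem_normalizer_iff.mp hg) x]
  have hPM : (P : Subgroup G) ≤ M := le_normalizer.trans hNpM
  have h1 := card_sylow_mul_card_normalizer_inf N R'
  rw [← hR, ← hM] at h1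
  have hfr : M ⊔ N = ⊤ := Sylow.normalizer_sup_eq_top R'
  have hMN : M ≤ normalizer (N : Set G) := by
    rw [normalizer_eq_top_iff.mpr inferInstance]; exact le_top
  have h2 := Cfsg.Agent.Helper10.card_sup_mul_card_inf M N hMN
  rw [hfr, Nat.card_congr (Subgroup.topEquiv (G := G)).toEquiv] at h2
  have h3 := card_sylow_mul_card_normalizer_inf' M P hPM
  rw [← hNp, inf_eq_left.mpr hNpM] at h3
  have h4 := card_sylow_mul_card_normalizer P
  rw [← hNp] at h4
  have hpos : 0 < Nat.card ↥Np := Nat.card_pos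
  have hpos2 : 0 < Nat.card ↥(M ⊓ N) := Nat.card_pos
  have key : Nat.card (Sylow p G) * (Nat.card ↥Np * Nat.card ↥(M ⊓ N)) =
      (Nat.card (Sylow p N) * Nat.card (Sylow p ↥M)) * (Nat.card ↥Np * Nat.card ↥(M ⊓ N)) := by
    calc Nat.card (Sylow p G) * (Nat.card ↥Np * Nat.card ↥(M ⊓ N))
        = (Nat.card (Sylow p G) * Nat.card ↥Np) * Nat.card ↥(M ⊓ N) := by ring
      _ = Nat.card ↥M * Nat.card ↥N := by rw [h4, h2]
      _ = (Nat.card (Sylow p ↥M) * Nat.card ↥Np) * (Nat.card (Sylow p N) * Nat.card ↥(M ⊓ N)) := by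
          rw [h3, h1]
      _ = _ := by ring
  exact Nat.eq_of_mul_eq_mul_right (Nat.mul_pos hpos hpos2) key

end

end Cfsg.Agent.Helper71
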