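import Mathlib
import Cfsg.Prelude.Def_Solvable
import Cfsg.Agent.Helper71.FrobPP
import Cfsg.Agent.Helper1.CoprimeSylow

set_option autoImplicit false

namespace Cfsg.Agent.Helper71

universe u

/-- In a solvable Frobenius complement, an element `s` of prime order normalizing a cyclic
subgroup `⟨y⟩` centralizes it. (Subgroups of order `pq` are cyclic, in generalized form.) -/
theorem frob_commute_of_normalizes {L : Type u} [Group L] [Finite L] {H : Subgroup L}
    (hF : Cfsg.IsFrobeniusComplement H) (hsolv : Group.IsSolvable H) {y s : L} (hy : y ∈ H)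
    (hs : s ∈ H) {q : ℕ} (hq : q.Prime) (hsq : s ^ q = 1)
    (hnorm : s * y * s⁻¹ ∈ Subgroup.zpowers y) : s * y = y * s := by
  classical
  by_contra hne
  have hs1 : s ≠ 1 := by
    rintro rfl
    exact hne (by simp)
  obtain ⟨N, hNn, hN, hcompl, hcop, -⟩ := frob_kernel_data hF
  have := hNn
  obtain ⟨-, hHtop, -⟩ := (isFrobeniusComplement_iff H).mp hF
  have hNbot : N ≠ ⊥ := by
    intro h
    apply hHtop
    rw [← Subgroup.isComplement'_bot_left, ← h]; exact hcompl
  have hNcard : Nat.card N ≠ 1 := fun h => hNbot (Subgroup.card_eq_one.mp h)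
  obtain ⟨r, hr, hrN⟩ := Nat.exists_prime_and_dvd hNcard
  have hrf : Fact r.Prime := ⟨hr⟩
  have hHN : H ≤ Subgroup.normalizer (N : Set L) := by
    rw [Subgroup.normalizer_eq_top]; exact le_top
  obtain ⟨Q, hQ⟩ := Helper1.exists_invariant_sylow H N hHN hcop (Or.inl hsolv) r
  let QL : Subgroup L := (Q : Subgroup N).map N.subtype
  have hQL_N : ∀ n ∈ QL, n ∈ N := by
    rintro _ ⟨n, -, rfl⟩
    exact n.2
  have hEQ : ∀ e ∈ H, ∀ n ∈ QL, e * n * e⁻¹ ∈ QL := by
    intro e he n hn
    exact (Subgroup.mem_normalizer_iff.mp (hQ he) n).mp hn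
  let A : Subgroup L := QL ⊓ Subgroup.centralizer (QL : Set L)
  have hAcomm : ∀ x y : A, x * y = y * x := by
    intro x y
    apply Subtype.ext
    have := (Subgroup.mem_centralizer_iff.mp x.2.2) y y.2.1
    exact this.symm
  have hEA : ∀ e ∈ H, ∀ n ∈ A, e * n * e⁻¹ ∈ A := by
    intro e he n hn
    refine Subgroup.mem_inf.mpr ⟨hEQ e he n hn.1, ?_⟩
    rw [Subgroup.mem_centralizer_iff]
    intro g hg
    have hg' : e⁻¹ * g * e ∈ QL := by
      have := hEQ e⁻¹ (H.inv_mem he) g hg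
      simpa using this
    have h1 := (Subgroup.mem_centralizer_iff.mp hn.2) _ hg'
    calc g * (e * n * e⁻¹) = e * ((e⁻¹ * g * e) * n) * e⁻¹ := by group
      _ = e * (n * (e⁻¹ * g * e)) * e⁻¹ := by rw [h1]
      _ = e * n * e⁻¹ * g := by group
  have hQLp : IsPGroup r QL := Q.isPGroup'.map N.subtype
  have hQLne : Nontrivial QL := by
    have hQbot : (Q : Subgroup N) ≠ ⊥ := Q.ne_bot_of_dvd_card hrN
    obtain ⟨x, hx1⟩ := (Subgroup.ne_bot_iff_exists_ne_one).mp hQbot
    refine ⟨⟨⟨((x : N) : L), ⟨(x : N), x.2, rfl⟩⟩, 1, ?_⟩⟩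
    intro h
    apply hx1
    have h2 : ((x : N) : L) = 1 := congrArg Subtype.val h
    apply Subtype.ext
    apply Subtype.ext
    exact h2
  have hcenter := hQLp.center_nontrivial
  obtain ⟨z, hz1⟩ := exists_ne (1 : Subgroup.center QL)
  have hn₀A : ((z : QL) : L) ∈ A := by
    refine Subgroup.mem_inf.mpr ⟨(z : QL).2, ?_⟩
    rw [Subgroup.mem_centralizer_iff]
    intro g hg
    have := Subgroup.mem_center_iff.mp z.2 ⟨g, hg⟩
    exact congrArg Subtype.val this
  have hn₀1 : ((z : QL) : L) ≠ 1 := by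
    intro h
    apply hz1
    apply Subtype.ext
    apply Subtype.ext
    exact h
  have hkernel : ∀ n ∈ A, n ∈ Cfsg.frobeniusKernel H := by
    intro n hn
    rw [← hN]
    exact hQL_N n (Subgroup.mem_inf.mp hn).1
  -- conjugates of y by powers of s stay in zpowers y
  have hconj : ∀ j : ℕ, ∀ w ∈ Subgroup.zpowers y, s ^ j * w * (s ^ j)⁻¹ ∈ Subgroup.zpowers y := by
    intro j
    induction j with
    | zero => intro w hw; simpa using hw
    | succ j ih =>
      intro w hw
      have h1 := ih w hw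
      obtain ⟨i, hi⟩ := Subgroup.mem_zpowers_iff.mp h1
      have h2 : s ^ (j + 1) * w * (s ^ (j + 1))⁻¹ = s * (s ^ j * w * (s ^ j)⁻¹) * s⁻¹ := by
        rw [pow_succ']; group
      rw [h2, ← hi, ← conj_zpow]
      exact Subgroup.zpow_mem _ hnorm i
  have hcommj : ∀ j : ℕ, Commute y (s ^ j * y⁻¹ * (s ^ j)⁻¹) := by
    intro j
    have h1 := hconj j y⁻¹ (Subgroup.inv_mem _ (Subgroup.mem_zpowers y))
    obtain ⟨i, hi⟩ := Subgroup.mem_zpowers_iff.mp h1
    rw [← hi]
    exact (Commute.refl y).zpow_right i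
  have hnej : ∀ j : ℕ, 0 < j → j < q → y * (s ^ j * y⁻¹ * (s ^ j)⁻¹) ≠ 1 := by
    intro j hj0 hjq h
    -- s^j commutes with y
    have h1 : s ^ j * y = y * s ^ j := by
      have h2 : s ^ j * y⁻¹ * (s ^ j)⁻¹ = y⁻¹ := by
        have := eq_inv_of_mul_eq_one_right h
        exact this
      have h3 : s ^ j * y⁻¹ = y⁻¹ * s ^ j := by
        calc s ^ j * y⁻¹ = (s ^ j * y⁻¹ * (s ^ j)⁻¹) * s ^ j := by group
          _ = y⁻¹ * s ^ j := by rw [h2]
      calc s ^ j * y = y * (y⁻¹ * s ^ j) * y := by group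
        _ = y * (s ^ j * y⁻¹) * y := by rw [h3]
        _ = y * s ^ j := by group
    -- s is a power of s^j
    have hcop : IsCoprime (j : ℤ) (q : ℤ) := by
      rw [Int.isCoprime_iff_gcd_eq_one, Int.gcd_natCast_natCast]
      have : Nat.Coprime q j := (Nat.Prime.coprime_iff_not_dvd hq).mpr
        (fun hd => by have := Nat.le_of_dvd hj0 hd; omega)
      exact this.symm
    obtain ⟨a, b, hab⟩ := hcop
    have h4 : s = (s ^ j) ^ a := by
      have h5 : s ^ (b * (q : ℤ)) = 1 := by
        rw [mul_comm, zpow_mul, zpow_natCast, hsq, one_zpow]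
      calc s = s ^ (a * (j : ℤ) + b * (q : ℤ)) := by rw [hab, zpow_one]
        _ = s ^ (a * (j : ℤ)) * s ^ (b * (q : ℤ)) := by rw [zpow_add]
        _ = (s ^ j) ^ a := by rw [h5, mul_one, mul_comm, zpow_mul, zpow_natCast]
    apply hne
    have h6 : Commute (s ^ j) y := h1
    rw [h4]
    exact (h6.zpow_left a).eq
  have key := pow_eq_one_of_fpf_metacyclic_subgroup A H hAcomm hEA ?_ y s hy hs (orderOf y) q
    hq.pos (pow_orderOf_eq_one y) hsq hs1 hcommj hnej _ hn₀A
  · -- order of n₀ divides both card H and card N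
    have hd1 : orderOf ((z : QL) : L) ∣ Nat.card H := by
      have h1 : orderOf ((z : QL) : L) ∣ orderOf y := orderOf_dvd_of_pow_eq_one key
      have h2 : orderOf y ∣ Nat.card H := by
        have := orderOf_dvd_natCard (⟨y, hy⟩ : H)
        rwa [Subgroup.orderOf_mk] at this
      exact h1.trans h2
    have hd2 : orderOf ((z : QL) : L) ∣ Nat.card N := by
      have := orderOf_dvd_natCard (⟨((z : QL) : L), hQL_N _ (z : QL).2⟩ : N)
      rwa [Subgroup.orderOf_mk] at this
    have h3 : orderOf ((z : QL) : L) ∣ Nat.gcd (Nat.card H) (Nat.card N) := Nat.dvd_gcd hd1 hd2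
    rw [hcop, Nat.dvd_one, orderOf_eq_one_iff] at h3
    exact hn₀1 h3
  · intro h hh hh1 n hn hnc
    by_contra hn1
    exact hh1 (frob_eq_one_of_commute hF hh (hkernel n hn) hn1 hnc)

end Cfsg.Agent.Helper71
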