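import Mathlib
import Cfsg.Agent.S0069
import Cfsg.Agent.Helper71.FrobSylow
import Cfsg.Agent.Helper10.Card
import Cfsg.Agent.Helper71.SylowCount

/-!
A subgroup of odd order acting fixed-point-freely (by conjugation) on a nontrivial normal subgroup
has all Sylow subgroups cyclic.
-/

set_option autoImplicit false

namespace Cfsg.Agent.Helper71

open Subgroup

section
variable {G : Type*} [Group G] [Finite G]

/-- If `X` acts fixed-point-freely on the nontrivial normal subgroup `K`, then `X` is (isomorphic to)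
a Frobenius complement in `X ⊔ K`. -/
theorem isFrobeniusComplement_subgroupOf_sup_of_fpf (K X : Subgroup G) [K.Normal] (hK : K ≠ ⊥)
    (hX : X ≠ ⊥)
    (hfpf : ∀ x ∈ X, x ≠ 1 → ∀ y ∈ K, y ≠ 1 → x * y ≠ y * x) :
    Cfsg.IsFrobeniusComplement (X.subgroupOf (X ⊔ K)) := by
  set L := X ⊔ K with hL
  have hXL : X ≤ L := le_sup_left
  have hKL : K ≤ L := le_sup_right
  have hdisj : X ⊓ K = ⊥ := by
    rw [eq_bot_iff]
    intro x hx
    rw [mem_bot]
    by_contra hx1
    exact hfpf x hx.1 hx1 x hx.2 hx1 rfl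
  haveI : (K.subgroupOf L).Normal := inferInstance
  have hc : IsComplement' (K.subgroupOf L) (X.subgroupOf L) := by
    apply isComplement'_of_card_mul_and_disjoint
    · rw [card_subgroupOf_eq_card_inf, card_subgroupOf_eq_card_inf, inf_eq_left.mpr hKL,
        inf_eq_left.mpr hXL]
      have h1 := Cfsg.Agent.Helper10.card_sup_mul_card_inf X K
        (by rw [normalizer_eq_top_iff.mpr inferInstance]; exact le_top)
      rw [hdisj, Subgroup.card_bot, mul_one] at h1
      rw [h1, mul_comm]
    · rw [disjoint_iff, eq_bot_iff]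
      intro y hy
      obtain ⟨hy1, hy2⟩ := Subgroup.mem_inf.mp hy
      rw [mem_subgroupOf] at hy1 hy2
      have : (y : G) ∈ X ⊓ K := ⟨hy2, hy1⟩
      rw [hdisj, mem_bot] at this
      rw [mem_bot]
      exact Subtype.ext this
  apply Cfsg.Agent.S0069.isFrobeniusComplement_of_fpf (K.subgroupOf L) (X.subgroupOf L) hc
  · intro h
    apply hK
    rw [eq_bot_iff]
    intro y hy
    have : (⟨y, hKL hy⟩ : L) ∈ K.subgroupOf L := by rw [mem_subgroupOf]; exact hy
    rw [h, mem_bot] at this
    rw [mem_bot]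
    exact congrArg Subtype.val this
  · intro h
    apply hX
    rw [eq_bot_iff]
    intro y hy
    have : (⟨y, hXL hy⟩ : L) ∈ X.subgroupOf L := by rw [mem_subgroupOf]; exact hy
    rw [h, mem_bot] at this
    rw [mem_bot]
    exact congrArg Subtype.val this
  · intro h hh hh1
    rw [eq_bot_iff]
    intro y hy
    rw [mem_bot]
    by_contra hy1
    obtain ⟨hyK, hyC⟩ := Subgroup.mem_inf.mp hy
    rw [mem_subgroupOf] at hyK hh
    have hcomm : (h : L) * y = y * h := by
      have := (mem_centralizer_iff.mp hyC) h (Set.mem_singleton h)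
      exact this
    have hh1' : (h : G) ≠ 1 := fun e => hh1 (Subtype.ext e)
    have hy1' : (y : G) ≠ 1 := fun e => hy1 (Subtype.ext e)
    exact hfpf h hh hh1' y hyK hy1' (congrArg Subtype.val hcomm)

/-- A subgroup of odd order acting fixed-point-freely on a nontrivial normal subgroup has cyclic
Sylow subgroups. -/
theorem isZGroup_of_fpf_of_odd (K X : Subgroup G) [K.Normal] (hK : K ≠ ⊥)
    (hodd : Odd (Nat.card X))
    (hfpf : ∀ x ∈ X, x ≠ 1 → ∀ y ∈ K, y ≠ 1 → x * y ≠ y * x) : IsZGroup X := by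
  by_cases hX : X = ⊥
  · subst hX
    haveI : IsCyclic (⊥ : Subgroup G) := isCyclic_of_subsingleton
    infer_instance
  have hF := isFrobeniusComplement_subgroupOf_sup_of_fpf K X hK hX hfpf
  have hXL : X ≤ X ⊔ K := le_sup_left
  have hodd' : Odd (Nat.card (X.subgroupOf (X ⊔ K))) := by
    rwa [card_subgroupOf_eq_card_inf, inf_eq_left.mpr hXL]
  haveI : IsZGroup (X.subgroupOf (X ⊔ K)) :=
    ⟨fun p hp P => by
      haveI : Fact p.Prime := ⟨hp⟩
      exact frob_sylow_cyclic_of_odd hF hodd' P⟩
  exact IsZGroup.of_injective (f := (subgroupOfEquivOfLe hXL).symm.toMonoidHom)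
    (subgroupOfEquivOfLe hXL).symm.injective

end

end Cfsg.Agent.Helper71
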