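import Cfsg.Agent.Helper71.Frob

set_option autoImplicit false

namespace Cfsg.Agent.Helper71

open Subgroup
open scoped Pointwise

/-- The Frobenius complement property transfers along a group isomorphism. -/
theorem isFrobeniusComplement_map_equiv {L L' : Type*} [Group L] [Group L'] (e : L ≃* L')
    (C : Subgroup L) (hC : Cfsg.IsFrobeniusComplement C) :
    Cfsg.IsFrobeniusComplement (C.map e.toMonoidHom) := by
  rw [isFrobeniusComplement_iff] at hC ⊢
  obtain ⟨h1, h2, h3⟩ := hC
  refine ⟨?_, ?_, ?_⟩
  · intro h
    apply h1
    rwa [Subgroup.map_eq_bot_iff_of_injective _ e.injective] at h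
  · intro h
    apply h2
    have : (C.map e.toMonoidHom).comap e.toMonoidHom = ⊤ := by rw [h, Subgroup.comap_top]
    rwa [Subgroup.comap_map_eq_self_of_injective e.injective] at this
  · intro g hg x hx hgx
    obtain ⟨x, hxC, rfl⟩ := hx
    obtain ⟨g, rfl⟩ := e.surjective g
    have hg' : g ∉ C := fun h => hg ⟨g, h, rfl⟩
    have hgx' : g⁻¹ * x * g ∈ C := by
      obtain ⟨y, hy, hye⟩ := hgx
      have : y = g⁻¹ * x * g := by
        apply e.injective
        simpa using hye
      exact this ▸ hy
    have := h3 g hg' x hxC hgx'
    simp [this]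

/-- A bare carrier type in `Type` with `n` elements and no algebraic instances. -/
structure Carrier (n : ℕ) : Type where
  /-- the underlying index -/
  val : Fin n

/-- `Carrier n` is equivalent to `Fin n`. -/
def carrierEquiv (n : ℕ) : Carrier n ≃ Fin n where
  toFun := Carrier.val
  invFun := Carrier.mk
  left_inv := fun _ => rfl
  right_inv := fun _ => rfl

theorem carrier_finite (n : ℕ) : Finite (Carrier n) := Finite.of_equiv _ (carrierEquiv n).symm

/-- A finite group with a Frobenius complement can be replaced by one living in `Type`. -/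
theorem exists_frobenius_type_zero {L' : Type*} [Group L'] [Finite L'] (C' : Subgroup L')
    (hC' : Cfsg.IsFrobeniusComplement C') :
    ∃ (L : Type) (_ : Group L) (_ : Finite L) (C : Subgroup L),
      Cfsg.IsFrobeniusComplement C ∧ Nonempty (C' ≃* C) := by
  let e : Carrier (Nat.card L') ≃ L' := (carrierEquiv _).trans (Finite.equivFin L').symm
  let _ : Group (Carrier (Nat.card L')) := e.group
  have hmul : ∀ a b : Carrier (Nat.card L'), e (a * b) = e a * e b := fun a b => by
    change e (e.symm (e a * e b)) = e a * e b
    simp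
  let E : Carrier (Nat.card L') ≃* L' := MulEquiv.mk e hmul
  refine ⟨Carrier (Nat.card L'), inferInstance, carrier_finite _, C'.map E.symm.toMonoidHom,
    isFrobeniusComplement_map_equiv E.symm C' hC', ⟨?_⟩⟩
  exact E.symm.subgroupMap C'

/-- Core construction: a fixed-point-free action by automorphisms gives a Frobenius group. -/
theorem isFrobeniusComplement_range_inr {N H : Type*} [Group N] [Group H] [Nontrivial N]
    [Nontrivial H] (φ : H →* MulAut N) (hfpf : ∀ h : H, h ≠ 1 → ∀ n : N, φ h n = n → n = 1) :
    Cfsg.IsFrobeniusComplement (SemidirectProduct.inr : H →* N ⋊[φ] H).range := by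
  rw [isFrobeniusComplement_iff]
  refine ⟨?_, ?_, ?_⟩
  · intro h
    obtain ⟨a, ha⟩ := exists_ne (1 : H)
    have : (SemidirectProduct.inr a : N ⋊[φ] H) ∈ (⊥ : Subgroup (N ⋊[φ] H)) := h ▸ ⟨a, rfl⟩
    rw [Subgroup.mem_bot] at this
    apply ha
    simpa using congrArg SemidirectProduct.right this
  · intro h
    obtain ⟨n, hn⟩ := exists_ne (1 : N)
    have : (SemidirectProduct.inl n : N ⋊[φ] H) ∈ (SemidirectProduct.inr : H →* N ⋊[φ] H).range :=
      h ▸ Subgroup.mem_top _
    obtain ⟨b, hb⟩ := this
    apply hn
    simpa using (congrArg SemidirectProduct.left hb).symm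
  · rintro g hg x ⟨h, rfl⟩ ⟨h', hh'⟩
    have hgl : g.left ≠ 1 := by
      intro hl
      apply hg
      refine ⟨g.right, ?_⟩
      ext <;> simp [hl]
    have hleft := congrArg SemidirectProduct.left hh'
    simp only [SemidirectProduct.left_inr, SemidirectProduct.mul_left, SemidirectProduct.inv_left,
      SemidirectProduct.mul_right, SemidirectProduct.inv_right, SemidirectProduct.right_inr,
      map_one, mul_one] at hleft
    -- hleft : 1 = φ g.right⁻¹ g.left⁻¹ * φ (g.right⁻¹ * h) g.left
    have h2 : φ h g.left = g.left := by
      have h3 : φ g.right⁻¹ (g.left⁻¹ * φ h g.left) = 1 := by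
        rw [map_mul, ← MulAut.mul_apply, ← map_mul]
        exact hleft.symm
      have h4 : g.left⁻¹ * φ h g.left = 1 := by
        have := (φ g.right⁻¹).injective (h3.trans (map_one _).symm)
        exact this
      exact inv_mul_eq_one.mp h4 |>.symm
    by_contra hx
    have hh : h ≠ 1 := by
      intro h1
      apply hx
      rw [h1, map_one]
    exact hgl (hfpf h hh _ h2)

/-- A fixed-point-free action of a nontrivial finite group on a nontrivial finite group yields a
finite Frobenius group (in `Type`) whose complement is isomorphic to the acting group. -/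
theorem exists_frobenius_of_fpf_mulAut {N H : Type*} [Group N] [Group H] [Finite N] [Finite H]
    [Nontrivial N] [Nontrivial H] (φ : H →* MulAut N)
    (hfpf : ∀ h : H, h ≠ 1 → ∀ n : N, φ h n = n → n = 1) :
    ∃ (L : Type) (_ : Group L) (_ : Finite L) (C : Subgroup L),
      Cfsg.IsFrobeniusComplement C ∧ Nonempty (H ≃* C) := by
  have hfin : Finite (N ⋊[φ] H) := Finite.of_equiv _ SemidirectProduct.equivProd.symm
  obtain ⟨L, hL, hLf, C, hC, ⟨e⟩⟩ := exists_frobenius_type_zero _
    (isFrobeniusComplement_range_inr φ hfpf)
  exact ⟨L, hL, hLf, C, hC,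
    ⟨(MonoidHom.ofInjective SemidirectProduct.inr_injective).trans e⟩⟩

/-- Additive version: a fixed-point-free distributive action on a finite additive group. -/
theorem exists_frobenius_of_fpf_add {V H : Type*} [AddGroup V] [Group H] [Finite V] [Finite H]
    [Nontrivial V] [Nontrivial H] [DistribMulAction H V]
    (hfpf : ∀ h : H, h ≠ 1 → ∀ v : V, h • v = v → v = 0) :
    ∃ (L : Type) (_ : Group L) (_ : Finite L) (C : Subgroup L),
      Cfsg.IsFrobeniusComplement C ∧ Nonempty (H ≃* C) := by
  let φ : H →* MulAut (Multiplicative V) :=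
    { toFun := fun h =>
        { toFun := fun v => Multiplicative.ofAdd (h • Multiplicative.toAdd v)
          invFun := fun v => Multiplicative.ofAdd (h⁻¹ • Multiplicative.toAdd v)
          left_inv := fun v => by simp
          right_inv := fun v => by simp
          map_mul' := fun v w => by simp [smul_add] }
      map_one' := by ext v; simp
      map_mul' := fun a b => by ext v; simp [mul_smul] }
  apply exists_frobenius_of_fpf_mulAut φ
  intro h hh n hn
  have := hfpf h hh (Multiplicative.toAdd n) (by
    have := congrArg Multiplicative.toAdd hn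
    simpa [φ] using this)
  exact Multiplicative.toAdd.injective (by simpa using this)

/-- Ring version: a homomorphism `ψ : H → Rˣ` into the units of a finite ring with every
`ψ h - 1` (`h ≠ 1`) a unit. -/
theorem exists_frobenius_of_ring_hom {R H : Type*} [Ring R] [Group H] [Finite R] [Finite H]
    [Nontrivial R] [Nontrivial H] (ψ : H →* Rˣ)
    (hψ : ∀ h : H, h ≠ 1 → IsUnit ((ψ h : R) - 1)) :
    ∃ (L : Type) (_ : Group L) (_ : Finite L) (C : Subgroup L),
      Cfsg.IsFrobeniusComplement C ∧ Nonempty (H ≃* C) := by
  let _ : DistribMulAction H R := DistribMulAction.compHom R ψ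
  apply exists_frobenius_of_fpf_add (V := R) (H := H)
  intro h hh v hv
  have h1 : (ψ h : R) * v = v := hv
  have h2 : ((ψ h : R) - 1) * v = 0 := by rw [sub_mul, one_mul, h1, sub_self]
  exact (hψ h hh).mul_right_eq_zero.mp h2

end Cfsg.Agent.Helper71
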