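import Mathlib
import Cfsg.Prelude.Def_HallClasses
import Cfsg.Agent.S4269

/-!
Basic API for pronormal subgroups (`Cfsg.IsPronormal`): behaviour under surjective homs,
lifting through quotients, restriction to intermediate subgroups, reduction lemmas.
-/

set_option autoImplicit false

namespace Cfsg.Agent.Helper71

open Cfsg.Agent.S4269 (cj mem_cj cj_mul cj_of_mem cj_of_mem_normalizer)

section
variable {G : Type*} [Group G]

theorem cj_one (H : Subgroup G) : cj 1 H = H := cj_of_mem H.one_mem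

theorem cj_inv_cj (g : G) (H : Subgroup G) : cj g⁻¹ (cj g H) = H := by
  rw [← cj_mul, inv_mul_cancel, cj_one]

theorem cj_cj_inv (g : G) (H : Subgroup G) : cj g (cj g⁻¹ H) = H := by
  rw [← cj_mul, mul_inv_cancel, cj_one]

theorem cj_mono {H K : Subgroup G} (h : H ≤ K) (g : G) : cj g H ≤ cj g K := Subgroup.map_mono h

theorem cj_sup (g : G) (H K : Subgroup G) : cj g (H ⊔ K) = cj g H ⊔ cj g K :=
  Subgroup.map_sup H K _

theorem cj_inf (g : G) (H K : Subgroup G) : cj g (H ⊓ K) = cj g H ⊓ cj g K :=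
  Subgroup.map_inf H K _ (MulAut.conj g).injective

theorem cj_le_of_mem {J K : Subgroup G} {u : G} (hu : u ∈ J) (hK : K ≤ J) : cj u K ≤ J := by
  intro y hy
  obtain ⟨k, hk, rfl⟩ := mem_cj.mp hy
  exact J.mul_mem (J.mul_mem hu (hK hk)) (J.inv_mem hu)

theorem mem_normalizer_of_cj_eq {g : G} {H : Subgroup G} (h : cj g H = H) :
    g ∈ Subgroup.normalizer (H : Set G) := by
  rw [Subgroup.mem_normalizer_iff]
  intro k
  constructor
  · intro hk
    rw [← h]; exact mem_cj.mpr ⟨k, hk, rfl⟩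
  · intro hk
    rw [← h] at hk
    obtain ⟨k', hk', he⟩ := mem_cj.mp hk
    have : k' = k := by
      have := congrArg (fun z => g⁻¹ * z * g) he
      simpa [mul_assoc] using this
    rwa [← this]

theorem cj_eq_iff_mem_normalizer {g : G} {H : Subgroup G} :
    cj g H = H ↔ g ∈ Subgroup.normalizer (H : Set G) :=
  ⟨mem_normalizer_of_cj_eq, cj_of_mem_normalizer⟩

theorem cj_normal (g : G) (N : Subgroup G) [N.Normal] : cj g N = N :=
  cj_of_mem_normalizer (by rw [Subgroup.normalizer_eq_top_iff.mpr inferInstance]; trivial)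

theorem map_cj {G' : Type*} [Group G'] (f : G →* G') (g : G) (H : Subgroup G) :
    (cj g H).map f = cj (f g) (H.map f) := by
  unfold cj
  rw [Subgroup.map_map, Subgroup.map_map]
  congr 1
  ext x
  simp

theorem card_cj (g : G) (H : Subgroup G) : Nat.card (cj g H) = Nat.card H :=
  (Nat.card_congr (H.equivMapOfInjective _ (MulAut.conj g).injective).toEquiv).symm

theorem isPGroup_cj {p : ℕ} (g : G) {H : Subgroup G} (h : IsPGroup p H) : IsPGroup p (cj g H) :=
  h.map _

/-- `H` and `gHg⁻¹` are conjugate in their join. -/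
def PrnAt (H : Subgroup G) (g : G) : Prop := ∃ x ∈ H ⊔ cj g H, cj g H = cj x H

theorem isPronormal_iff_prnAt {H : Subgroup G} : Cfsg.IsPronormal H ↔ ∀ g, PrnAt H g := Iff.rfl

/-- Reduction: replace `g` by `u * g` with `u ∈ ⟨H, H^g⟩`. -/
theorem prnAt_of_mul {H : Subgroup G} {u g : G} (hu : u ∈ H ⊔ cj g H) (h : PrnAt H (u * g)) :
    PrnAt H g := by
  obtain ⟨x, hx, hxe⟩ := h
  rw [cj_mul] at hx hxe
  have hle : H ⊔ cj u (cj g H) ≤ H ⊔ cj g H :=
    sup_le le_sup_left (cj_le_of_mem hu le_sup_right)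
  refine ⟨u⁻¹ * x, mul_mem (inv_mem hu) (hle hx), ?_⟩
  rw [cj_mul, ← hxe, cj_inv_cj]

theorem prnAt_congr {H : Subgroup G} {g g' : G} (h : cj g H = cj g' H) : PrnAt H g ↔ PrnAt H g' := by
  unfold PrnAt
  rw [h]

theorem prnAt_mul_normalizer {H : Subgroup G} {g n : G} (hn : n ∈ Subgroup.normalizer (H : Set G)) :
    PrnAt H (g * n) ↔ PrnAt H g :=
  prnAt_congr (by rw [cj_mul, cj_of_mem_normalizer hn])

/-- Images of pronormal subgroups under surjective homs are pronormal. -/
theorem isPronormal_map {G' : Type*} [Group G'] (f : G →* G') (hf : Function.Surjective f)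
    {H : Subgroup G} (h : Cfsg.IsPronormal H) : Cfsg.IsPronormal (H.map f) := by
  intro g'
  obtain ⟨g, rfl⟩ := hf g'
  obtain ⟨x, hx, hxe⟩ := h g
  refine ⟨f x, ?_, ?_⟩
  · have : f x ∈ (H ⊔ cj g H).map f := Subgroup.mem_map_of_mem f hx
    rwa [Subgroup.map_sup, map_cj] at this
  · change cj (f g) (H.map f) = cj (f x) (H.map f)
    rw [← map_cj, ← map_cj]
    exact congrArg (Subgroup.map f) hxe

/-- Pronormality lifts through a quotient whose kernel lies in the subgroup. -/
theorem isPronormal_of_map {G' : Type*} [Group G'] (f : G →* G')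
    {H : Subgroup G} (hker : f.ker ≤ H) (h : Cfsg.IsPronormal (H.map f)) : Cfsg.IsPronormal H := by
  intro g
  obtain ⟨x', hx', hxe'⟩ := h (f g)
  change x' ∈ H.map f ⊔ cj (f g) (H.map f) at hx'
  change cj (f g) (H.map f) = cj x' (H.map f) at hxe'
  rw [← map_cj, ← Subgroup.map_sup] at hx'
  obtain ⟨x, hx, rfl⟩ := hx'
  refine ⟨x, hx, ?_⟩
  rw [← map_cj, ← map_cj] at hxe'
  have h1 := congrArg (Subgroup.comap f) hxe'
  rw [Subgroup.comap_map_eq, Subgroup.comap_map_eq] at h1
  have hk : ∀ y : G, f.ker ≤ cj y H := by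
    intro y
    have : cj y f.ker = f.ker := cj_normal y f.ker
    rw [← this]
    exact cj_mono hker y
  rwa [sup_eq_left.mpr (hk g), sup_eq_left.mpr (hk x)] at h1

/-- Transport pronormality data from a subgroup `Y` to the ambient group. -/
theorem prnAt_map_subtype (Y : Subgroup G) {H' : Subgroup Y} (h : Cfsg.IsPronormal H') (y : Y) :
    PrnAt (H'.map Y.subtype) (y : G) := by
  obtain ⟨x, hx, hxe⟩ := h y
  refine ⟨(x : G), ?_, ?_⟩
  · have : Y.subtype x ∈ (H' ⊔ cj y H').map Y.subtype := Subgroup.mem_map_of_mem _ hx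
    rwa [Subgroup.map_sup, map_cj] at this
  · have := congrArg (Subgroup.map Y.subtype) hxe
    change (cj y H').map Y.subtype = (cj x H').map Y.subtype at this
    rwa [map_cj, map_cj] at this

/-- A pronormal subgroup of `G` is pronormal in every intermediate subgroup. -/
theorem isPronormal_subgroupOf {H : Subgroup G} (h : Cfsg.IsPronormal H) (Y : Subgroup G)
    (hHY : H ≤ Y) : Cfsg.IsPronormal (H.subgroupOf Y) := by
  intro y
  obtain ⟨x, hx, hxe⟩ := h (y : G)
  have hJ : H ⊔ cj (y : G) H ≤ Y := sup_le hHY (cj_le_of_mem y.2 hHY)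
  have hmap : (H.subgroupOf Y).map Y.subtype = H := by
    rw [Subgroup.subgroupOf_map_subtype, inf_eq_left.mpr hHY]
  refine ⟨⟨x, hJ hx⟩, ?_, ?_⟩
  · rw [← Subgroup.mem_map_iff_mem (Subgroup.subtype_injective Y)]
    change x ∈ _
    rw [Subgroup.map_sup]
    change x ∈ (H.subgroupOf Y).map Y.subtype ⊔ (cj y (H.subgroupOf Y)).map Y.subtype
    rw [map_cj, hmap]
    exact hx
  · apply Subgroup.map_injective (Subgroup.subtype_injective Y)
    change (cj y (H.subgroupOf Y)).map Y.subtype = (cj (⟨x, hJ hx⟩ : Y) (H.subgroupOf Y)).map Y.subtype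
    rw [map_cj, map_cj, hmap]
    exact hxe

end

end Cfsg.Agent.Helper71
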