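import Mathlib
import Cfsg.Agent.Helper71.Pronormal
import Cfsg.Agent.Helper71.SylowCount

/-!
Pronormality of overgroups of Sylow subgroups in an extension `A ⊴ G`
(Kondrat'ev–Maslova–Revin / Guo–Maslova–Revin criterion), the "if" direction.
-/

set_option autoImplicit false

namespace Cfsg.Agent.Helper71

open Cfsg.Agent.S4269 (cj mem_cj cj_mul cj_of_mem cj_of_mem_normalizer)
open Subgroup
open scoped Pointwise

section
variable {G : Type*} [Group G]

theorem smul_eq_cj (g : G) (H : Subgroup G) : MulAut.conj g • H = cj g H := by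
  ext x
  rw [Subgroup.mem_pointwise_smul_iff_inv_smul_mem, mem_cj]
  constructor
  · intro hx
    refine ⟨_, hx, ?_⟩
    simp [MulAut.smul_def, mul_assoc]
  · rintro ⟨h, hh, rfl⟩
    simpa [MulAut.smul_def, mul_assoc] using hh

variable [Finite G] {p : ℕ} [Fact p.Prime]

/-- Sylow conjugacy inside a subgroup `B`, in terms of subgroups of the ambient group. -/
theorem exists_cj_eq_of_sylow_le {B T T' : Subgroup G} (hT : T ≤ B) (hT' : T' ≤ B)
    (hTp : IsPGroup p T) (hidx : ¬ p ∣ T.relIndex B) (hcard : Nat.card T' = Nat.card T) :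
    ∃ b ∈ B, cj b T = T' := by
  have hT'p : IsPGroup p T' := by
    obtain ⟨k, hk⟩ := IsPGroup.iff_card.mp hTp
    exact IsPGroup.of_card (hcard.trans hk)
  have h1p : IsPGroup p (T.subgroupOf B) := hTp.comap_of_injective _ (subtype_injective B)
  have h2p : IsPGroup p (T'.subgroupOf B) := hT'p.comap_of_injective _ (subtype_injective B)
  have hidx1 : ¬ p ∣ (T.subgroupOf B).index := hidx
  have hidx2 : ¬ p ∣ (T'.subgroupOf B).index := by
    have e1 : Nat.card (T.subgroupOf B) * (T.subgroupOf B).index = Nat.card B := card_mul_index _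
    have e2 : Nat.card (T'.subgroupOf B) * (T'.subgroupOf B).index = Nat.card B := card_mul_index _
    rw [card_subgroupOf_eq_card_inf, inf_eq_left.mpr hT] at e1
    rw [card_subgroupOf_eq_card_inf, inf_eq_left.mpr hT', hcard, ← e1] at e2
    have hpos : 0 < Nat.card T := Nat.card_pos
    rw [Nat.eq_of_mul_eq_mul_left hpos e2]
    exact hidx1
  obtain ⟨c, hc⟩ := MulAction.exists_smul_eq B (h1p.toSylow hidx1) (h2p.toSylow hidx2)
  have h3 := congrArg (fun Q : Sylow p B => (Q : Subgroup B)) hc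
  simp only [Sylow.coe_subgroup_smul, IsPGroup.toSylow_coe] at h3
  rw [smul_eq_cj] at h3
  have h4 := congrArg (Subgroup.map B.subtype) h3
  rw [map_cj, subgroupOf_map_subtype, subgroupOf_map_subtype, inf_eq_left.mpr hT,
    inf_eq_left.mpr hT'] at h4
  exact ⟨c, c.2, h4⟩

/-- Frattini argument in subgroup form: if `B ⊴ H` and `T` is a Sylow subgroup of `B`, then
`H = B · N_H(T)`. -/
theorem frattini_sup_eq {H B T : Subgroup G} (hBH : B ≤ H) (hBn : ∀ h ∈ H, cj h B = B)
    (hT : T ≤ B) (hTp : IsPGroup p T) (hidx : ¬ p ∣ T.relIndex B) :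
    H = B ⊔ (H ⊓ normalizer (T : Set G)) := by
  apply le_antisymm
  · intro h hh
    have h1 : cj h T ≤ B := by
      have := cj_mono hT h
      rwa [hBn h hh] at this
    obtain ⟨b, hb, hbe⟩ := exists_cj_eq_of_sylow_le hT h1 hTp hidx (card_cj h T)
    have h2 : cj (b⁻¹ * h) T = T := by rw [cj_mul, ← hbe, cj_inv_cj]
    have h3 : b⁻¹ * h ∈ H ⊓ normalizer (T : Set G) :=
      Subgroup.mem_inf.mpr ⟨H.mul_mem (H.inv_mem (hBH hb)) hh, mem_normalizer_of_cj_eq h2⟩
    have : h = b * (b⁻¹ * h) := by group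
    rw [this]
    exact mul_mem_sup hb h3
  · exact sup_le hBH inf_le_left

/-- A Sylow subgroup of `G` containing a Sylow subgroup `T` of the normal subgroup `A`
meets `A` in `T`. -/
theorem sylow_inf_normal_eq (A : Subgroup G) [A.Normal] (T : Subgroup G) (PA : Sylow p ↥A)
    (hT : (PA : Subgroup ↥A).map A.subtype = T) (S0 : Sylow p G) (hTS : T ≤ (S0 : Subgroup G)) :
    (S0 : Subgroup G) ⊓ A = T := by
  have h1 : (PA : Subgroup A) ≤ ((S0 : Subgroup G) ⊓ A).subgroupOf A := by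
    intro x hx
    rw [mem_subgroupOf]
    exact ⟨hTS (hT ▸ mem_map_of_mem _ hx), x.2⟩
  have h2 : IsPGroup p (((S0 : Subgroup G) ⊓ A).subgroupOf A) :=
    (S0.2.to_le inf_le_left).comap_of_injective _ (subtype_injective A)
  have h3 := PA.is_maximal' h2 h1
  rw [← hT, ← h3, subgroupOf_map_subtype, inf_eq_left.mpr inf_le_right]

theorem sylow_le_normalizer_inf_normal (A : Subgroup G) [A.Normal] (T : Subgroup G)
    (S0 : Sylow p G) (hS0A : (S0 : Subgroup G) ⊓ A = T) :
    (S0 : Subgroup G) ≤ normalizer (T : Set G) := by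
  intro s hs
  apply mem_normalizer_of_cj_eq
  rw [← hS0A, cj_inf, cj_of_mem hs, cj_normal]

/-- For a pronormal subgroup, the image of the normaliser is the normaliser of the image. -/
theorem normalizer_map_of_isPronormal {G' : Type*} [Group G'] (f : G →* G')
    (hf : Function.Surjective f) {K : Subgroup G} (hK : Cfsg.IsPronormal K) :
    (normalizer (K : Set G)).map f = normalizer ((K.map f : Subgroup G') : Set G') := by
  apply le_antisymm (le_normalizer_map f)
  intro gb hgb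
  obtain ⟨g, rfl⟩ := hf gb
  have h1 : cj (f g) (K.map f) = K.map f := cj_of_mem_normalizer hgb
  obtain ⟨x, hx, hxe⟩ := hK g
  change x ∈ K ⊔ cj g K at hx
  change cj g K = cj x K at hxe
  have h2 : f x ∈ (K ⊔ cj g K).map f := mem_map_of_mem f hx
  rw [Subgroup.map_sup, map_cj, h1, sup_idem] at h2
  obtain ⟨k, hk, hke⟩ := h2
  have h3 : cj (x⁻¹ * g) K = K := by rw [cj_mul, hxe, cj_inv_cj]
  have h4 : k * (x⁻¹ * g) ∈ normalizer (K : Set G) :=
    mul_mem (le_normalizer hk) (mem_normalizer_of_cj_eq h3)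
  refine ⟨_, h4, ?_⟩
  rw [map_mul, hke, map_mul, map_inv, mul_inv_cancel_left]

/-- The "only if" direction, part (i). -/
theorem isPronormal_normalizer_quotient (A : Subgroup G) [A.Normal]
    (hall : ∀ K : Subgroup G, (∃ P : Sylow p G, (P : Subgroup G) ≤ K) → Cfsg.IsPronormal K)
    (T : Subgroup G) (PA : Sylow p ↥A) (hT : (PA : Subgroup ↥A).map A.subtype = T)
    [(T.subgroupOf (normalizer (T : Set G))).Normal]
    (Kb : Subgroup (↥(normalizer (T : Set G)) ⧸ T.subgroupOf (normalizer (T : Set G))))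
    (Pb : Sylow p (↥(normalizer (T : Set G)) ⧸ T.subgroupOf (normalizer (T : Set G))))
    (hPK : (Pb : Subgroup _) ≤ Kb) : Cfsg.IsPronormal Kb := by
  have hTp : IsPGroup p T := hT ▸ PA.2.map _
  obtain ⟨S0, hTS⟩ := hTp.exists_le_sylow
  have hS0A := sylow_inf_normal_eq A T PA hT S0 hTS
  have hS0Y := sylow_le_normalizer_inf_normal A T S0 hS0A
  set Y := normalizer (T : Set G) with hY
  set fY := QuotientGroup.mk' (T.subgroupOf Y) with hfY
  have hfYs : Function.Surjective fY := QuotientGroup.mk'_surjective _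
  obtain ⟨yb, hyb⟩ := MulAction.exists_smul_eq (↥Y ⧸ T.subgroupOf Y)
    ((S0.subtype hS0Y).mapSurjective hfYs) Pb
  obtain ⟨y', rfl⟩ := hfYs yb
  have h1 : cj (fY y') ((S0 : Subgroup G).subgroupOf Y |>.map fY) = Pb := by
    have := congrArg (fun Q : Sylow p (↥Y ⧸ T.subgroupOf Y) =>
      (Q : Subgroup (↥Y ⧸ T.subgroupOf Y))) hyb
    simp only [Sylow.coe_subgroup_smul, Sylow.coe_mapSurjective, Sylow.coe_subtype] at this
    rw [smul_eq_cj] at this
    exact this
  set K : Subgroup G := (Kb.comap fY).map Y.subtype with hK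
  have hKY : K ≤ Y := map_subtype_le _
  have hPg : (((y' : G) • S0 : Sylow p G) : Subgroup G) ≤ K := by
    rw [Sylow.coe_subgroup_smul, smul_eq_cj]
    have h2 : cj (y' : G) (S0 : Subgroup G) =
        (cj y' ((S0 : Subgroup G).subgroupOf Y)).map Y.subtype := by
      rw [map_cj, subgroupOf_map_subtype, inf_eq_left.mpr hS0Y]; rfl
    rw [h2, hK]
    apply map_mono
    rw [← map_le_iff_le_comap, map_cj, h1]
    exact hPK
  have hKprn : Cfsg.IsPronormal K := hall K ⟨_, hPg⟩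
  have h3 := isPronormal_subgroupOf hKprn Y hKY
  have h4 : K.subgroupOf Y = Kb.comap fY :=
    comap_map_eq_self_of_injective (subtype_injective Y) _
  rw [h4] at h3
  have h5 := isPronormal_map fY hfYs h3
  rwa [map_comap_eq_self_of_surjective hfYs] at h5

/-- The "if" direction of the criterion, local form. -/
theorem prnAt_of_criterion (A : Subgroup G) [A.Normal]
    (hA : ∀ K : Subgroup ↥A, (∃ P : Sylow p ↥A, (P : Subgroup ↥A) ≤ K) → Cfsg.IsPronormal K)
    (hQ : ∀ K : Subgroup (G ⧸ A), (∃ P : Sylow p (G ⧸ A), (P : Subgroup (G ⧸ A)) ≤ K) →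
      Cfsg.IsPronormal K)
    (T : Subgroup G) (PA : Sylow p ↥A) (hT : (PA : Subgroup ↥A).map A.subtype = T)
    [(T.subgroupOf (normalizer (T : Set G))).Normal]
    (hi : ∀ K : Subgroup (↥(normalizer (T : Set G)) ⧸ T.subgroupOf (normalizer (T : Set G))),
      (∃ P : Sylow p (↥(normalizer (T : Set G)) ⧸ T.subgroupOf (normalizer (T : Set G))),
        (P : Subgroup (↥(normalizer (T : Set G)) ⧸ T.subgroupOf (normalizer (T : Set G)))) ≤ K) →
      Cfsg.IsPronormal K)
    (S0 : Sylow p G) (hTS : T ≤ (S0 : Subgroup G)) (H : Subgroup G) (hSH : (S0 : Subgroup G) ≤ H)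
    (hii : (normalizer (H : Set G)).map (QuotientGroup.mk' A) =
      normalizer ((H.map (QuotientGroup.mk' A) : Subgroup (G ⧸ A)) : Set (G ⧸ A)))
    (g : G) : PrnAt H g := by
  have hTA : T ≤ A := hT ▸ map_subtype_le _
  have hTp : IsPGroup p T := hT ▸ PA.2.map _
  have hTH : T ≤ H := hTS.trans hSH
  -- `S0 ⊓ A = T`
  have hS0A : (S0 : Subgroup G) ⊓ A = T := by
    have h1 : (PA : Subgroup A) ≤ ((S0 : Subgroup G) ⊓ A).subgroupOf A := by
      intro x hx
      rw [mem_subgroupOf]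
      exact ⟨hTS (hT ▸ mem_map_of_mem _ hx), x.2⟩
    have h2 : IsPGroup p (((S0 : Subgroup G) ⊓ A).subgroupOf A) :=
      (S0.2.to_le inf_le_left).comap_of_injective _ (subtype_injective A)
    have h3 := PA.is_maximal' h2 h1
    rw [← hT, ← h3, subgroupOf_map_subtype, inf_eq_left.mpr inf_le_right]
  set Y := normalizer (T : Set G) with hY
  have hS0Y : (S0 : Subgroup G) ≤ Y := by
    intro s hs
    apply mem_normalizer_of_cj_eq
    rw [← hS0A, cj_inf, cj_of_mem hs, cj_normal]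
  -- index of `T` in `A`
  have hTidxA : ¬ p ∣ T.relIndex A := by
    have h1 : T.subgroupOf A = PA := by
      rw [← hT]; exact comap_map_eq_self_of_injective (subtype_injective A) _
    change ¬ p ∣ (T.subgroupOf A).index
    rw [h1]
    exact PA.not_dvd_index
  have hTidx : ∀ B : Subgroup G, T ≤ B → B ≤ A → ¬ p ∣ T.relIndex B := by
    intro B hTB hBA hdvd
    apply hTidxA
    rw [← relIndex_mul_relIndex T B A hTB hBA]
    exact Dvd.dvd.mul_right hdvd _
  -- Step 1: work modulo `A`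
  set f := QuotientGroup.mk' A with hf
  have hfs : Function.Surjective f := QuotientGroup.mk'_surjective A
  have hKbar : Cfsg.IsPronormal (H.map f) :=
    hQ (H.map f) ⟨S0.mapSurjective hfs, by
      rw [Sylow.coe_mapSurjective]; exact map_mono hSH⟩
  obtain ⟨xb, hxb, hxbe⟩ := hKbar (f g)
  change xb ∈ H.map f ⊔ cj (f g) (H.map f) at hxb
  change cj (f g) (H.map f) = cj xb (H.map f) at hxbe
  rw [← map_cj, ← Subgroup.map_sup] at hxb
  obtain ⟨x, hx, rfl⟩ := hxb
  apply prnAt_of_mul (u := x⁻¹) (inv_mem hx)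
  have h1 : cj (f (x⁻¹ * g)) (H.map f) = H.map f := by
    rw [map_mul, map_inv, cj_mul, hxbe, cj_inv_cj]
  have h2 : f (x⁻¹ * g) ∈ normalizer ((H.map f : Subgroup (G ⧸ A)) : Set (G ⧸ A)) :=
    mem_normalizer_of_cj_eq h1
  rw [← hii] at h2
  obtain ⟨n, hn, hne⟩ := h2
  have ha : x⁻¹ * g * n⁻¹ ∈ A := by
    rw [← QuotientGroup.eq_one_iff]
    change f (x⁻¹ * g * n⁻¹) = 1
    rw [map_mul, map_inv, ← hne, mul_inv_cancel]
  have hg1 : x⁻¹ * g = (x⁻¹ * g * n⁻¹) * n := by group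
  rw [hg1, prnAt_mul_normalizer hn]
  generalize x⁻¹ * g * n⁻¹ = a at ha
  clear hg1 hne hn n h1 hxbe hx x
  -- Step 2: use pronormality of `H ⊓ A` in `A`
  set B := H ⊓ A with hB
  have hTB : T ≤ B := le_inf hTH hTA
  have hBA : B ≤ A := inf_le_right
  have hBH : B ≤ H := inf_le_left
  have hBn : ∀ h ∈ H, cj h B = B := by
    intro h hh
    rw [hB, cj_inf, cj_of_mem hh, cj_normal]
  have hB' : Cfsg.IsPronormal (B.subgroupOf A) := by
    refine hA _ ⟨PA, ?_⟩
    intro x hx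
    rw [mem_subgroupOf]
    exact hTB (hT ▸ mem_map_of_mem _ hx)
  have h3 := prnAt_map_subtype A hB' ⟨a, ha⟩
  rw [subgroupOf_map_subtype, inf_eq_left.mpr hBA] at h3
  obtain ⟨b, hb, hbe⟩ := h3
  change b ∈ B ⊔ cj a B at hb
  change cj a B = cj b B at hbe
  have hbJ : b ∈ H ⊔ cj a H := (sup_le_sup hBH (cj_mono hBH a)) hb
  have hbA : b ∈ A := (sup_le hBA (cj_le_of_mem ha hBA)) hb
  apply prnAt_of_mul (u := b⁻¹) (inv_mem hbJ)
  have ha1A : b⁻¹ * a ∈ A := A.mul_mem (A.inv_mem hbA) ha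
  have ha1B : cj (b⁻¹ * a) B = B := by rw [cj_mul, hbe, cj_inv_cj]
  generalize b⁻¹ * a = a1 at ha1A ha1B
  clear hbJ hbA hbe hb b ha a
  -- Step 3: Frattini inside `N_A(B)`
  have h4 : cj a1 T ≤ B := by
    have := cj_mono hTB a1
    rwa [ha1B] at this
  obtain ⟨b2, hb2, hb2e⟩ := exists_cj_eq_of_sylow_le hTB h4 hTp (hTidx B hTB hBA) (card_cj a1 T)
  apply prnAt_of_mul (u := b2⁻¹) (inv_mem (mem_sup_left (hBH hb2)))
  have hyA : b2⁻¹ * a1 ∈ A := A.mul_mem (A.inv_mem (hBA hb2)) ha1A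
  have hyB : cj (b2⁻¹ * a1) B = B := by rw [cj_mul, ha1B, cj_of_mem (B.inv_mem hb2)]
  have hyT : cj (b2⁻¹ * a1) T = T := by rw [cj_mul, ← hb2e, cj_inv_cj]
  generalize b2⁻¹ * a1 = y at hyA hyB hyT
  clear hb2e hb2 b2 h4 ha1B ha1A a1
  -- Step 4: inside `N_G(T)`
  have hyY : y ∈ Y := mem_normalizer_of_cj_eq hyT
  set HY := H ⊓ Y with hHY
  have hTY : T ≤ Y := le_normalizer
  have hHYY : HY ≤ Y := inf_le_right
  set fY := QuotientGroup.mk' (T.subgroupOf Y) with hfY
  have hfYs : Function.Surjective fY := QuotientGroup.mk'_surjective _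
  have hKY : Cfsg.IsPronormal ((HY.subgroupOf Y).map fY) := by
    refine hi _ ⟨(S0.subtype hS0Y).mapSurjective hfYs, ?_⟩
    rw [Sylow.coe_mapSurjective, Sylow.coe_subtype]
    apply map_mono
    intro s hs
    rw [mem_subgroupOf] at hs ⊢
    exact ⟨hSH hs, s.2⟩
  have hker : fY.ker ≤ HY.subgroupOf Y := by
    rw [hfY, QuotientGroup.ker_mk']
    intro t ht
    rw [mem_subgroupOf] at ht ⊢
    exact ⟨hTH ht, t.2⟩
  have hHY' : Cfsg.IsPronormal (HY.subgroupOf Y) := isPronormal_of_map fY hker hKY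
  have h5 := prnAt_map_subtype Y hHY' ⟨y, hyY⟩
  rw [subgroupOf_map_subtype, inf_eq_left.mpr hHYY] at h5
  obtain ⟨x, hx, hxe⟩ := h5
  change x ∈ HY ⊔ cj y HY at hx
  change cj y HY = cj x HY at hxe
  -- Frattini: `H = B ⊔ HY`
  have hfr : H = B ⊔ HY := frattini_sup_eq hBH hBn hTB hTp (hTidx B hTB hBA)
  -- `x` normalises `B`
  have hHNB : H ≤ normalizer (B : Set G) := fun h hh => mem_normalizer_of_cj_eq (hBn h hh)
  have hyNB : y ∈ normalizer (B : Set G) := mem_normalizer_of_cj_eq hyB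
  have hxNB : x ∈ normalizer (B : Set G) :=
    (sup_le (inf_le_left.trans hHNB) (cj_le_of_mem hyNB (inf_le_left.trans hHNB))) hx
  have hxB : cj x B = B := cj_of_mem_normalizer hxNB
  refine ⟨x, (sup_le_sup inf_le_left (cj_mono inf_le_left y)) hx, ?_⟩
  calc cj y H = cj y (B ⊔ HY) := by rw [← hfr]
    _ = cj y B ⊔ cj y HY := cj_sup _ _ _
    _ = cj x B ⊔ cj x HY := by rw [hyB, hxB, hxe]
    _ = cj x (B ⊔ HY) := (cj_sup _ _ _).symm
    _ = cj x H := by rw [← hfr]

/-- The "if" direction of the criterion. -/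
theorem isPronormal_of_criterion (A : Subgroup G) [A.Normal]
    (hA : ∀ K : Subgroup ↥A, (∃ P : Sylow p ↥A, (P : Subgroup ↥A) ≤ K) → Cfsg.IsPronormal K)
    (hQ : ∀ K : Subgroup (G ⧸ A), (∃ P : Sylow p (G ⧸ A), (P : Subgroup (G ⧸ A)) ≤ K) →
      Cfsg.IsPronormal K)
    (T : Subgroup G) (PA : Sylow p ↥A) (hT : (PA : Subgroup ↥A).map A.subtype = T)
    [(T.subgroupOf (normalizer (T : Set G))).Normal]
    (hi : ∀ K : Subgroup (↥(normalizer (T : Set G)) ⧸ T.subgroupOf (normalizer (T : Set G))),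
      (∃ P : Sylow p (↥(normalizer (T : Set G)) ⧸ T.subgroupOf (normalizer (T : Set G))),
        (P : Subgroup (↥(normalizer (T : Set G)) ⧸ T.subgroupOf (normalizer (T : Set G)))) ≤ K) →
      Cfsg.IsPronormal K)
    (hii : ∀ K : Subgroup G, (∃ P : Sylow p G, (P : Subgroup G) ≤ K) →
      (normalizer (K : Set G)).map (QuotientGroup.mk' A) =
        normalizer ((K.map (QuotientGroup.mk' A) : Subgroup (G ⧸ A)) : Set (G ⧸ A)))
    (K : Subgroup G) (P : Sylow p G) (hPK : (P : Subgroup G) ≤ K) : Cfsg.IsPronormal K := by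
  have hTp : IsPGroup p T := hT ▸ PA.2.map _
  obtain ⟨S0, hTS⟩ := hTp.exists_le_sylow
  obtain ⟨c, hc⟩ := MulAction.exists_smul_eq G S0 P
  have h1 : cj c (S0 : Subgroup G) = P := by
    have := congrArg (fun Q : Sylow p G => (Q : Subgroup G)) hc
    simp only [Sylow.coe_subgroup_smul] at this
    rwa [smul_eq_cj] at this
  have hS0K : (S0 : Subgroup G) ≤ cj c⁻¹ K := by
    have := cj_mono hPK c⁻¹
    rwa [← h1, cj_inv_cj] at this
  have h2 : Cfsg.IsPronormal (cj c⁻¹ K) := fun g =>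
    prnAt_of_criterion A hA hQ T PA hT hi S0 hTS (cj c⁻¹ K) hS0K (hii _ ⟨S0, hS0K⟩) g
  have h3 := isPronormal_map (MulAut.conj c).toMonoidHom (MulAut.conj c).surjective h2
  change Cfsg.IsPronormal (cj c (cj c⁻¹ K)) at h3
  rwa [cj_cj_inv] at h3

end

end Cfsg.Agent.Helper71
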