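import Mathlib

/-!
# Sylow subgroups of Schmidt type: definitions

`SchType p P₀`: the abstract properties of the normal Sylow `p`-subgroup of a minimal non-nilpotent
(Schmidt) group that are used to bound the `p`-length (S4394).  `SchIn p S` is the same list of
properties for a subgroup `S` of an ambient group.  `SchAut p q φ`: an automorphism of prime order
`q ≠ p` all of whose proper invariant subgroups are fixed pointwise.
-/

set_option autoImplicit false

namespace Cfsg.Agent.Helper71.Sch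

open scoped commutatorElement

/-- Abstract properties of the normal Sylow `p`-subgroup of a Schmidt group. -/
structure SchType (p : ℕ) (P₀ : Type*) [Group P₀] : Prop where
  comm_mem : ∀ x y : P₀, ⁅x, y⁆ ∈ Subgroup.center P₀
  pow_mem : ∀ x : P₀, x ^ p ∈ Subgroup.center P₀
  surj : ∀ u : P₀, u ∉ Subgroup.center P₀ → ∀ z ∈ Subgroup.center P₀, ∃ v : P₀, ⁅u, v⁆ = z
  small : Nat.card P₀ = p ^ 2 * Nat.card (Subgroup.center P₀) →
    p ≠ 3 ∧ (p = 2 → ∀ u : P₀, u ∉ Subgroup.center P₀ → u ^ 2 ≠ 1)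

/-- The same properties for a subgroup `S` of a group `Γ`. -/
structure SchIn (p : ℕ) {Γ : Type*} [Group Γ] (S : Subgroup Γ) : Prop where
  comm_mem : ∀ x ∈ S, ∀ y ∈ S, ⁅x, y⁆ ∈ Subgroup.centralizer (S : Set Γ)
  pow_mem : ∀ x ∈ S, x ^ p ∈ Subgroup.centralizer (S : Set Γ)
  surj : ∀ u ∈ S, u ∉ Subgroup.centralizer (S : Set Γ) →
    ∀ z ∈ S, z ∈ Subgroup.centralizer (S : Set Γ) → ∃ v ∈ S, ⁅u, v⁆ = z
  small : Nat.card S = p ^ 2 * Nat.card ↥(S ⊓ Subgroup.centralizer (S : Set Γ)) →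
    p ≠ 3 ∧ (p = 2 → ∀ u ∈ S, u ∉ Subgroup.centralizer (S : Set Γ) → u ^ 2 ≠ 1)

/-- An automorphism of prime order `q ≠ p` whose proper invariant subgroups are fixed pointwise. -/
structure SchAut (p q : ℕ) {P₀ : Type*} [Group P₀] (φ : MulAut P₀) : Prop where
  q_prime : q.Prime
  q_ne : q ≠ p
  pow_q : φ ^ q = 1
  ne_one : φ ≠ 1
  min : ∀ P₁ : Subgroup P₀, P₁ ≠ ⊤ → (∀ a ∈ P₁, φ a ∈ P₁) → ∀ a ∈ P₁, φ a = a

end Cfsg.Agent.Helper71.Sch
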