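import Mathlib
import Cfsg.Agent.Helper15.CSGDefs

set_option autoImplicit false

/-!
# S4257, piece (D3) of helper15's plan (helper71): an element whose class size is prime to `|K|`
is (element of `Z(K)`) times (central element).
-/

namespace Cfsg.Agent.Helper71.CSG

open Subgroup Cfsg.Agent.Helper15.CSG

variable {G : Type*} [Group G] [Finite G]

/-- for a normal subgroup `K`, `|K : K ⊓ C|` divides `|G : C|`. -/
theorem relIndex_dvd_index_of_normal_right (C K : Subgroup G) [K.Normal] :
    C.relIndex K ∣ C.index := by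
  have h1 : C.relIndex (C ⊔ K) * (C ⊔ K).index = C.index := relIndex_mul_index le_sup_left
  have h2 : C.relIndex (C ⊔ K) = C.relIndex K := by
    -- `K / (C ⊓ K) ≃ (C ⊔ K) / C` as sets of cosets: via cardinalities
    have hcL : Nat.card C * C.relIndex (C ⊔ K) = Nat.card (C ⊔ K : Subgroup G) := by
      rw [← relIndex_bot_left, ← relIndex_bot_left,
        relIndex_mul_relIndex _ _ _ bot_le le_sup_left]
    have hcK : Nat.card (C ⊓ K : Subgroup G) * C.relIndex K = Nat.card K := by
      rw [← inf_relIndex_right, ← relIndex_bot_left, ← relIndex_bot_left,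
        relIndex_mul_relIndex _ _ _ bot_le inf_le_right]
    have hcI : Nat.card (C ⊓ K : Subgroup G) * K.relIndex C = Nat.card C := by
      rw [← inf_relIndex_left, ← relIndex_bot_left, ← relIndex_bot_left,
        relIndex_mul_relIndex _ _ _ bot_le inf_le_left]
    have hcL' : Nat.card K * K.relIndex (C ⊔ K) = Nat.card (C ⊔ K : Subgroup G) := by
      rw [← relIndex_bot_left, ← relIndex_bot_left,
        relIndex_mul_relIndex _ _ _ bot_le le_sup_right]
    rw [relIndex_sup_right] at hcL'
    have hpos : 0 < Nat.card (C ⊓ K : Subgroup G) := Nat.card_pos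
    have hposr : 0 < K.relIndex C := by
      rcases Nat.eq_zero_or_pos (K.relIndex C) with h | h
      · rw [h, mul_zero] at hcI
        have : 0 < Nat.card C := Nat.card_pos
        omega
      · exact h
    -- `|C| * r_L = |K| * r' ` and `|C| = i * r'`, `|K| = i * r_K`
    have e : Nat.card (C ⊓ K : Subgroup G) * K.relIndex C * C.relIndex (C ⊔ K) =
        Nat.card (C ⊓ K : Subgroup G) * K.relIndex C * C.relIndex K := by
      calc Nat.card (C ⊓ K : Subgroup G) * K.relIndex C * C.relIndex (C ⊔ K)
          = Nat.card C * C.relIndex (C ⊔ K) := by rw [hcI]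
        _ = Nat.card K * K.relIndex C := by rw [hcL, hcL']
        _ = Nat.card (C ⊓ K : Subgroup G) * C.relIndex K * K.relIndex C := by rw [hcK]
        _ = Nat.card (C ⊓ K : Subgroup G) * K.relIndex C * C.relIndex K := by ring
    exact Nat.eq_of_mul_eq_mul_left (Nat.mul_pos hpos hposr) e
  rw [← h2]
  exact Dvd.intro _ h1

omit [Finite G] in
theorem Split.card_coprime {π : Set ℕ} {K H : Subgroup G} (S : Split G π K H) :
    (Nat.card K).Coprime (Nat.card H) := by
  apply Nat.Coprime.symm
  apply Nat.coprime_of_dvd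
  intro r hr hrH hrK
  exact S.hK r (S.hH r hr hrH) hrK

/-- (D3) -/
theorem Split.decomp {π : Set ℕ} {K H : Subgroup G} (S : Split G π K H) {y : G}
    (hy : (Nat.card K).Coprime (cs y)) :
    ∃ k ∈ K, ∃ z ∈ center G, (∀ k' ∈ K, k * k' = k' * k) ∧ y = k * z := by
  classical
  have := S.normal
  -- `K` centralizes `y`
  have hKC : K ≤ centralizer ({y} : Set G) := by
    rw [← relIndex_eq_one]
    have h1 : (centralizer ({y} : Set G)).relIndex K ∣ Nat.card K := relIndex_dvd_card _ _
    have h2 : (centralizer ({y} : Set G)).relIndex K ∣ cs y :=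
      relIndex_dvd_index_of_normal_right _ K
    exact Nat.eq_one_of_dvd_coprimes hy h1 h2
  have hyK : ∀ x ∈ K, x * y = y * x := fun x hx =>
    mem_centralizer_singleton_iff.mp (hKC hx)
  -- decompose `y`
  obtain ⟨⟨⟨k, hk⟩, ⟨h, hh⟩⟩, hkh, -⟩ := (isComplement'_def.mp S.compl).existsUnique y
  have hkh' : k * h = y := hkh
  -- conjugation by `h` on `K` is conjugation by `k⁻¹`
  have hconj : ∀ x ∈ K, h * x * h⁻¹ = k⁻¹ * x * k := by
    intro x hx
    have h1 := hyK x hx
    rw [← hkh'] at h1
    -- x * (k * h) = k * h * x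
    have h2 : h * x = k⁻¹ * x * k * h := by
      calc h * x = k⁻¹ * (k * h * x) := by group
        _ = k⁻¹ * (x * (k * h)) := by rw [h1]
        _ = k⁻¹ * x * k * h := by group
    rw [h2]; group
  have hconjpow : ∀ j : ℕ, ∀ x ∈ K, h ^ j * x * (h ^ j)⁻¹ = (k ^ j)⁻¹ * x * k ^ j := by
    intro j
    induction j with
    | zero => intro x _; simp
    | succ j ih =>
      intro x hx
      have hxj : (k ^ j)⁻¹ * x * k ^ j ∈ K :=
        K.mul_mem (K.mul_mem (K.inv_mem (K.pow_mem hk j)) hx) (K.pow_mem hk j)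
      calc h ^ (j + 1) * x * (h ^ (j + 1))⁻¹ = h * (h ^ j * x * (h ^ j)⁻¹) * h⁻¹ := by
            rw [pow_succ']; group
        _ = h * ((k ^ j)⁻¹ * x * k ^ j) * h⁻¹ := by rw [ih x hx]
        _ = k⁻¹ * ((k ^ j)⁻¹ * x * k ^ j) * k := hconj _ hxj
        _ = (k ^ (j + 1))⁻¹ * x * k ^ (j + 1) := by rw [pow_succ]; group
  -- Chinese remainder
  have hcop : (Nat.card H).Coprime (Nat.card K) := (Split.card_coprime S).symm
  obtain ⟨j, hj1, hj0⟩ := Nat.chineseRemainder hcop 1 0
  have hhj : h ^ j = h := by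
    have h1 : orderOf h ∣ Nat.card H := by
      have := orderOf_dvd_natCard (⟨h, hh⟩ : H)
      rwa [Subgroup.orderOf_mk] at this
    have h2 : j ≡ 1 [MOD orderOf h] := hj1.of_dvd h1
    have := pow_eq_pow_iff_modEq.mpr h2
    rwa [pow_one] at this
  have hkj : k ^ j = 1 := by
    have h1 : orderOf k ∣ Nat.card K := by
      have := orderOf_dvd_natCard (⟨k, hk⟩ : K)
      rwa [Subgroup.orderOf_mk] at this
    have h2 : j ≡ 0 [MOD orderOf k] := hj0.of_dvd h1
    have := pow_eq_pow_iff_modEq.mpr h2
    rwa [pow_zero] at this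
  have hhK : ∀ x ∈ K, h * x = x * h := by
    intro x hx
    have := hconjpow j x hx
    rw [hhj, hkj] at this
    have e : h * x * h⁻¹ = x := by simpa using this
    calc h * x = h * x * h⁻¹ * h := by group
      _ = x * h := by rw [e]
  have hcenter : h ∈ center G := by
    rw [mem_center_iff]
    intro g
    obtain ⟨⟨⟨k1, hk1⟩, ⟨h1, hh1⟩⟩, hg, -⟩ := (isComplement'_def.mp S.compl).existsUnique g
    have hg' : k1 * h1 = g := hg
    rw [← hg']
    calc k1 * h1 * h = k1 * (h1 * h) := by group
      _ = k1 * (h * h1) := by rw [S.comm h1 hh1 h hh]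
      _ = (k1 * h) * h1 := by group
      _ = (h * k1) * h1 := by rw [hhK k1 hk1]
      _ = h * (k1 * h1) := by group
  refine ⟨k, hk, h, hcenter, ?_, hkh'.symm⟩
  intro k' hk'
  have h1 := hyK k' hk'
  rw [← hkh'] at h1
  have hc := (mem_center_iff.mp hcenter)
  -- k' * (k * h) = k * h * k'
  calc k * k' = k * h * k' * h⁻¹ := by
        have := hc k'
        calc k * k' = k * (k' * h) * h⁻¹ := by group
          _ = k * (h * k') * h⁻¹ := by rw [hc k']
          _ = k * h * k' * h⁻¹ := by group
    _ = k' * (k * h) * h⁻¹ := by rw [h1]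
    _ = k' * k := by group

end Cfsg.Agent.Helper71.CSG
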