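import Mathlib
import Cfsg.Agent.Helper15.CSGDefs
import Cfsg.Agent.Helper71.CSGD3

set_option autoImplicit false

/-!
# S4257, piece (D5b) of helper15's plan (helper71)
-/

namespace Cfsg.Agent.Helper71.CSG

open Subgroup Cfsg.Agent.Helper15.CSG

variable {G : Type*} [Group G] [Finite G]

/-- (D5b) -/
theorem Split.mem_center_of_coprime {π : Set ℕ} {A H : Subgroup G} (S : Split G π A H)
    (hA : ∀ x ∈ A, ∀ y ∈ A, x * y = y * x) {u h : G} (hu : u ∈ A) (hh : h ∈ H)
    (huh : u * h = h * u) (hcop : (Nat.card H).Coprime (cs (u * h))) : u ∈ center G := by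
  classical
  have := S.normal
  have hAidx : A.index = Nat.card H := S.compl.symm.index_eq_card
  -- `C ⊔ A = ⊤`
  have htop : centralizer ({u * h} : Set G) ⊔ A = ⊤ := by
    rw [← index_eq_one]
    have h1 : (centralizer ({u * h} : Set G) ⊔ A).index ∣ cs (u * h) :=
      index_dvd_of_le le_sup_left
    have h2 : (centralizer ({u * h} : Set G) ⊔ A).index ∣ Nat.card H := by
      rw [← hAidx]; exact index_dvd_of_le le_sup_right
    exact Nat.eq_one_of_dvd_coprimes hcop h2 h1
  -- `u` is a power of `u * h`
  have hcopAH : (Nat.card A).Coprime (Nat.card H) := Split.card_coprime S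
  obtain ⟨j, hj1, hj0⟩ := Nat.chineseRemainder hcopAH 1 0
  have huj : u ^ j = u := by
    have h1 : orderOf u ∣ Nat.card A := by
      have := orderOf_dvd_natCard (⟨u, hu⟩ : A)
      rwa [Subgroup.orderOf_mk] at this
    have h2 : j ≡ 1 [MOD orderOf u] := hj1.of_dvd h1
    have := pow_eq_pow_iff_modEq.mpr h2
    rwa [pow_one] at this
  have hhj : h ^ j = 1 := by
    have h1 : orderOf h ∣ Nat.card H := by
      have := orderOf_dvd_natCard (⟨h, hh⟩ : H)
      rwa [Subgroup.orderOf_mk] at this
    have h2 : j ≡ 0 [MOD orderOf h] := hj0.of_dvd h1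
    have := pow_eq_pow_iff_modEq.mpr h2
    rwa [pow_zero] at this
  have hpow : (u * h) ^ j = u := by
    have hc : Commute u h := huh
    rw [hc.mul_pow, huj, hhj, mul_one]
  -- the centralizer of `u` is everything
  have hle : centralizer ({u * h} : Set G) ⊔ A ≤ centralizer ({u} : Set G) := by
    apply sup_le
    · intro c hc
      rw [mem_centralizer_singleton_iff] at hc ⊢
      have hcc : Commute c (u * h) := hc
      have := (hcc.pow_right j).eq
      rwa [hpow] at this
    · intro a ha
      rw [mem_centralizer_singleton_iff]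
      exact hA a ha u hu
  rw [htop] at hle
  rw [mem_center_iff]
  intro g
  exact mem_centralizer_singleton_iff.mp (hle (mem_top g))

end Cfsg.Agent.Helper71.CSG
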