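import Mathlib
import Cfsg.Agent.Helper71.SylowCount
import Cfsg.Agent.S0025

/-!
Sylow counting for `P ⊔ N` with `P` a `p`-group normalising a `p'`-group `N`:
`n_p(PN) * |C_N(P)| = |N|`, and every prime-power part of `n_p(PN)` is `≡ 1 mod p`.
-/

set_option autoImplicit false

namespace Cfsg.Agent.Helper71

open Subgroup

section
variable {G : Type*} [Group G] [Finite G] {p : ℕ} [Fact p.Prime]

theorem inf_eq_bot_of_isPGroup_of_not_dvd {P N : Subgroup G} (hP : IsPGroup p P)
    (hpN : ¬ p ∣ Nat.card N) : P ⊓ N = ⊥ := by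
  have hp : p.Prime := Fact.out
  obtain ⟨k, hk⟩ := IsPGroup.iff_card.mp hP
  apply Subgroup.inf_eq_bot_of_coprime
  rw [hk]
  exact Nat.Coprime.pow_left _ ((Nat.Prime.coprime_iff_not_dvd hp).mpr hpN)

theorem conj_mem_centralizer_of_mem {P : Subgroup G} {y x : G} (hy : y ∈ P)
    (hx : x ∈ centralizer (P : Set G)) : y * x * y⁻¹ ∈ centralizer (P : Set G) := by
  rw [mem_centralizer_iff] at hx ⊢
  intro z hz
  have hz' : y⁻¹ * z * y ∈ (P : Set G) := mul_mem (mul_mem (inv_mem hy) hz) hy
  have h1 := hx _ hz'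
  calc z * (y * x * y⁻¹) = y * ((y⁻¹ * z * y) * x) * y⁻¹ := by group
    _ = y * (x * (y⁻¹ * z * y)) * y⁻¹ := by rw [h1]
    _ = y * x * y⁻¹ * z := by group

theorem conj_mem_centralizer_iff_of_mem {P : Subgroup G} {y x : G} (hy : y ∈ P) :
    y * x * y⁻¹ ∈ centralizer (P : Set G) ↔ x ∈ centralizer (P : Set G) := by
  constructor
  · intro h
    have := conj_mem_centralizer_of_mem (inv_mem hy) h
    simpa [mul_assoc] using this
  · exact conj_mem_centralizer_of_mem hy

/-- `N_G(P) ∩ PN = P · C_N(P)` when `P` normalises `N` and `P ∩ N = 1`. -/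
theorem normalizer_inf_sup_eq {P N : Subgroup G} (hPN : P ≤ normalizer (N : Set G))
    (hdisj : P ⊓ N = ⊥) :
    normalizer (P : Set G) ⊓ (P ⊔ N) = P ⊔ (N ⊓ centralizer (P : Set G)) := by
  apply le_antisymm
  · intro x hx
    obtain ⟨hx1, hx2⟩ := mem_inf.mp hx
    rw [← SetLike.mem_coe, coe_mul_of_left_le_normalizer_right P N hPN, Set.mem_mul] at hx2
    obtain ⟨a, ha, n, hn, rfl⟩ := hx2
    have ha' : a ∈ P := ha
    have hn' : n ∈ N := hn
    have hnNp : n ∈ normalizer (P : Set G) := by
      have : n = a⁻¹ * (a * n) := by group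
      rw [this]
      exact mul_mem (inv_mem (le_normalizer ha')) hx1
    have hnC : n ∈ centralizer (P : Set G) := by
      rw [mem_centralizer_iff]
      intro y hy
      have hy' : y ∈ P := hy
      have h1 : n * y * n⁻¹ * y⁻¹ ∈ P :=
        mul_mem ((mem_normalizer_iff.mp hnNp y).mp hy') (inv_mem hy')
      have h2 : n * y * n⁻¹ * y⁻¹ ∈ N := by
        have h3 : y * n⁻¹ * y⁻¹ ∈ N := (mem_normalizer_iff.mp (hPN hy') n⁻¹).mp (inv_mem hn')
        have : n * y * n⁻¹ * y⁻¹ = n * (y * n⁻¹ * y⁻¹) := by group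
        rw [this]
        exact mul_mem hn' h3
      have h4 : n * y * n⁻¹ * y⁻¹ ∈ P ⊓ N := ⟨h1, h2⟩
      rw [hdisj, mem_bot] at h4
      have : n * y = y * n := by
        have h5 : n * y * n⁻¹ * y⁻¹ * (y * n) = y * n := by rw [h4, one_mul]
        rw [← h5]; group
      exact this.symm
    exact mul_mem_sup ha' ⟨hn', hnC⟩
  · refine sup_le (le_inf le_normalizer le_sup_left) (le_inf ?_ (inf_le_left.trans le_sup_right))
    intro x hx
    have hxC : x ∈ centralizer (P : Set G) := hx.2
    rw [mem_normalizer_iff]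
    intro y
    have key : ∀ z ∈ P, x * z * x⁻¹ = z := by
      intro z hz
      have := (mem_centralizer_iff.mp hxC) z hz
      rw [← this, mul_inv_cancel_right]
    constructor
    · intro hy
      rw [key y hy]; exact hy
    · intro hy
      have h1 := key _ hy
      have h2 : x * y * x⁻¹ = y := by
        have h3 : x * (x * y * x⁻¹) * x⁻¹ = x * y * x⁻¹ := h1
        have h4 : x * (x * y * x⁻¹) * x⁻¹ = x * (x * y * x⁻¹ * x⁻¹) := by group
        have h5 : x * y * x⁻¹ = x * (y) * x⁻¹ := rfl
        have h6 : x * (x * y * x⁻¹) = x * y := by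
          have := congrArg (· * x) h3
          simpa [mul_assoc] using this
        have h7 : x * y * x⁻¹ = y := mul_left_cancel h6
        exact h7
      rw [← h2]; exact hy

/-- `n_p(PN) * |C_N(P)| = |N|`. -/
theorem card_sylow_sup_mul_card_centralizer {P N : Subgroup G} (hP : IsPGroup p P)
    (hPN : P ≤ normalizer (N : Set G)) (hpN : ¬ p ∣ Nat.card N) :
    Nat.card (Sylow p ↥(P ⊔ N)) * Nat.card ↥(N ⊓ centralizer (P : Set G)) = Nat.card N := by
  have hdisj := inf_eq_bot_of_isPGroup_of_not_dvd hP hpN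
  set L := P ⊔ N with hL
  have hcardL : Nat.card L = Nat.card P * Nat.card N := by
    have := Cfsg.Agent.Helper10.card_sup_mul_card_inf P N hPN
    rw [hdisj, Subgroup.card_bot, mul_one] at this
    exact this
  have hPL : P ≤ L := le_sup_left
  -- `P` as a Sylow subgroup of `L`
  have hP' : IsPGroup p (P.subgroupOf L) := hP.comap_of_injective _ (subtype_injective L)
  have hidx : ¬ p ∣ (P.subgroupOf L).index := by
    have h1 : Nat.card (P.subgroupOf L) * (P.subgroupOf L).index = Nat.card L :=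
      Subgroup.card_mul_index _
    rw [card_subgroupOf_eq_card_inf, inf_eq_left.mpr hPL, hcardL] at h1
    have hpos : 0 < Nat.card P := Nat.card_pos
    have : (P.subgroupOf L).index = Nat.card N := Nat.eq_of_mul_eq_mul_left hpos h1
    rwa [this]
  have h1 := card_sylow_mul_card_normalizer_inf L (hP'.toSylow hidx)
  rw [IsPGroup.toSylow_coe, subgroupOf_map_subtype, inf_eq_left.mpr hPL,
    normalizer_inf_sup_eq hPN hdisj] at h1
  have hPC : P ≤ normalizer ((N ⊓ centralizer (P : Set G) : Subgroup G) : Set G) := by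
    intro y hy
    rw [mem_normalizer_iff]
    intro x
    have hyN := mem_normalizer_iff.mp (hPN hy) x
    have hyC : y * x * y⁻¹ ∈ centralizer (P : Set G) ↔ x ∈ centralizer (P : Set G) :=
      conj_mem_centralizer_iff_of_mem hy
    rw [mem_inf, mem_inf, ← hyN, hyC]
  have h2 := Cfsg.Agent.Helper10.card_sup_mul_card_inf P (N ⊓ centralizer (P : Set G)) hPC
  have hdisj2 : P ⊓ (N ⊓ centralizer (P : Set G)) = ⊥ := by
    rw [← inf_assoc, hdisj, bot_inf_eq]
  rw [hdisj2, Subgroup.card_bot, mul_one] at h2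
  rw [h2, hcardL] at h1
  have hpos : 0 < Nat.card P := Nat.card_pos
  have : Nat.card P * (Nat.card (Sylow p ↥L) * Nat.card ↥(N ⊓ centralizer (P : Set G))) =
      Nat.card P * Nat.card N := by rw [← h1]; ring
  exact Nat.eq_of_mul_eq_mul_left hpos this

/-- Each prime-power part of `n_p(PN)` is `≡ 1 mod p`. -/
theorem pow_factorization_card_sylow_sup_mod {P N : Subgroup G} (hP : IsPGroup p P)
    (hPN : P ≤ normalizer (N : Set G)) (hpN : ¬ p ∣ Nat.card N) (q : ℕ) (hq : q.Prime) :
    q ^ ((Nat.card (Sylow p ↥(P ⊔ N))).factorization q) % p = 1 := by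
  haveI : Fact q.Prime := ⟨hq⟩
  have hp : p.Prime := Fact.out
  set C := N ⊓ centralizer (P : Set G) with hC
  have hmain := card_sylow_sup_mul_card_centralizer hP hPN hpN
  rw [← hC] at hmain
  -- a Sylow `q`-subgroup of `C`
  obtain ⟨Q0⟩ : Nonempty (Sylow q C) := inferInstance
  set U : Subgroup G := (Q0 : Subgroup C).map C.subtype with hU
  have hUC : U ≤ C := map_subtype_le _
  have hUN : U ≤ N := hUC.trans inf_le_left
  have hUq : IsPGroup q U := Q0.2.map _
  have hUcent : U ≤ centralizer (P : Set G) := hUC.trans inf_le_right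
  have hPU : P ≤ normalizer (U : Set G) := by
    have h1 : P ≤ centralizer (U : Set G) := by
      intro y hy
      rw [mem_centralizer_iff]
      intro u hu
      exact ((mem_centralizer_iff.mp (hUcent hu)) y hy).symm
    exact h1.trans (centralizer_le_normalizer _)
  have hcop : (Nat.card P).Coprime (Nat.card N) := by
    obtain ⟨k, hk⟩ := IsPGroup.iff_card.mp hP
    rw [hk]
    exact Nat.Coprime.pow_left _ ((Nat.Prime.coprime_iff_not_dvd hp).mpr hpN)
  have hsolv : Group.IsSolvable P := by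
    haveI := hP.isNilpotent
    infer_instance
  obtain ⟨Q, hUQ, hPQ⟩ := Cfsg.Agent.S0025.result P N hPN hcop (Or.inl hsolv) q U hUN hUq hPU
  set Qm : Subgroup G := (Q : Subgroup N).map N.subtype with hQm
  have hQmN : Qm ≤ N := map_subtype_le _
  have hQmq : IsPGroup q Qm := Q.2.map _
  have hcardQm : Nat.card Qm = q ^ (Nat.card N).factorization q := by
    rw [← Q.card_eq_multiplicity]
    exact (Nat.card_congr ((Q : Subgroup N).equivMapOfInjective _ (subtype_injective N)).toEquiv).symm
  have hcardU : Nat.card U = q ^ (Nat.card C).factorization q := by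
    rw [← Q0.card_eq_multiplicity]
    exact (Nat.card_congr ((Q0 : Subgroup C).equivMapOfInjective _ (subtype_injective C)).toEquiv).symm
  have hpQm : ¬ p ∣ Nat.card Qm := fun h => hpN (h.trans (Subgroup.card_dvd_of_le hQmN))
  have h2 := card_sylow_sup_mul_card_centralizer hP hPQ hpQm
  -- `Qm ⊓ C_G(P) = U`
  have hinf : Qm ⊓ centralizer (P : Set G) = U := by
    have hle : Qm ⊓ centralizer (P : Set G) ≤ C := fun x hx => ⟨hQmN hx.1, hx.2⟩
    have h3 : IsPGroup q ((Qm ⊓ centralizer (P : Set G)).subgroupOf C) :=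
      (hQmq.to_le inf_le_left).comap_of_injective _ (subtype_injective C)
    have h4 : (Q0 : Subgroup C) ≤ (Qm ⊓ centralizer (P : Set G)).subgroupOf C := by
      intro x hx
      rw [mem_subgroupOf]
      have hxU : (x : G) ∈ U := mem_map_of_mem _ hx
      exact ⟨hUQ hxU, hUcent hxU⟩
    have h5 := Q0.is_maximal' h3 h4
    rw [hU, ← h5, subgroupOf_map_subtype, inf_eq_left.mpr hle]
  rw [hinf, hcardU, hcardQm] at h2
  -- exponents
  set n := Nat.card (Sylow p ↥(P ⊔ N)) with hn
  have hnpos : n ≠ 0 := Nat.card_pos.ne'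
  have hCpos : Nat.card C ≠ 0 := Nat.card_pos.ne'
  have hfac : (Nat.card N).factorization q = n.factorization q + (Nat.card C).factorization q := by
    rw [← hmain, Nat.factorization_mul hnpos hCpos]; rfl
  rw [hfac, pow_add] at h2
  have hpos : 0 < q ^ (Nat.card C).factorization q := pow_pos hq.pos _
  have h6 : Nat.card (Sylow p ↥(P ⊔ Qm)) = q ^ n.factorization q :=
    Nat.eq_of_mul_eq_mul_right hpos h2
  rw [← h6]
  have h7 : Nat.card (Sylow p ↥(P ⊔ Qm)) ≡ 1 [MOD p] := card_sylow_modEq_one p _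
  have h8 : 1 % p = 1 := Nat.mod_eq_of_lt hp.one_lt
  rw [← h8]
  exact h7

end

end Cfsg.Agent.Helper71
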