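import Mathlib
import Cfsg.Prelude.Def_OddOrderLocal
import Cfsg.Agent.Helper29.BG10G
import Cfsg.Agent.Helper50.CyclicSylow
import Cfsg.Agent.Helper67.CyclicSub

set_option autoImplicit false
set_option linter.unusedSectionVars false
set_option linter.unusedVariables false
set_option linter.style.haveILetI false

/-!
# B-G §10/§12 leaf lemmas used by §11 (exceptional maximal subgroups): `σ`-disjointness of
non-conjugate maximal subgroups, and Lemma 12.2 (helper71)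
-/

namespace Cfsg.Agent.Helper71.BG11

open Cfsg Cfsg.Agent.Helper29.BG10

variable {G : Type*} [Group G]

theorem isCoatom_cj {H : Subgroup G} (hH : IsCoatom H) (g : G) : IsCoatom (cj g H) := by
  have h := ((MulAut.conj g).mapSubgroup.isCoatom_iff H).2 hH
  exact h

theorem cj_eq_iff {g : G} {H K : Subgroup G} : cj g H = K ↔ H = cj g⁻¹ K := by
  constructor
  · rintro rfl
    rw [cj_inv_cj]
  · rintro rfl
    rw [cj_cj_inv]

variable [Finite G]

/-- a Sylow `q`-subgroup of `G` inside `M`, for `q ∈ σ(M)` -/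
theorem exists_sylow_top_le (hG : Cfsg.IsMinSimpleOddOrder G) (hU : UniquenessThm G)
    {M : Subgroup G} (hM : IsCoatom M) {q : ℕ} [Fact q.Prime] (hq : q ∈ Cfsg.sigma M) :
    ∃ P₀ : Subgroup G, IsSylowIn q P₀ ⊤ ∧ P₀ ≤ M :=
  (sigmaCtx_of hG hU hM hq).sylTop

/-- a Sylow subgroup of `G` contained in `M` is a Sylow subgroup of `M` -/
theorem isSylowIn_of_top {q : ℕ} {P M : Subgroup G} (hP : IsSylowIn q P ⊤) (hPM : P ≤ M) :
    IsSylowIn q P M := by
  refine ⟨hPM, hP.2.1, fun hd => hP.2.2 ?_⟩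
  rw [← Subgroup.relIndex_mul_relIndex P M ⊤ hPM le_top]
  exact Dvd.dvd.mul_right hd _

/-- **(S), α-part**: if `M`, `H` are non-conjugate maximal subgroups then `α(M) ∩ σ(H) = ∅`. -/
theorem alpha_sigma_disjoint (hG : Cfsg.IsMinSimpleOddOrder G) (hU : UniquenessThm G)
    {M H : Subgroup G} (hM : IsCoatom M) (hH : IsCoatom H) (hnc : ∀ g : G, cj g M ≠ H)
    {q : ℕ} (hqα : q ∈ Cfsg.alpha M) : q ∉ Cfsg.sigma H := by
  intro hqσ
  have hqp : q.Prime := hqα.1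
  haveI : Fact q.Prime := ⟨hqp⟩
  obtain ⟨P₀, hP₀, hP₀M⟩ := exists_sylow_top_le hG hU hM (alpha_subset_sigma hG hU hM hqα)
  obtain ⟨P₁, hP₁, hP₁H⟩ := exists_sylow_top_le hG hU hH hqσ
  obtain ⟨n, -, hn⟩ := hP₀.exists_cj_eq hP₁
  -- `P₀ = cj n P₁ ≤ cj n H`
  have hP₀H : P₀ ≤ cj n H := by
    rw [← hn]; exact cj_mono hP₁H
  have hrk : ¬ Cfsg.PRankLE q 2 ↥P₀ :=
    fun h => hqα.2 (pRankLE_of_isSylowIn (isSylowIn_of_top hP₀ hP₀M) h)
  obtain ⟨L, -, huniq⟩ := uniq_of_uniquenessThm hG hU P₀ hP₀.2.1 hrk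
  have e1 : M = L := huniq M ⟨hM, hP₀M⟩
  have e2 : cj n H = L := huniq _ ⟨isCoatom_cj hH n, hP₀H⟩
  have e3 : cj n H = M := e2.trans e1.symm
  apply hnc n⁻¹
  rw [cj_eq_iff, inv_inv]
  exact e3.symm

theorem prime_mem_alpha_of_dvd_card_alphaCore (M : Subgroup G) {q : ℕ} (hq : q.Prime)
    (hd : q ∣ Nat.card (Cfsg.alphaCore M)) : q ∈ Cfsg.alpha M := by
  unfold Cfsg.alphaCore at hd
  rw [Subgroup.card_map_of_injective M.subtype_injective] at hd
  exact Cfsg.Agent.S1886.piCore_isPi _ q hq hd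

theorem prime_mem_sigma_of_dvd_card_sigmaCore (M : Subgroup G) {q : ℕ} (hq : q.Prime)
    (hd : q ∣ Nat.card (Cfsg.sigmaCore M)) : q ∈ Cfsg.sigma M := by
  unfold Cfsg.sigmaCore at hd
  rw [Subgroup.card_map_of_injective M.subtype_injective] at hd
  exact Cfsg.Agent.S1886.piCore_isPi _ q hq hd

theorem eq_bot_of_forall_prime_not_dvd {X : Subgroup G}
    (h : ∀ q : ℕ, q.Prime → ¬ q ∣ Nat.card X) : X = ⊥ := by
  rw [← Subgroup.card_eq_one]
  by_contra hne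
  obtain ⟨q, hq, hqd⟩ := Nat.exists_prime_and_dvd hne
  exact h q hq hqd

/-- **(S), α-part, groups**: `M_α ∩ H_σ = 1` for non-conjugate maximal subgroups. -/
theorem alphaCore_inf_sigmaCore_eq_bot (hG : Cfsg.IsMinSimpleOddOrder G) (hU : UniquenessThm G)
    {M H : Subgroup G} (hM : IsCoatom M) (hH : IsCoatom H) (hnc : ∀ g : G, cj g M ≠ H) :
    Cfsg.alphaCore M ⊓ Cfsg.sigmaCore H = ⊥ := by
  apply eq_bot_of_forall_prime_not_dvd
  intro q hq hd
  have h1 : q ∈ Cfsg.alpha M :=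
    prime_mem_alpha_of_dvd_card_alphaCore M hq (hd.trans (Subgroup.card_dvd_of_le inf_le_left))
  have h2 : q ∈ Cfsg.sigma H :=
    prime_mem_sigma_of_dvd_card_sigmaCore H hq (hd.trans (Subgroup.card_dvd_of_le inf_le_right))
  exact alpha_sigma_disjoint hG hU hM hH hnc h1 h2

/-- for `q ∈ σ(M)`, every `q`-subgroup of `M` lies in `M_σ` -/
theorem le_sigmaCore_of_isPGroup (hG : Cfsg.IsMinSimpleOddOrder G) (hU : UniquenessThm G)
    {M : Subgroup G} (hM : IsCoatom M) {q : ℕ} [Fact q.Prime] (hq : q ∈ Cfsg.sigma M)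
    {P : Subgroup G} (hP : IsPGroup q P) (hPM : P ≤ M) : P ≤ Cfsg.sigmaCore M := by
  have hq' : q.Prime := Fact.out
  obtain ⟨-, -, -, h4⟩ := thm_10_2_core hG hU hM
  have hcop : ((Cfsg.piCore (Cfsg.sigma M) ↥M).index).Coprime q :=
    ((Nat.Prime.coprime_iff_not_dvd hq').2 (h4 q hq' hq)).symm
  have hP' : IsPGroup q (P.subgroupOf M) := hP.comap_subtype
  have := le_of_index_coprime (Cfsg.piCore (Cfsg.sigma M) ↥M) hcop (P.subgroupOf M) hP'
  intro x hx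
  exact ⟨⟨x, hPM hx⟩, this (Subgroup.mem_subgroupOf.2 hx), rfl⟩

/-- in a nilpotent group `N ≤ G`, a subgroup `P ≤ N` which is Sylow in `N` is normalized by
everything normalizing `N` -/
theorem normalizer_le_normalizer_of_isSylowIn_nilpotent {q : ℕ} [Fact q.Prime] {P N : Subgroup G}
    (hN : Group.IsNilpotent ↥N) (hP : IsSylowIn q P N) :
    Subgroup.normalizer (N : Set G) ≤ Subgroup.normalizer (P : Set G) := by
  intro m hm
  apply mem_normalizer_of_cj_eq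
  -- `cj m P` is again Sylow in `N`
  have h1 : IsSylowIn q (cj m P) N := by
    have := hP.cj m
    rwa [cj_eq_of_mem_normalizer hm] at this
  -- pass to Sylow subgroups of the type `N`
  have hidx : ∀ {R : Subgroup G}, IsSylowIn q R N → ¬ q ∣ (R.subgroupOf N).index := by
    intro R hR
    exact hR.2.2
  let S₁ : Sylow q ↥N := (hP.2.1.comap_subtype (H := P) (K := N)).toSylow (hidx hP)
  let S₂ : Sylow q ↥N := (h1.2.1.comap_subtype (H := cj m P) (K := N)).toSylow (hidx h1)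
  have hS₁ : (S₁ : Subgroup ↥N) = P.subgroupOf N := IsPGroup.toSylow_coe _ _
  have hS₂ : (S₂ : Subgroup ↥N) = (cj m P).subgroupOf N := IsPGroup.toSylow_coe _ _
  have htfae : Group.IsNilpotent ↥N ↔ ∀ (p : ℕ) (_hp : Fact p.Prime) (P : Sylow p ↥N),
      (↑P : Subgroup ↥N).Normal := (Group.isNilpotent_of_finite_tfae (G := ↥N)).out 0 3
  have hnorm : (S₁ : Subgroup ↥N).Normal := htfae.1 hN q inferInstance S₁
  haveI := hnorm
  have heq : S₂ = S₁ := by
    letI : Unique (Sylow q ↥N) := Sylow.unique_of_normal S₁ hnorm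
    exact Subsingleton.elim _ _
  have h2 : (cj m P).subgroupOf N = P.subgroupOf N := by
    rw [← hS₁, ← hS₂, heq]
  have h3 := congrArg (Subgroup.map N.subtype) h2
  rwa [Subgroup.subgroupOf_map_subtype, Subgroup.subgroupOf_map_subtype,
    inf_eq_left.2 h1.1, inf_eq_left.2 hP.1] at h3

/-- **(S), nilpotent part**: if `M_σ` is nilpotent and `M`, `H` are non-conjugate maximal
subgroups then `σ(M) ∩ σ(H) = ∅`. -/
theorem sigma_disjoint_of_nilpotent (hG : Cfsg.IsMinSimpleOddOrder G) (hU : UniquenessThm G)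
    {M H : Subgroup G} (hM : IsCoatom M) (hH : IsCoatom H) (hnc : ∀ g : G, cj g M ≠ H)
    (hnil : Group.IsNilpotent ↥(Cfsg.sigmaCore M))
    {q : ℕ} (hqM : q ∈ Cfsg.sigma M) : q ∉ Cfsg.sigma H := by
  intro hqH
  have hqp : q.Prime := hqM.1
  haveI : Fact q.Prime := ⟨hqp⟩
  haveI : IsSimpleGroup G := hG.2.1
  obtain ⟨P₀, hP₀, hP₀M⟩ := exists_sylow_top_le hG hU hM hqM
  obtain ⟨P₁, hP₁, hP₁H⟩ := exists_sylow_top_le hG hU hH hqH
  obtain ⟨n, -, hn⟩ := hP₁.exists_cj_eq hP₀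
  -- `hn : cj n P₀ = P₁`
  have hP₀σ : P₀ ≤ Cfsg.sigmaCore M := le_sigmaCore_of_isPGroup hG hU hM hqM hP₀.2.1 hP₀M
  have hσM : Cfsg.sigmaCore M ≤ M := Subgroup.map_subtype_le _
  have hP₀syl : IsSylowIn q P₀ (Cfsg.sigmaCore M) := isSylowIn_of_top hP₀ hP₀σ
  -- `M` normalizes `M_σ`
  have hMn : M ≤ Subgroup.normalizer ((Cfsg.sigmaCore M : Subgroup G) : Set G) := by
    intro m hm
    rw [Subgroup.mem_normalizer_iff]
    intro x
    unfold Cfsg.sigmaCore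
    constructor
    · rintro ⟨y, hy, rfl⟩
      refine ⟨⟨m, hm⟩ * y * ⟨m, hm⟩⁻¹, ?_, by simp⟩
      exact (inferInstance : (Cfsg.piCore (Cfsg.sigma M) ↥M).Normal).conj_mem y hy _
    · rintro ⟨y, hy, hyx⟩
      have hxM : x ∈ M := by
        have h1 : m * x * m⁻¹ ∈ M := by rw [← hyx]; exact y.2
        have : x = m⁻¹ * (m * x * m⁻¹) * m := by group
        rw [this]
        exact M.mul_mem (M.mul_mem (M.inv_mem hm) h1) hm
      refine ⟨⟨x, hxM⟩, ?_, rfl⟩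
      have h2 := (inferInstance : (Cfsg.piCore (Cfsg.sigma M) ↥M).Normal).conj_mem y hy
        (⟨m, hm⟩⁻¹)
      have e : (⟨m, hm⟩ : ↥M)⁻¹ * y * (⟨m, hm⟩ : ↥M)⁻¹⁻¹ = ⟨x, hxM⟩ := by
        apply Subtype.ext
        simp only [Subgroup.coe_mul, Subgroup.coe_inv, inv_inv]
        have : (y : G) = m * x * m⁻¹ := hyx
        rw [this]; group
      rwa [e] at h2
  have hMP₀ : M ≤ Subgroup.normalizer (P₀ : Set G) :=
    hMn.trans (normalizer_le_normalizer_of_isSylowIn_nilpotent hnil hP₀syl)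
  have hP₀ne : P₀ ≠ ⊥ := by
    intro hb
    have h1 := hP₀.2.2
    rw [hb, Subgroup.relIndex_top_right, Subgroup.index_bot] at h1
    apply h1
    have h2 : q ∣ Nat.card ↥M := hqM.2.1
    exact h2.trans (Subgroup.card_subgroup_dvd_card M)
  have hNP₀ : Subgroup.normalizer (P₀ : Set G) = M :=
    Cfsg.Agent.Helper31.normalizer_eq_of_isCoatom hM hP₀M hP₀ne hMP₀
  -- `N_G(P₁) ≤ H`
  have hNP₁ : Subgroup.normalizer (P₁ : Set G) ≤ H :=
    (sigmaCtx_of hG hU hH hqH).sylNorm P₁ (isSylowIn_of_top hP₁ hP₁H)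
  have h5 : cj n M ≤ H := by
    rw [← hNP₀, ← normalizer_cj, hn]
    exact hNP₁
  have h6 : cj n M = H := by
    rcases (isCoatom_cj hM n).le_iff.1 h5 with h | h
    · exact absurd h hH.1
    · exact h.symm
  exact hnc n h6

/-- **(S), nilpotent part, groups**. -/
theorem sigmaCore_inf_sigmaCore_eq_bot_of_nilpotent (hG : Cfsg.IsMinSimpleOddOrder G)
    (hU : UniquenessThm G) {M H : Subgroup G} (hM : IsCoatom M) (hH : IsCoatom H)
    (hnc : ∀ g : G, cj g M ≠ H) (hnil : Group.IsNilpotent ↥(Cfsg.sigmaCore M)) :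
    Cfsg.sigmaCore M ⊓ Cfsg.sigmaCore H = ⊥ := by
  apply eq_bot_of_forall_prime_not_dvd
  intro q hq hd
  have h1 : q ∈ Cfsg.sigma M :=
    prime_mem_sigma_of_dvd_card_sigmaCore M hq (hd.trans (Subgroup.card_dvd_of_le inf_le_left))
  have h2 : q ∈ Cfsg.sigma H :=
    prime_mem_sigma_of_dvd_card_sigmaCore H hq (hd.trans (Subgroup.card_dvd_of_le inf_le_right))
  exact sigma_disjoint_of_nilpotent hG hU hM hH hnc hnil h1 h2

/-- **B-G Lemma 12.2(a)**: if `X ≠ 1` is a `p`-subgroup with `N_G(X) ≤ M` then `p ∈ σ(M)` or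
`p ∈ τ₂(M)`. -/
theorem lemma_12_2a (hG : Cfsg.IsMinSimpleOddOrder G) (hU : UniquenessThm G)
    {M : Subgroup G} (hM : IsCoatom M) {p : ℕ} [Fact p.Prime] {X : Subgroup G}
    (hXp : IsPGroup p X) (hX1 : X ≠ ⊥) (hNX : Subgroup.normalizer (X : Set G) ≤ M) :
    p ∈ Cfsg.sigma M ∨ p ∈ Cfsg.tau2 M := by
  have hpp : p.Prime := Fact.out
  by_cases hσ : p ∈ Cfsg.sigma M
  · exact Or.inl hσ
  right
  have hXM : X ≤ M := Subgroup.le_normalizer.trans hNX
  have hpX : p ∣ Nat.card X := by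
    obtain ⟨k, hk⟩ := IsPGroup.iff_card.1 hXp
    have hk0 : k ≠ 0 := by
      intro h0
      rw [h0, pow_zero, Subgroup.card_eq_one] at hk
      exact hX1 hk
    rw [hk]; exact dvd_pow_self p hk0
  have hpM : p ∣ Nat.card ↥M := hpX.trans (Subgroup.card_dvd_of_le hXM)
  refine ⟨hpp, hσ, ?_, ?_⟩
  · by_contra h
    exact hσ (alpha_subset_sigma hG hU hM ⟨hpp, h⟩)
  · intro h1
    apply hσ
    have hp2 : p ≠ 2 := by
      rintro rfl
      have h2 : 2 ∣ Nat.card G := hpM.trans (Subgroup.card_subgroup_dvd_card M)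
      exact (Nat.not_even_iff_odd.2 hG.1) (even_iff_two_dvd.2 h2)
    obtain ⟨P, hP⟩ := (hXp.comap_subtype (H := X) (K := M)).exists_le_sylow
    have hcyc : IsCyclic ↥(P : Subgroup ↥M) :=
      Cfsg.Agent.Helper50.sylow_isCyclic_of_pRankLE_one hp2 h1 P
    set P' : Subgroup G := (P : Subgroup ↥M).map M.subtype with hP'
    haveI : IsCyclic ↥P' :=
      ((P : Subgroup ↥M).equivMapOfInjective M.subtype M.subtype_injective).isCyclic.1 hcyc
    have hXP' : X ≤ P' := by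
      intro x hx
      exact ⟨⟨x, hXM hx⟩, hP (Subgroup.mem_subgroupOf.2 hx), rfl⟩
    refine ⟨hpp, hpM, P, ?_⟩
    intro g hg
    apply hNX
    apply mem_normalizer_of_cj_eq
    have h3 : cj g X ≤ P' := by
      have := cj_mono (g := g) hXP'
      rwa [cj_eq_of_mem_normalizer hg] at this
    exact Cfsg.Agent.Helper67.eq_of_card_eq_of_le_cyclic P' _ _ h3 hXP' (card_cj g X)

/-- **B-G Lemma 12.2(b)**: if `p ∈ σ(M)`, `X ≠ 1` is a `p`-subgroup of `M` and `N_G(X)` lies in a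
maximal subgroup `M* ≠ M`, then `M*` is not conjugate to `M`. -/
theorem lemma_12_2b (hG : Cfsg.IsMinSimpleOddOrder G) (hU : UniquenessThm G)
    {M Mstar : Subgroup G} (hM : IsCoatom M) {p : ℕ} [Fact p.Prime] (hp : p ∈ Cfsg.sigma M)
    {X : Subgroup G} (hXp : IsPGroup p X) (hX1 : X ≠ ⊥) (hXM : X ≤ M)
    (hNX : Subgroup.normalizer (X : Set G) ≤ Mstar) (hne : Mstar ≠ M) :
    ∀ g : G, cj g M ≠ Mstar := by
  intro g hg
  apply hne
  have hXs : X ≤ Mstar := Subgroup.le_normalizer.trans hNX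
  -- `cj g⁻¹ X ≤ M`
  have h1 : cj g⁻¹ X ≤ M := by
    rw [cj_le_iff, inv_inv, hg]; exact hXs
  obtain ⟨m, hm, c, hc, hgmc⟩ := (thm_10_1 hG hU M hM hp X hXp hX1 hXM).1 g⁻¹ h1
  have hcM : c ∈ Mstar := hNX (Subgroup.centralizer_le_normalizer _ hc)
  -- `g = c⁻¹ * m⁻¹`, so `cj g M = cj c⁻¹ M`
  have hg' : g = c⁻¹ * m⁻¹ := by
    have : g = (g⁻¹)⁻¹ := by simp
    rw [this, hgmc]; group
  have h2 : cj c⁻¹ M = Mstar := by
    rw [← hg, hg', cj_mul, cj_eq_self_of_mem (M.inv_mem hm)]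
  -- `c⁻¹ ∈ cj c⁻¹ M` gives `c ∈ M`
  have h3 : c⁻¹ ∈ cj c⁻¹ M := by rw [h2]; exact Mstar.inv_mem hcM
  rw [mem_cj] at h3
  have h4 : c⁻¹ ∈ M := by
    have e : c⁻¹⁻¹ * c⁻¹ * c⁻¹ = c⁻¹ := by group
    rwa [e] at h3
  rw [← h2, cj_eq_self_of_mem h4]

end Cfsg.Agent.Helper71.BG11
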