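import Mathlib
import Cfsg.Prelude.Def_Solvable
import Cfsg.Agent.S0009
import Cfsg.Agent.S0552
import Cfsg.Agent.Lib.Cores

/-!
# Coprime operators fixing the `p`-cores

* `mem_centralizer_of_fixes_pCores`: an element of order prime to a normal solvable subgroup `Kb`
  which centralizes `O_q(Kb)` for every prime `q` centralizes `Kb` (via S0552).
* `exists_mem_sylow_map_eq`: elements of `O_q` of a homomorphic image of `K` lift to any given
  Sylow `q`-subgroup of `K`.
-/

set_option autoImplicit false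

namespace Cfsg.Agent.Helper71.Shult

open Subgroup

theorem mem_centralizer_of_fixes_pCores {H : Type*} [Group H] [Finite H] (Kb : Subgroup H)
    [hKb : Kb.Normal] [Group.IsSolvable ↥Kb] (xb : H) {r : ℕ} (hxr : xb ^ r = 1)
    (hcop : (Nat.card Kb).Coprime r)
    (hfix : ∀ q : ℕ, q.Prime → ∀ y ∈ Cfsg.pCore q ↥Kb, xb * (y : H) * xb⁻¹ = (y : H)) :
    xb ∈ centralizer (Kb : Set H) := by
  set σ : MulAut ↥Kb := MulAut.conjNormal xb with hσdef
  have hfit : ∀ y ∈ Cfsg.fittingSubgroup ↥Kb, σ y = y := by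
    have hle : Cfsg.fittingSubgroup ↥Kb ≤ σ.toMonoidHom.eqLocus (MonoidHom.id _) := by
      rw [Cfsg.Agent.S0009.result]
      apply iSup_le
      rintro ⟨q, hq⟩
      intro y hy
      show σ y = y
      apply Subtype.ext
      rw [hσdef, MulAut.conjNormal_apply]
      exact hfix q hq y hy
    intro y hy
    exact hle hy
  have hσ : σ = MulEquiv.refl _ := by
    by_contra hne
    apply Cfsg.Agent.S0552.result σ hfit hne
    have h1 : σ ^ r = 1 := by
      rw [hσdef, ← map_pow, hxr, map_one]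
    have h2 := orderOf_dvd_of_pow_eq_one h1
    exact Nat.Coprime.coprime_dvd_left h2 hcop.symm
  rw [mem_centralizer_iff]
  intro z hz
  have h1 : σ ⟨z, hz⟩ = ⟨z, hz⟩ := by rw [hσ]; rfl
  have h2 := congrArg Subtype.val h1
  rw [hσdef, MulAut.conjNormal_apply] at h2
  exact (mul_inv_eq_iff_eq_mul.mp h2).symm

theorem exists_mem_sylow_map_eq {G H : Type*} [Group G] [Group H] [Finite G] (π : G →* H)
    (K : Subgroup G) {q : ℕ} [Fact q.Prime] (P : Sylow q ↥K) (y : ↥(K.map π))
    (hy : y ∈ Cfsg.pCore q ↥(K.map π)) : ∃ a : ↥K, a ∈ P ∧ π (a : G) = (y : H) := by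
  have hπK : Function.Surjective (π.subgroupMap K) := π.subgroupMap_surjective K
  have hPle : Cfsg.pCore q ↥(K.map π) ≤ ((P.mapSurjective hπK : Sylow q ↥(K.map π)) :
      Subgroup ↥(K.map π)) := Cfsg.Agent.Lib.pCore_le_sylow _
  have hy' := hPle hy
  rw [Sylow.coe_mapSurjective] at hy'
  obtain ⟨a, haP, rfl⟩ := hy'
  exact ⟨a, haP, rfl⟩

end Cfsg.Agent.Helper71.Shult
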