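import Mathlib
import Cfsg.Prelude.Def_OddOrderLocal
import Cfsg.Agent.S0023
import Cfsg.Agent.S3766
import Cfsg.Agent.Helper71.ShultSpecial
import Cfsg.Agent.Helper71.PrimeAction
import Cfsg.Agent.Helper71.FixCores

/-!
# Prime-order operators act trivially on chief factors below `F(K)` (core of S1445)
-/

set_option autoImplicit false

namespace Cfsg.Agent.Helper71.Shult

open Subgroup Cfsg.Agent.Helper97
open scoped commutatorElement

/-- In a homomorphic image `H` of `G` with kernel the centralizer of the `ℓ`-chief factor `U / V`,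
the `ℓ`-core of the image of a normal subgroup `K` is trivial. -/
theorem pCore_image_trivial {G H : Type*} [Group G] [Finite G] [Group H] (π : G →* H)
    {U V : Subgroup G} [hU : U.Normal] [hV : V.Normal] (hker : π.ker = chiefCent U V)
    (hchief : IsChiefPair U V) {ℓ : ℕ} [Fact ℓ.Prime] (hUℓ : ∀ u ∈ U, u ^ ℓ ∈ V)
    (K : Subgroup G) [hK : K.Normal] (hπ : Function.Surjective π) (P : Sylow ℓ ↥K)
    (y : ↥(K.map π)) (hy : y ∈ Cfsg.pCore ℓ ↥(K.map π)) : (y : H) = 1 := by
  have hlt : V < U := hchief.2.2.1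
  have hmin := hchief.2.2.2
  haveI hKb : (K.map π).Normal := hK.map π hπ
  have hQℓ : IsPGroup ℓ ((P : Subgroup ↥K).map K.subtype : Subgroup G) := P.isPGroup'.map _
  have hchar : (Cfsg.pCore ℓ ↥(K.map π)).Characteristic := Cfsg.Agent.Lib.pCore_characteristic ℓ
  have hOn' : ((Cfsg.pCore ℓ ↥(K.map π)).map (K.map π).subtype).Normal :=
    ConjAct.normal_of_characteristic_of_normal
  set O : Subgroup G := ((Cfsg.pCore ℓ ↥(K.map π)).map (K.map π).subtype).comap π with hOdef
  have hOn : O.Normal := hOn'.comap π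
  have hOC : O ≤ chiefCent U V := by
    have hWn : (⁅U, O⁆ ⊔ V).Normal := inferInstance
    rcases hmin (⁅U, O⁆ ⊔ V) hWn le_sup_right (sup_le (commutator_le_left U O) hlt.le)
      with h | h
    · intro o ho
      rw [mem_chiefCent]
      intro u hu
      have h1 : ⁅u, o⁆ ∈ ⁅U, O⁆ ⊔ V :=
        le_sup_left (a := ⁅U, O⁆) (commutator_mem_commutator hu ho)
      rw [h] at h1
      exact h1
    · exfalso
      apply commutator_sup_ne_of_isPGroup hlt hUℓ hQℓ
      apply le_antisymm (sup_le (commutator_le_left U _) hlt.le)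
      refine h.ge.trans ?_
      apply sup_le _ le_sup_right
      rw [commutator_le]
      intro u hu o ho
      obtain ⟨z, hz, hzo⟩ := ho
      obtain ⟨a', ha'P, ha'z⟩ := exists_mem_sylow_map_eq π K P z hz
      have hc : (a' : G)⁻¹ * o ∈ chiefCent U V := by
        rw [← hker, MonoidHom.mem_ker, map_mul, map_inv, ha'z]
        rw [← hzo]
        exact inv_mul_cancel _
      have e : ⁅u, o⁆ = ⁅u, (a' : G)⁆ * ((a' : G) * ⁅u, (a' : G)⁻¹ * o⁆ * (a' : G)⁻¹) := by
        simp only [commutatorElement_def]; group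
      rw [e]
      apply mul_mem
      · exact le_sup_left (a := ⁅U, (P : Subgroup ↥K).map K.subtype⁆)
          (commutator_mem_commutator hu ⟨a', ha'P, rfl⟩)
      · exact le_sup_right (a := ⁅U, (P : Subgroup ↥K).map K.subtype⁆)
          (hV.conj_mem _ (hc u hu) _)
  obtain ⟨k, hk, hky⟩ := (mem_map.mp y.2)
  have hkO : k ∈ O := ⟨y, hy, hky.symm⟩
  have hkC : k ∈ π.ker := by rw [hker]; exact hOC hkO
  rw [← hky]
  exact hkC

/-- Core of S1445, with the quotient by the kernel of the action on `U / V` kept abstract. -/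
theorem map_commutator_eq_one_of_chief {G H : Type*} [Group G] [Finite G] [Group.IsSolvable G]
    [Group H] (π : G →* H) (hπ : Function.Surjective π)
    (hodd : Odd (Nat.card G)) (K : Subgroup G) [hK : K.Normal] {x : G} {r : ℕ} (hr : r.Prime)
    (hx : orderOf x = r) (hcop : (Nat.card K).Coprime r)
    (hfixF : Cfsg.fittingOf K ⊓ centralizer ({x} : Set G) = ⊥)
    {U V : Subgroup G} [hU : U.Normal] [hV : V.Normal] (hker : π.ker = chiefCent U V)
    (hchief : IsChiefPair U V) (hUF : U ≤ Cfsg.fittingOf K) :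
    π x ∈ centralizer ((K.map π : Subgroup H) : Set H) := by
  obtain ⟨ℓ, hℓ, hUℓ, hUab⟩ := chief_elementary hchief
  haveI : Fact ℓ.Prime := ⟨hℓ⟩
  have hlt : V < U := hchief.2.2.1
  have hFK : Cfsg.fittingOf K ≤ K := map_subtype_le _
  have hUK : U ≤ K := hUF.trans hFK
  have hR₀card : Nat.card (zpowers x) = r := by rw [Nat.card_zpowers, hx]
  have hxR₀ : x ∈ zpowers x := mem_zpowers x
  have hℓK : ℓ ∣ Nat.card K := by
    obtain ⟨u, hu, huV⟩ := SetLike.exists_of_lt hlt
    have h1 : ℓ ∣ orderOf u := by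
      by_contra hnd
      apply huV
      have hcop' : ℓ.Coprime (orderOf u) := (Nat.Prime.coprime_iff_not_dvd hℓ).mpr hnd
      apply mem_of_pow_mem_of_coprime hcop' (hUℓ u hu)
      rw [pow_orderOf_eq_one]; exact V.one_mem
    exact h1.trans (Subgroup.orderOf_dvd_natCard K (hUK hu))
  have hℓr : ℓ ≠ r := by
    rintro rfl
    have h1 : ℓ ∣ Nat.gcd (Nat.card K) ℓ := Nat.dvd_gcd hℓK dvd_rfl
    rw [hcop] at h1
    exact hℓ.one_lt.ne' (Nat.dvd_one.mp h1)
  have hcopR₀K : (Nat.card (zpowers x)).Coprime (Nat.card K) := by rw [hR₀card]; exact hcop.symm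
  have hRK : zpowers x ⊓ K = ⊥ := inf_eq_bot_of_coprime_card hcopR₀K
  have hRV : zpowers x ⊓ V = ⊥ := by
    rw [eq_bot_iff, ← hRK]; exact inf_le_inf_left _ (hlt.le.trans hUK)
  have hnormK : ∀ S : Subgroup G, S ≤ normalizer (K : Set G) := fun S => by
    rw [normalizer_eq_top]; exact le_top
  have hnormU : ∀ S : Subgroup G, S ≤ normalizer (U : Set G) := fun S => by
    rw [normalizer_eq_top]; exact le_top
  have hnormV : ∀ S : Subgroup G, S ≤ normalizer (V : Set G) := fun S => by
    rw [normalizer_eq_top]; exact le_top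
  have hfix : ∀ u ∈ U, (∀ t ∈ zpowers x, ⁅t, u⁆ ∈ V) → u ∈ V := by
    intro u hu hcomm
    have hcopU : (Nat.card (zpowers x)).Coprime (Nat.card U) :=
      Nat.Coprime.coprime_dvd_right (Subgroup.card_dvd_of_le hUK) hcopR₀K
    obtain ⟨c, hc, hcV⟩ := Cfsg.Agent.S0022.result (zpowers x) U (hnormU _) hcopU
      (Or.inr inferInstance) V hlt.le (hnormV _) (hnormV _) u hu (fun a ha => hcomm a ha)
    have hc1 : c ∈ Cfsg.fittingOf K ⊓ centralizer ({x} : Set G) := by
      refine ⟨hUF hc.1, ?_⟩
      show c ∈ centralizer _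
      rw [mem_centralizer_iff]
      intro y hy
      rw [Set.mem_singleton_iff] at hy
      subst hy
      exact mem_centralizer_iff.mp hc.2 y hxR₀
    rw [hfixF, mem_bot] at hc1
    rw [hc1, mul_one] at hcV
    exact (V.inv_mem_iff).mp hcV
  haveI : Finite H := Finite.of_surjective π hπ
  haveI : Group.IsSolvable H := solvable_of_surjective hπ
  haveI hKb : (K.map π).Normal := hK.map π hπ
  have hsolvK : Group.IsSolvable ↥K := inferInstance
  have hcard : Nat.card ↥(K.map π) ∣ Nat.card K :=
    Subgroup.card_dvd_of_surjective _ (π.subgroupMap_surjective K)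
  apply mem_centralizer_of_fixes_pCores (K.map π) (π x) (r := r)
  · rw [← map_pow, ← hx, pow_orderOf_eq_one, map_one]
  · exact Nat.Coprime.coprime_dvd_left hcard hcop
  · intro q hq y hy
    haveI : Fact q.Prime := ⟨hq⟩
    obtain ⟨P, hP⟩ := Cfsg.Agent.S0023.result (zpowers x) K (hnormK _) hcopR₀K
      (Or.inr hsolvK) q
    by_cases hqℓ : q = ℓ
    · subst hqℓ
      rw [pCore_image_trivial π hker hchief hUℓ K hπ P y hy]
      group
    · obtain ⟨a, haP, hay⟩ := exists_mem_sylow_map_eq π K P y hy
      have hQq : IsPGroup q ((P : Subgroup ↥K).map K.subtype : Subgroup G) := P.isPGroup'.map _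
      have haQ : (a : G) ∈ (P : Subgroup ↥K).map K.subtype := ⟨a, haP, rfl⟩
      have hsuff : ⁅x, (a : G)⁆ ∈ chiefCent U V := by
        by_cases hqr : q = r
        · have h1 : Nat.card (P : Subgroup ↥K) ∣ Nat.card K := Subgroup.card_subgroup_dvd_card _
          obtain ⟨k, hk⟩ := (IsPGroup.iff_card).mp P.isPGroup'
          have h2 : Nat.card (P : Subgroup ↥K) = 1 := by
            have h3 : (Nat.card (P : Subgroup ↥K)).Coprime (Nat.card (P : Subgroup ↥K)) := by
              conv_lhs => rw [hk, hqr]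
              exact Nat.Coprime.pow_left k (Nat.Coprime.coprime_dvd_right h1 hcop.symm)
            exact (Nat.coprime_self _).mp h3
          have h4 : (P : Subgroup ↥K) = ⊥ := Subgroup.card_eq_one.mp h2
          have h5 : a = 1 := by
            have h6 : a ∈ (⊥ : Subgroup ↥K) := h4 ▸ haP
            exact (mem_bot).mp h6
          rw [h5, coe_one, commutatorElement_one_right]
          exact one_mem _
        · have key := commutator_le_chiefCent hodd hℓ hq hr hUℓ hUab hR₀card hQq hP hqr
            (Ne.symm hqℓ) hℓr hRV hfix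
          exact key (commutator_mem_commutator hxR₀ haQ)
      have h1 : π ⁅x, (a : G)⁆ = 1 := by
        rw [← MonoidHom.mem_ker, hker]; exact hsuff
      rw [map_commutatorElement, commutatorElement_def, hay] at h1
      exact mul_inv_eq_one.mp h1

/-- An element `x` of prime order `r` (coprime to `K`) without fixed points on `F(K)` acts
trivially on every chief factor of `G` below `F(K)`. -/
theorem commutator_le_chiefCent_of_chief {G : Type*} [Group G] [Finite G] [Group.IsSolvable G]
    (hodd : Odd (Nat.card G)) (K : Subgroup G) [hK : K.Normal] {x : G} {r : ℕ} (hr : r.Prime)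
    (hx : orderOf x = r) (hcop : (Nat.card K).Coprime r)
    (hfixF : Cfsg.fittingOf K ⊓ centralizer ({x} : Set G) = ⊥)
    {U V : Subgroup G} [hU : U.Normal] [hV : V.Normal] (hchief : IsChiefPair U V)
    (hUF : U ≤ Cfsg.fittingOf K) : ⁅K, zpowers x⁆ ≤ chiefCent U V := by
  have hker : (QuotientGroup.mk' (chiefCent U V)).ker = chiefCent U V := QuotientGroup.ker_mk' _
  have hxc := map_commutator_eq_one_of_chief (QuotientGroup.mk' (chiefCent U V))
    (QuotientGroup.mk'_surjective _) hodd K hr hx hcop hfixF hker hchief hUF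
  have hzp : zpowers x ≤ (centralizer ((K.map (QuotientGroup.mk' (chiefCent U V)) :
      Subgroup (G ⧸ chiefCent U V)) : Set (G ⧸ chiefCent U V))).comap
        (QuotientGroup.mk' (chiefCent U V)) := by
    rw [zpowers_le]; exact hxc
  rw [commutator_le]
  intro k hk y hy
  have hyc := hzp hy
  rw [mem_comap, mem_centralizer_iff] at hyc
  have h1 := hyc _ (mem_map_of_mem (QuotientGroup.mk' (chiefCent U V)) hk)
  rw [← hker, MonoidHom.mem_ker, map_commutatorElement, commutatorElement_eq_one_iff_commute]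
  exact h1

end Cfsg.Agent.Helper71.Shult
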