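import Mathlib
import Cfsg.Agent.Helper71.ShultNil
import Cfsg.Agent.Helper71.ShultBasic
import Cfsg.Agent.Helper71.ShultQuot
import Cfsg.Agent.Helper71.QuotImage
import Cfsg.Agent.Helper89.CharPSylow
import Cfsg.Agent.Helper68.BG117A
import Cfsg.Agent.Helper52.PGroupLemmas
import Cfsg.Agent.Helper52.NormalRankTwo
import Cfsg.Agent.Helper63.PGroup
import Cfsg.Agent.Helper24.OddOmega

set_option autoImplicit false
set_option linter.unusedSectionVars false
set_option linter.unusedVariables false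
set_option linter.style.haveILetI false

/-!
# "Lemma F": a `p`-group `S` acted on by `Q0 R0` with `R0` of prime order `r` and `Q0 = [Q0, R0]`
(helper71; paper proof helper70, board #3112; used for B-G Theorem 13.4 = S1428)

* `F_a` : `C_S(R0) = 1 → [S, Q0] = 1` (Shult).
* `F_sec` : the sectional form: `C_S(R0) ≤ T` for an invariant normal subgroup `T` of `S` implies
  `[S, Q0] ≤ T`.
* `F_cent` : if moreover `T ≤ C(Q0)` then `[S, Q0] = 1`.
* `F_b` : `C_S(R0) = C_S(Q0) → S = C_S(R0)`.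
* `F_c` : `p` odd, `C_S(R0)` and `C_S(Q0)` cyclic, a common fixed subgroup `P0` of order `p`
  implies `S` cyclic.
-/

namespace Cfsg.Agent.Helper71.LemmaF

open Subgroup Cfsg.Agent.Helper71 Cfsg.Agent.Helper71.Shult
open scoped commutatorElement

variable {X : Type*} [Group X] [Finite X]

/-- the standing hypotheses of Lemma F -/
structure Hyp (p r : ℕ) (S R0 Q0 : Subgroup X) : Prop where
  hp : p.Prime
  hr : r.Prime
  hrp : r ≠ p
  hS : IsPGroup p S
  hR0 : Nat.card R0 = r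
  hRS : R0 ≤ normalizer (S : Set X)
  hQS : Q0 ≤ normalizer (S : Set X)
  hRQ : R0 ≤ normalizer (Q0 : Set X)
  hQr : ¬ r ∣ Nat.card Q0
  hQp : ¬ p ∣ Nat.card Q0
  hcomm : ⁅Q0, R0⁆ = Q0
  hsolv : Group.IsSolvable ↥(Q0 ⊔ R0)
  hodd : Odd (Nat.card ↥(Q0 ⊔ R0))

namespace Hyp

variable {p r : ℕ} {S R0 Q0 : Subgroup X} (h : Hyp p r S R0 Q0)
include h

theorem not_dvd_card_sup : ¬ p ∣ Nat.card ↥(Q0 ⊔ R0) := by
  intro hd
  rcases Cfsg.Agent.Helper68.BG11.dvd_or_dvd_of_dvd_card_sup h.hRQ h.hp hd with h1 | h1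
  · exact h.hQp h1
  · rw [h.hR0] at h1
    exact h.hrp ((Nat.prime_dvd_prime_iff_eq h.hp h.hr).1 h1).symm

/-- the hypotheses pass to invariant subgroups of `S` -/
theorem of_le {S' : Subgroup X} (hle : S' ≤ S) (hR : R0 ≤ normalizer (S' : Set X))
    (hQ : Q0 ≤ normalizer (S' : Set X)) : Hyp p r S' R0 Q0 :=
  { h with hS := h.hS.to_le hle, hRS := hR, hQS := hQ }

theorem isPGroup_R0 : IsPGroup r R0 := by
  haveI : Fact r.Prime := ⟨h.hr⟩
  exact IsPGroup.of_card (n := 1) (by rw [h.hR0, pow_one])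

/-- an `r`-group meets a `p`-group trivially -/
theorem R0_inf_eq_bot {T : Subgroup X} (hT : IsPGroup p T) : R0 ⊓ T = ⊥ := by
  haveI : Fact r.Prime := ⟨h.hr⟩
  haveI : Fact p.Prime := ⟨h.hp⟩
  have hcop : (Nat.card R0).Coprime (Nat.card T) := by
    obtain ⟨n, hn⟩ := IsPGroup.iff_card.1 hT
    rw [h.hR0, hn]
    exact Nat.Coprime.pow_right n ((Nat.coprime_primes h.hr h.hp).2 h.hrp)
  exact (Subgroup.disjoint_of_coprime_natCard hcop).eq_bot

end Hyp

/-- the hypotheses in the form of board post #3176 (coprimality of `|Q0 R0|` and `p`) -/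
theorem Hyp.of_coprime {p r : ℕ} {S R0 Q0 : Subgroup X} (hp : p.Prime) (hr : r.Prime)
    (hS : IsPGroup p S) (hR0 : Nat.card R0 = r) (hRQ : R0 ≤ normalizer (Q0 : Set X))
    (hQS : Q0 ≤ normalizer (S : Set X)) (hRS : R0 ≤ normalizer (S : Set X))
    (hsolv : Group.IsSolvable ↥(Q0 ⊔ R0)) (hodd : Odd (Nat.card ↥(Q0 ⊔ R0)))
    (hcop : (Nat.card ↥(Q0 ⊔ R0)).Coprime p) (hrQ : ¬ r ∣ Nat.card Q0)
    (hcomm : ⁅Q0, R0⁆ = Q0) : Hyp p r S R0 Q0 := by
  have hnd : ¬ p ∣ Nat.card ↥(Q0 ⊔ R0) := by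
    intro hd
    have h1 : p ∣ 1 := by
      rw [← Nat.Coprime.gcd_eq_one hcop]
      exact Nat.dvd_gcd hd dvd_rfl
    exact hp.one_lt.ne' (Nat.dvd_one.1 h1)
  refine ⟨hp, hr, ?_, hS, hR0, hRS, hQS, hRQ, hrQ, ?_, hcomm, hsolv, hodd⟩
  · rintro rfl
    apply hnd
    rw [← hR0]
    exact Subgroup.card_dvd_of_le le_sup_right
  · intro hd
    exact hnd (hd.trans (Subgroup.card_dvd_of_le le_sup_left))

section sectional

variable {p r : ℕ} {S R0 Q0 : Subgroup X}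

/-- **Lemma F, sectional form.** -/
theorem F_sec (h : Hyp p r S R0 Q0) {T : Subgroup X} (hTS : T ≤ S)
    (hST : S ≤ normalizer (T : Set X)) (hRT : R0 ≤ normalizer (T : Set X))
    (hQT : Q0 ≤ normalizer (T : Set X)) (hC : S ⊓ centralizer (R0 : Set X) ≤ T) :
    ∀ g ∈ Q0, ∀ s ∈ S, g * s * g⁻¹ * s⁻¹ ∈ T := by
  classical
  haveI : Fact r.Prime := ⟨h.hr⟩
  haveI : Fact p.Prime := ⟨h.hp⟩
  have hTp : IsPGroup p T := h.hS.to_le hTS
  have hRT0 : R0 ⊓ T = ⊥ := h.R0_inf_eq_bot hTp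
  -- the images
  set Sb := QI.img T S with hSb
  set Qb := QI.img T Q0 with hQb
  set Rb := QI.img T R0 with hRb
  have hSbp : IsPGroup p Sb := QI.isPGroup_img h.hS
  have hsup : QI.img T (Q0 ⊔ R0) = Qb ⊔ Rb := QI.img_sup hQT hRT
  have hQRT : Q0 ⊔ R0 ≤ normalizer (T : Set X) := sup_le hQT hRT
  have hdvd : Nat.card ↥(Qb ⊔ Rb) ∣ Nat.card ↥(Q0 ⊔ R0) := by
    rw [← hsup]
    exact Subgroup.card_dvd_of_surjective _ (QI.imgHom_surjective T hQRT)
  have hQdvd : Nat.card Qb ∣ Nat.card Q0 :=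
    Subgroup.card_dvd_of_surjective _ (QI.imgHom_surjective T hQT)
  have hfpf : Sb ⊓ centralizer (Rb : Set (QI.Quo T)) = ⊥ := by
    rw [eq_bot_iff]
    intro y hy
    rw [hSb, hRb, QI.mem_img_inf_centralizer hRT] at hy
    obtain ⟨s, hs, hsS, hcomm, rfl⟩ := hy
    rw [mem_bot, QI.proj_eq_one_iff]
    -- lift to the group `N_X(T)`
    let Y := ↥(normalizer (T : Set X))
    let K : Subgroup Y := T.subgroupOf (normalizer (T : Set X))
    let Q : Subgroup Y := R0.subgroupOf (normalizer (T : Set X))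
    haveI : K.Normal := Subgroup.normal_in_normalizer
    have hKcard : (Nat.card K).Coprime r := by
      have e : Nat.card K = Nat.card T :=
        Nat.card_congr (Subgroup.subgroupOfEquivOfLe le_normalizer).toEquiv
      obtain ⟨n, hn⟩ := IsPGroup.iff_card.1 hTp
      rw [e, hn]
      exact Nat.Coprime.pow_left n ((Nat.coprime_primes h.hp h.hr).2 (Ne.symm h.hrp))
    have hQr : IsPGroup r Q := h.isPGroup_R0.comap_subtype
    have hg : ∀ q ∈ Q, (⟨s, hs⟩ : Y) * q * (⟨s, hs⟩ : Y)⁻¹ * q⁻¹ ∈ K := by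
      intro q hq
      have hqR : (q : X) ∈ R0 := mem_subgroupOf.1 hq
      show ((⟨s, hs⟩ : Y) * q * (⟨s, hs⟩ : Y)⁻¹ * q⁻¹ : Y).1 ∈ T
      have h1 := hcomm (q : X)⁻¹ (R0.inv_mem hqR)
      -- `s⁻¹ q s q⁻¹ ∈ T`
      have h2 : s * (((q : X)⁻¹ * s)⁻¹ * (s * (q : X)⁻¹)) * s⁻¹ ∈ T :=
        conj_mem_of_le_normalizer (le_refl _) hs h1
      have h3 : (s * (((q : X)⁻¹ * s)⁻¹ * (s * (q : X)⁻¹)) * s⁻¹)⁻¹ ∈ T := T.inv_mem h2
      have e : s * (q : X) * s⁻¹ * (q : X)⁻¹ =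
          (s * (((q : X)⁻¹ * s)⁻¹ * (s * (q : X)⁻¹)) * s⁻¹)⁻¹ := by
        group
      show s * (q : X) * s⁻¹ * (q : X)⁻¹ ∈ T
      rw [e]; exact h3
    obtain ⟨k, hk, hkc⟩ :=
      Cfsg.Agent.Helper89.exists_mul_mem_centralizer_of_comm_mem r K Q hKcard hQr ⟨s, hs⟩ hg
    have hkT : (k : X) ∈ T := mem_subgroupOf.1 hk
    have hks : (k : X) * s ∈ S ⊓ centralizer (R0 : Set X) := by
      refine ⟨S.mul_mem (hTS hkT) hsS, ?_⟩
      show _ ∈ centralizer _
      rw [mem_centralizer_iff]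
      intro t ht
      have htY : t ∈ normalizer (T : Set X) := hRT ht
      have h4 := mem_centralizer_iff.1 hkc ⟨t, htY⟩ (mem_subgroupOf.2 ht)
      exact congrArg Subtype.val h4
    have h5 := hC hks
    have e : s = (k : X)⁻¹ * ((k : X) * s) := by group
    show s ∈ T
    rw [e]
    exact T.mul_mem (T.inv_mem hkT) h5
  have hRbcard : Nat.card Rb = r := by
    rw [hRb, QI.card_img hRT hRT0, h.hR0]
  have hmain := ShultNil.commutator_le_centralizer_of_fpf Sb Qb Rb hSbp.isNilpotent h.hr hRbcard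
    (QI.img_le_normalizer h.hRQ) (QI.img_le_normalizer h.hQS) (QI.img_le_normalizer h.hRS)
    (by
      rw [← hsup]
      haveI := h.hsolv
      exact Group.isSolvable_of_surjective (QI.imgHom_surjective T hQRT))
    (Odd.of_dvd_nat h.hodd hdvd)
    (by
      obtain ⟨n, hn⟩ := IsPGroup.iff_card.1 hSbp
      rw [hn]
      apply Nat.Coprime.pow_right
      rw [Nat.coprime_comm, Nat.Prime.coprime_iff_not_dvd h.hp]
      exact fun hd => h.not_dvd_card_sup (hd.trans hdvd))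
    (fun hd => h.hQr (hd.trans hQdvd))
    hfpf
  -- back to `X`
  let W : Subgroup X :=
    ((centralizer (Sb : Set (QI.Quo T))).comap (QI.proj T)).map (normalizer (T : Set X)).subtype
  have hW : ⁅Q0, R0⁆ ≤ W := by
    rw [Subgroup.commutator_le]
    intro a ha b hb
    have haY : a ∈ normalizer (T : Set X) := hQT ha
    have hbY : b ∈ normalizer (T : Set X) := hRT hb
    refine ⟨⁅(⟨a, haY⟩ : ↥(normalizer (T : Set X))), ⟨b, hbY⟩⁆, ?_, rfl⟩
    show QI.proj T ⁅(⟨a, haY⟩ : ↥(normalizer (T : Set X))), ⟨b, hbY⟩⁆ ∈ centralizer _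
    rw [map_commutatorElement]
    apply hmain
    exact Subgroup.commutator_mem_commutator (QI.mem_img.2 ⟨a, haY, ha, rfl⟩)
      (QI.mem_img.2 ⟨b, hbY, hb, rfl⟩)
  rw [h.hcomm] at hW
  intro g hg s hs
  obtain ⟨g', hg', hgg'⟩ := hW hg
  have hsY : s ∈ normalizer (T : Set X) := hST hs
  have h1 : QI.proj T g' ∈ centralizer (Sb : Set (QI.Quo T)) := hg'
  have h2 := mem_centralizer_iff.1 h1 (QI.proj T ⟨s, hsY⟩) (QI.mem_img.2 ⟨s, hsY, hs, rfl⟩)
  -- `proj s * proj g' = proj g' * proj s`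
  have h3 : QI.proj T (g' * ⟨s, hsY⟩ * g'⁻¹ * (⟨s, hsY⟩ : ↥(normalizer (T : Set X)))⁻¹) = 1 := by
    rw [map_mul, map_mul, map_mul, map_inv, map_inv, ← h2]
    group
  rw [QI.proj_eq_one_iff] at h3
  have e : ((g' * ⟨s, hsY⟩ * g'⁻¹ * (⟨s, hsY⟩ : ↥(normalizer (T : Set X)))⁻¹ :
      ↥(normalizer (T : Set X))) : X) = g * s * g⁻¹ * s⁻¹ := by
    simp only [Subgroup.coe_mul, Subgroup.coe_inv]
    rw [show (g' : X) = g from hgg']
  rwa [e] at h3

/-- **Lemma F (a)** (Shult): `C_S(R0) = 1` implies `[S, Q0] = 1`. -/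
theorem F_a (h : Hyp p r S R0 Q0) (hfpf : S ⊓ centralizer (R0 : Set X) = ⊥) :
    Q0 ≤ centralizer (S : Set X) := by
  have hb : ∀ A : Subgroup X, A ≤ normalizer ((⊥ : Subgroup X) : Set X) := by
    intro A
    apply le_normalizer_of_conj_mem
    intro x hx u hu
    rw [mem_bot] at hu ⊢
    rw [hu]; group
  have h1 := F_sec h (T := ⊥) bot_le (hb _) (hb _) (hb _) (by rw [hfpf])
  intro g hg
  rw [mem_centralizer_iff]
  intro s hs
  have h2 := h1 g hg s hs
  rw [mem_bot] at h2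
  have : g * s = s * g := by
    have e : g * s = (g * s * g⁻¹ * s⁻¹) * (s * g) := by group
    rw [e, h2, one_mul]
  exact this.symm

/-- if moreover `T ≤ C(Q0)` then `Q0` centralizes `S` -/
theorem F_cent (h : Hyp p r S R0 Q0) {T : Subgroup X} (hTS : T ≤ S)
    (hST : S ≤ normalizer (T : Set X)) (hRT : R0 ≤ normalizer (T : Set X))
    (hTQ : T ≤ centralizer (Q0 : Set X)) (hC : S ⊓ centralizer (R0 : Set X) ≤ T) :
    Q0 ≤ centralizer (S : Set X) := by
  haveI : Fact p.Prime := ⟨h.hp⟩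
  have hQT : Q0 ≤ normalizer (T : Set X) := by
    apply le_normalizer_of_conj_mem
    intro x hx u hu
    have := mem_centralizer_iff.1 (hTQ hu) x hx
    -- `x * u = u * x`
    have e : x * u * x⁻¹ = u := by rw [this]; group
    rw [e]; exact hu
  have h1 := F_sec h hTS hST hRT hQT hC
  intro g hg
  rw [mem_centralizer_iff]
  intro s hs
  -- `g s g⁻¹ = c s` with `c ∈ T` commuting with `g`
  set c := g * s * g⁻¹ * s⁻¹ with hc
  have hcT : c ∈ T := h1 g hg s hs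
  have hgc : g * c = c * g := mem_centralizer_iff.1 (hTQ hcT) g hg
  -- use `eq_one_of_conj_eq_mul` with `x := g⁻¹`, `a := s⁻¹`? we do it directly with `a := s`
  have hcS : c ∈ S := hTS hcT
  obtain ⟨n, hn⟩ := (h.hS.to_le (le_refl S)) ⟨c, hcS⟩
  have hcn : c ^ (p ^ n) = 1 := by
    have := congrArg Subtype.val hn
    simpa using this
  have hgo : g ^ Nat.card Q0 = 1 :=
    orderOf_dvd_iff_pow_eq_one.1 (Subgroup.orderOf_dvd_natCard Q0 hg)
  have hcop : (Nat.card Q0).Coprime (p ^ n) :=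
    Nat.Coprime.pow_right n ((Nat.Prime.coprime_iff_not_dvd h.hp).2 h.hQp).symm
  -- conjugation by `g⁻¹`: `g s⁻¹ g⁻¹ = s⁻¹ c⁻¹`
  have hk : (g⁻¹)⁻¹ * s⁻¹ * g⁻¹ = s⁻¹ * c⁻¹ := by
    rw [hc]; group
  have hxk : g⁻¹ * c⁻¹ = c⁻¹ * g⁻¹ := by
    have h2 : Commute g c := hgc
    exact (h2.inv_inv).eq
  have h3 : c⁻¹ = 1 :=
    Shult.eq_one_of_conj_eq_mul hk hxk (r := Nat.card Q0) (m := p ^ n)
      (by rw [inv_pow, hgo, inv_one]) (by rw [inv_pow, hcn, inv_one]) hcop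
  have h4 : c = 1 := inv_eq_one.1 h3
  rw [hc] at h4
  have e : s * g = (g * s * g⁻¹ * s⁻¹)⁻¹ * (g * s) := by group
  rw [e, h4, inv_one, one_mul]

/-- **Lemma F (b)**: `C_S(R0) = C_S(Q0)` implies `S = C_S(R0)`. -/
theorem F_b (h : Hyp p r S R0 Q0)
    (hC : S ⊓ centralizer (R0 : Set X) = S ⊓ centralizer (Q0 : Set X)) :
    S ≤ centralizer (R0 : Set X) := by
  classical
  haveI : Fact p.Prime := ⟨h.hp⟩
  obtain ⟨C0, hC0⟩ : ∃ C0 : Subgroup X, C0 = S ⊓ centralizer (R0 : Set X) := ⟨_, rfl⟩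
  have hC0' : C0 = S ⊓ centralizer (Q0 : Set X) := hC0.trans hC
  -- `R0` and `Q0` normalize `C0`
  have hnorm : ∀ {A : Subgroup X}, A ≤ normalizer (S : Set X) →
      A ≤ normalizer ((S ⊓ centralizer (A : Set X) : Subgroup X) : Set X) := by
    intro A hA
    apply le_normalizer_of_conj_mem
    intro x hx u hu
    refine ⟨conj_mem_of_le_normalizer hA hx hu.1, ?_⟩
    show _ ∈ centralizer _
    rw [mem_centralizer_iff]
    intro a ha
    -- `x⁻¹ a x ∈ A` commutes with `u`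
    have h1 : x⁻¹ * a * x ∈ A := A.mul_mem (A.mul_mem (A.inv_mem hx) ha) hx
    have h2 := mem_centralizer_iff.1 hu.2 _ h1
    have e1 : a * (x * u * x⁻¹) = x * ((x⁻¹ * a * x) * u) * x⁻¹ := by group
    have e2 : x * u * x⁻¹ * a = x * (u * (x⁻¹ * a * x)) * x⁻¹ := by group
    rw [e1, e2, h2]
  have hRC : R0 ≤ normalizer (C0 : Set X) := by
    rw [hC0]; exact hnorm h.hRS
  have hQC : Q0 ≤ normalizer (C0 : Set X) := by
    rw [hC0']; exact hnorm h.hQS
  have hC0S : C0 ≤ S := by rw [hC0]; exact inf_le_left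
  obtain ⟨N, hN⟩ : ∃ N : Subgroup X, N = S ⊓ normalizer (C0 : Set X) := ⟨_, rfl⟩
  have hNS : N ≤ S := by rw [hN]; exact inf_le_left
  have hinv : ∀ {A : Subgroup X}, A ≤ normalizer (S : Set X) → A ≤ normalizer (C0 : Set X) →
      A ≤ normalizer (N : Set X) := by
    intro A hA hA'
    apply le_normalizer_of_conj_mem
    intro x hx u hu
    rw [hN] at hu ⊢
    refine ⟨conj_mem_of_le_normalizer hA hx hu.1, ?_⟩
    exact (normalizer (C0 : Set X)).mul_mem
      ((normalizer (C0 : Set X)).mul_mem (hA' hx) hu.2) ((normalizer (C0 : Set X)).inv_mem (hA' hx))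
  have hN' : Hyp p r N R0 Q0 := h.of_le hNS (hinv h.hRS hRC) (hinv h.hQS hQC)
  have hC0N : C0 ≤ N := by rw [hN]; exact le_inf hC0S le_normalizer
  have h1 : Q0 ≤ centralizer (N : Set X) :=
    F_cent hN' hC0N (by rw [hN]; exact inf_le_right) hRC (by rw [hC0']; exact inf_le_right)
      (by rw [hC0]; exact inf_le_inf_right _ hNS)
  have h2 : N ≤ C0 := by
    rw [hC0']
    exact le_inf hNS (fun x hx => by
      rw [mem_centralizer_iff]
      intro g hg
      exact ((mem_centralizer_iff.1 (h1 hg)) x hx).symm)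
  -- normalizer condition in the `p`-group `S`
  have h3 : N = C0 := le_antisymm h2 hC0N
  by_contra hne
  have hlt : C0.subgroupOf S < ⊤ := by
    rw [lt_top_iff_ne_top]
    intro htop
    apply hne
    rw [subgroupOf_eq_top] at htop
    exact htop.trans (by rw [hC0]; exact inf_le_right)
  haveI : Group.IsNilpotent ↥S := h.hS.isNilpotent
  have h4 := Group.normalizerCondition_of_isNilpotent (G := ↥S) (C0.subgroupOf S) hlt
  have h5 : normalizer ((C0.subgroupOf S : Subgroup ↥S) : Set ↥S) = N.subgroupOf S := by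
    rw [← subgroupOf_normalizer_eq hC0S, hN]
    ext x
    simp [mem_subgroupOf]
  rw [h5, h3] at h4
  exact lt_irrefl _ h4

/-- **Lemma F (b)**, the other half: under the same hypothesis `S ≤ C(Q0)` too. -/
theorem F_b' (h : Hyp p r S R0 Q0)
    (hC : S ⊓ centralizer (R0 : Set X) = S ⊓ centralizer (Q0 : Set X)) :
    S ≤ centralizer (Q0 : Set X) := by
  have h1 : S ≤ S ⊓ centralizer (R0 : Set X) := le_inf le_rfl (F_b h hC)
  rw [hC] at h1
  exact h1.trans inf_le_right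

end sectional


section cyclic

variable {p r : ℕ} {S R0 Q0 : Subgroup X}

/-- elements of order dividing `p` of a cyclic `p`-group `C` containing `P0` of order `p` lie in
`P0` -/
theorem mem_of_pow_eq_one_of_isCyclic {p : ℕ} [Fact p.Prime] {C P0 : Subgroup X}
    (hC : IsCyclic ↥C) (hCp : IsPGroup p C) (hP0C : P0 ≤ C) (hP0 : Nat.card P0 = p) {x : X}
    (hx : x ∈ C) (hxp : x ^ p = 1) : x ∈ P0 := by
  have hp : p.Prime := Fact.out
  have hC1 : C ≠ ⊥ := by
    intro hb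
    rw [hb] at hP0C
    have h0 : P0 = ⊥ := le_bot_iff.1 hP0C
    rw [h0, Subgroup.card_bot] at hP0
    exact hp.one_lt.ne hP0
  obtain ⟨Z, hZC, hZcard, hZ, -⟩ := Cfsg.Agent.Helper68.BG11.exists_omega_of_isCyclic hC hCp hC1
  have hP0Z : P0 ≤ Z := by
    intro y hy
    apply hZ y (hP0C hy)
    have h1 := Subgroup.orderOf_dvd_natCard P0 hy
    rw [hP0] at h1
    exact orderOf_dvd_iff_pow_eq_one.1 h1
  have h2 : P0 = Z := Subgroup.eq_of_le_of_card_ge hP0Z (by rw [hP0, hZcard])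
  rw [h2]; exact hZ x hx hxp

/-- `Ω₁(Z(S))` as a subgroup of `X` -/
def omegaCenter (p : ℕ) (S : Subgroup X) : Subgroup X where
  carrier := {z | z ∈ S ∧ z ∈ centralizer (S : Set X) ∧ z ^ p = 1}
  one_mem' := ⟨S.one_mem, (centralizer _).one_mem, one_pow _⟩
  mul_mem' := by
    rintro a b ⟨ha, hac, hap⟩ ⟨hb, hbc, hbp⟩
    refine ⟨S.mul_mem ha hb, (centralizer _).mul_mem hac hbc, ?_⟩
    have hcomm : Commute a b := mem_centralizer_iff.1 hbc a ha
    rw [hcomm.mul_pow, hap, hbp, one_mul]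
  inv_mem' := by
    rintro a ⟨ha, hac, hap⟩
    exact ⟨S.inv_mem ha, (centralizer _).inv_mem hac, by rw [inv_pow, hap, inv_one]⟩

theorem mem_omegaCenter {p : ℕ} {S : Subgroup X} {z : X} :
    z ∈ omegaCenter p S ↔ z ∈ S ∧ z ∈ centralizer (S : Set X) ∧ z ^ p = 1 := Iff.rfl

theorem le_normalizer_omegaCenter {p : ℕ} {S A : Subgroup X} (hA : A ≤ normalizer (S : Set X)) :
    A ≤ normalizer ((omegaCenter p S : Subgroup X) : Set X) := by
  apply le_normalizer_of_conj_mem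
  intro g hg z hz
  obtain ⟨hzS, hzc, hzp⟩ := mem_omegaCenter.1 hz
  refine mem_omegaCenter.2 ⟨conj_mem_of_le_normalizer hA hg hzS, ?_, ?_⟩
  · rw [mem_centralizer_iff]
    intro s hs
    have h1 : g⁻¹ * s * g ∈ S := conj_inv_mem_of_le_normalizer hA hg hs
    have h2 := mem_centralizer_iff.1 hzc _ h1
    calc s * (g * z * g⁻¹) = g * ((g⁻¹ * s * g) * z) * g⁻¹ := by group
      _ = g * (z * (g⁻¹ * s * g)) * g⁻¹ := by rw [h2]
      _ = g * z * g⁻¹ * s := by group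
  · rw [conj_pow, hzp]; group

/-- the subgroup `V` of the elements `x` of `S` with `x ^ p = 1` and `[x, S] ≤ P0`, for `P0`
central of order `p` in `S`, `p` odd (class two power formula) -/
theorem exists_vSub {p : ℕ} (hp : p.Prime) (hp2 : p ≠ 2) {S P0 : Subgroup X}
    (hP0c : P0 ≤ centralizer (S : Set X)) (hP0 : Nat.card P0 = p) :
    ∃ V : Subgroup X,
      ∀ x, x ∈ V ↔ x ∈ S ∧ x ^ p = 1 ∧ ∀ s ∈ S, x * s * x⁻¹ * s⁻¹ ∈ P0 := by
  have hP0p : ∀ c ∈ P0, c ^ p = 1 := by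
    intro c hc
    have h1 := Subgroup.orderOf_dvd_natCard P0 hc
    rw [hP0] at h1
    exact orderOf_dvd_iff_pow_eq_one.1 h1
  refine ⟨{ carrier := {x | x ∈ S ∧ x ^ p = 1 ∧ ∀ s ∈ S, x * s * x⁻¹ * s⁻¹ ∈ P0}
            one_mem' := ⟨S.one_mem, one_pow _, fun s hs => by
              have e : (1 : X) * s * 1⁻¹ * s⁻¹ = 1 := by group
              rw [e]; exact P0.one_mem⟩
            mul_mem' := ?_
            inv_mem' := ?_ }, fun x => Iff.rfl⟩
  · rintro a b ⟨ha, hap, hac⟩ ⟨hb, hbp, hbc⟩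
    refine ⟨S.mul_mem ha hb, ?_, ?_⟩
    · have hcP : b * a * b⁻¹ * a⁻¹ ∈ P0 := hbc a ha
      have h1 : b * a = (b * a * b⁻¹ * a⁻¹) * a * b := by group
      have hca : Commute (b * a * b⁻¹ * a⁻¹) a := (mem_centralizer_iff.1 (hP0c hcP) a ha).symm
      have hcb : Commute (b * a * b⁻¹ * a⁻¹) b := (mem_centralizer_iff.1 (hP0c hcP) b hb).symm
      rw [Cfsg.Agent.Helper24.mul_pow_of_central h1 hca hcb p, hap, hbp, one_mul, one_mul]
      obtain ⟨k, hk⟩ := Cfsg.Agent.Helper24.prime_dvd_sum_range hp hp2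
      rw [hk, pow_mul, hP0p _ hcP, one_pow]
    · intro s hs
      have h1 := hac s hs
      have h2 := hbc s hs
      have hda : a * (b * s * b⁻¹ * s⁻¹) = (b * s * b⁻¹ * s⁻¹) * a :=
        mem_centralizer_iff.1 (hP0c h2) a ha
      have e : a * b * s * (a * b)⁻¹ * s⁻¹ = (a * (b * s * b⁻¹ * s⁻¹)) * s * a⁻¹ * s⁻¹ := by group
      rw [e, hda]
      have e2 : (b * s * b⁻¹ * s⁻¹) * a * s * a⁻¹ * s⁻¹ =
          (b * s * b⁻¹ * s⁻¹) * (a * s * a⁻¹ * s⁻¹) := by group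
      rw [e2]
      exact P0.mul_mem h2 h1
  · rintro a ⟨ha, hap, hac⟩
    refine ⟨S.inv_mem ha, by rw [inv_pow, hap, inv_one], ?_⟩
    intro s hs
    have h1 : a⁻¹ * s * a ∈ S := S.mul_mem (S.mul_mem (S.inv_mem ha) hs) ha
    have h2 := hac _ h1
    have e : a⁻¹ * s * a⁻¹⁻¹ * s⁻¹ = (a * (a⁻¹ * s * a) * a⁻¹ * (a⁻¹ * s * a)⁻¹)⁻¹ := by group
    rw [e]
    exact P0.inv_mem h2

/-- **Lemma F (c)**: `p` odd, `C_S(R0)` and `C_S(Q0)` cyclic, and a subgroup `P0` of order `p` of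
`S` centralized by `Q0` and `R0`: then `S` is cyclic. -/
theorem F_c (h : Hyp p r S R0 Q0) (hp2 : p ≠ 2)
    (hCR : IsCyclic ↥(S ⊓ centralizer (R0 : Set X)))
    (hCQ : IsCyclic ↥(S ⊓ centralizer (Q0 : Set X)))
    {P0 : Subgroup X} (hP0S : P0 ≤ S) (hP0 : Nat.card P0 = p)
    (hP0Q : P0 ≤ centralizer (Q0 : Set X)) (hP0R : P0 ≤ centralizer (R0 : Set X)) :
    IsCyclic ↥S := by
  classical
  haveI : Fact p.Prime := ⟨h.hp⟩
  -- (1) elements of order `p` of the two centralizers lie in `P0`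
  have hΩR : ∀ x ∈ S, x ∈ centralizer (R0 : Set X) → x ^ p = 1 → x ∈ P0 := fun x hx hxc hxp =>
    mem_of_pow_eq_one_of_isCyclic hCR (h.hS.to_le inf_le_left) (le_inf hP0S hP0R) hP0
      ⟨hx, hxc⟩ hxp
  have hΩQ : ∀ x ∈ S, x ∈ centralizer (Q0 : Set X) → x ^ p = 1 → x ∈ P0 := fun x hx hxc hxp =>
    mem_of_pow_eq_one_of_isCyclic hCQ (h.hS.to_le inf_le_left) (le_inf hP0S hP0Q) hP0
      ⟨hx, hxc⟩ hxp
  have hcn : ∀ {A : Subgroup X}, P0 ≤ centralizer (A : Set X) → A ≤ normalizer (P0 : Set X) := by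
    intro A hA
    apply le_normalizer_of_conj_mem
    intro g hg u hu
    have h1 := mem_centralizer_iff.1 (hA hu) g hg
    have e : g * u * g⁻¹ = u := by rw [h1]; group
    rw [e]; exact hu
  have hsymm : ∀ {A B : Subgroup X}, A ≤ centralizer (B : Set X) → B ≤ centralizer (A : Set X) := by
    intro A B hAB b hb
    rw [mem_centralizer_iff]
    intro a ha
    exact (mem_centralizer_iff.1 (hAB ha) b hb).symm
  -- (2) `Ω₁(Z(S)) ≤ P0`
  have hZ1 : omegaCenter p S ≤ P0 := by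
    have hZ1S : omegaCenter p S ≤ S := fun z hz => (mem_omegaCenter.1 hz).1
    have hZ1h : Hyp p r (omegaCenter p S) R0 Q0 :=
      h.of_le hZ1S (le_normalizer_omegaCenter h.hRS) (le_normalizer_omegaCenter h.hQS)
    have hab : ∀ a ∈ omegaCenter p S, ∀ b ∈ omegaCenter p S, a * b = b * a := fun a ha b hb =>
      mem_centralizer_iff.1 (mem_omegaCenter.1 hb).2.1 a (mem_omegaCenter.1 ha).1
    have hQc : Q0 ≤ centralizer ((omegaCenter p S : Subgroup X) : Set X) := by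
      refine F_cent hZ1h (T := omegaCenter p S ⊓ P0) inf_le_left ?_ ?_
        (inf_le_right.trans hP0Q) ?_
      · apply le_normalizer_of_conj_mem
        intro x hx u hu
        have e : x * u * x⁻¹ = u := by rw [hab x hx u hu.1]; group
        rw [e]; exact hu
      · apply le_normalizer_of_conj_mem
        intro x hx u hu
        exact ⟨conj_mem_of_le_normalizer (le_normalizer_omegaCenter h.hRS) hx hu.1,
          conj_mem_of_le_normalizer (hcn hP0R) hx hu.2⟩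
      · intro z hz
        exact ⟨hz.1, hΩR z (mem_omegaCenter.1 hz.1).1 hz.2 (mem_omegaCenter.1 hz.1).2.2⟩
    intro z hz
    exact hΩQ z (mem_omegaCenter.1 hz).1 (hsymm hQc hz) (mem_omegaCenter.1 hz).2.2
  by_contra hnc
  -- (3) a normal elementary abelian subgroup of order `p ^ 2`
  have hSp : IsPGroup p ↥S := h.hS
  have hnc' : ¬ IsCyclic ↥(⊤ : Subgroup ↥S) := by
    intro hc
    apply hnc
    exact isCyclic_of_surjective (Subgroup.topEquiv : ↥(⊤ : Subgroup ↥S) ≃* ↥S)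
      (Subgroup.topEquiv : ↥(⊤ : Subgroup ↥S) ≃* ↥S).surjective
  obtain ⟨N1, -, hN1n, hN1e, hN1c⟩ :=
    Cfsg.Agent.Helper52.exists_normal_elementaryAbelian_sq hp2 hSp (⊤ : Subgroup ↥S) hnc'
  haveI := hN1n
  have hN1b : N1 ≠ ⊥ := by
    intro hb
    rw [hb, Subgroup.card_bot] at hN1c
    have : 1 < p ^ 2 := Nat.one_lt_pow (by norm_num) h.hp.one_lt
    omega
  obtain ⟨B, hBn, hBN, hidx, hcommB⟩ :=
    Cfsg.Agent.Helper52.exists_normal_relIndex_prime hSp N1 hN1b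
  haveI := hBn
  have hBc : Nat.card B = p := by
    have h1 := Cfsg.Agent.Helper52.relIndex_mul_card_of_le hBN
    rw [hidx, hN1c, pow_two] at h1
    exact Nat.eq_of_mul_eq_mul_left h.hp.pos h1
  have hBcen : B ≤ Subgroup.center ↥S :=
    Cfsg.Agent.Helper63.le_center_of_normal_of_card_eq_prime hSp B hBc
  have hBcX : ∀ b ∈ B, (b : X) ∈ centralizer (S : Set X) := by
    intro b hb
    rw [mem_centralizer_iff]
    intro s hs
    exact congrArg Subtype.val (Subgroup.mem_center_iff.1 (hBcen hb) ⟨s, hs⟩)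
  have hBP : B.map S.subtype ≤ P0 := by
    rintro _ ⟨b, hb, rfl⟩
    apply hZ1
    refine mem_omegaCenter.2 ⟨b.2, hBcX b hb, ?_⟩
    have h1 : b ^ p = 1 := by
      have h2 := Subgroup.orderOf_dvd_natCard B hb
      rw [hBc] at h2
      exact orderOf_dvd_iff_pow_eq_one.1 h2
    have h3 := congrArg Subtype.val h1
    rw [Subgroup.coe_pow] at h3
    exact h3
  have hBP' : B.map S.subtype = P0 := by
    apply Subgroup.eq_of_le_of_card_ge hBP
    rw [hP0, Subgroup.card_map_of_injective S.subtype_injective, hBc]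
  have hP0c : P0 ≤ centralizer (S : Set X) := by
    rw [← hBP']
    rintro _ ⟨b, hb, rfl⟩
    exact hBcX b hb
  -- (4) the subgroup `V`
  obtain ⟨V, hV⟩ := exists_vSub h.hp hp2 hP0c hP0
  have hVS : V ≤ S := fun x hx => ((hV x).1 hx).1
  have hVinv : ∀ {A : Subgroup X}, A ≤ normalizer (S : Set X) → P0 ≤ centralizer (A : Set X) →
      A ≤ normalizer (V : Set X) := by
    intro A hA hAP
    apply le_normalizer_of_conj_mem
    intro g hg x hx
    obtain ⟨hxS, hxp, hxc⟩ := (hV x).1 hx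
    refine (hV _).2 ⟨conj_mem_of_le_normalizer hA hg hxS, by rw [conj_pow, hxp]; group, ?_⟩
    intro s hs
    have h1 : g⁻¹ * s * g ∈ S := conj_inv_mem_of_le_normalizer hA hg hs
    have h2 := hxc _ h1
    have h3 := conj_mem_of_le_normalizer (hcn hAP) hg h2
    have e : g * x * g⁻¹ * s * (g * x * g⁻¹)⁻¹ * s⁻¹ =
        g * (x * (g⁻¹ * s * g) * x⁻¹ * (g⁻¹ * s * g)⁻¹) * g⁻¹ := by group
    rw [e]; exact h3
  have hVh : Hyp p r V R0 Q0 := h.of_le hVS (hVinv h.hRS hP0R) (hVinv h.hQS hP0Q)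
  have hP0V : P0 ≤ V := by
    intro x hx
    refine (hV x).2 ⟨hP0S hx, ?_, ?_⟩
    · have h1 := Subgroup.orderOf_dvd_natCard P0 hx
      rw [hP0] at h1
      exact orderOf_dvd_iff_pow_eq_one.1 h1
    · intro s hs
      have h1 := mem_centralizer_iff.1 (hP0c hx) s hs
      have e : x * s * x⁻¹ * s⁻¹ = 1 := by rw [← h1]; group
      rw [e]; exact P0.one_mem
  have hQV : Q0 ≤ centralizer (V : Set X) := by
    refine F_cent hVh hP0V ?_ (hcn hP0R) hP0Q ?_
    · exact hVS.trans (hcn hP0c)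
    · intro x hx
      obtain ⟨hxS, hxp, -⟩ := (hV x).1 hx.1
      exact hΩR x hxS hx.2 hxp
  have hVP : V ≤ P0 := by
    intro x hx
    obtain ⟨hxS, hxp, -⟩ := (hV x).1 hx
    exact hΩQ x hxS (hsymm hQV hx) hxp
  -- (5) `N1 ≤ V`
  have hN1V : N1.map S.subtype ≤ V := by
    rintro _ ⟨x, hx, rfl⟩
    refine (hV _).2 ⟨x.2, ?_, ?_⟩
    · have h1 := hN1e.2 x hx
      have h3 := congrArg Subtype.val h1
      rw [Subgroup.coe_pow] at h3
      exact h3
    · intro s hs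
      -- `s x s⁻¹ x⁻¹ ∈ B`, so `x s x⁻¹ s⁻¹ = (s x s⁻¹ x⁻¹)⁻¹` up to conjugation
      have h1 := hcommB ⟨s, hs⟩⁻¹ x hx
      -- `s⁻¹ x s x⁻¹ ∈ B`, central
      have h2 : ((⟨s, hs⟩⁻¹ * x * (⟨s, hs⟩⁻¹)⁻¹ * x⁻¹ : ↥S) : X) ∈ P0 := by
        rw [← hBP']
        exact ⟨_, h1, rfl⟩
      have h4 : (s⁻¹ * (x : X) * s * (x : X)⁻¹) ∈ P0 := by
        have e : ((⟨s, hs⟩⁻¹ * x * (⟨s, hs⟩⁻¹)⁻¹ * x⁻¹ : ↥S) : X) = s⁻¹ * (x : X) * s * (x : X)⁻¹ := by
          simp
        rw [e] at h2; exact h2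
      -- conjugate by `s`: `x s x⁻¹ s⁻¹ = s (s⁻¹ x s x⁻¹) s⁻¹` since central elements are fixed
      have h5 := mem_centralizer_iff.1 (hP0c h4) s hs
      have e : (x : X) * s * (x : X)⁻¹ * s⁻¹ = s * (s⁻¹ * (x : X) * s * (x : X)⁻¹) * s⁻¹ := by group
      show (x : X) * s * (x : X)⁻¹ * s⁻¹ ∈ P0
      rw [e, h5]
      have e2 : s⁻¹ * (x : X) * s * (x : X)⁻¹ * s * s⁻¹ = s⁻¹ * (x : X) * s * (x : X)⁻¹ := by group
      rw [e2]; exact h4
  have hle : N1.map S.subtype ≤ P0 := hN1V.trans hVP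
  have hcard := Subgroup.card_le_of_le hle
  rw [Subgroup.card_map_of_injective S.subtype_injective, hN1c, hP0] at hcard
  have : p < p ^ 2 := by
    have := h.hp.one_lt
    nlinarith
  omega

end cyclic

end Cfsg.Agent.Helper71.LemmaF
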