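import Mathlib
import Cfsg.Prelude.Def_OddOrderLocal
import Cfsg.Agent.Helper23.BG13E
import Cfsg.Agent.Helper64.BG13W
import Cfsg.Agent.Helper63.BG13F
import Cfsg.Agent.Helper71.LemmaF
import Cfsg.Agent.Helper71.ShultBasic
import Cfsg.Agent.Helper31.BGTrans

set_option autoImplicit false
set_option linter.unusedSectionVars false
set_option linter.unusedVariables false
set_option linter.style.haveILetI false

/-!
# B-G Theorem 13.4, Steps 6-8 (piece W5 of board posts #3332 / #3362)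
(helper71; paper proof helper70 #3112, simplified by helper23 #3332)

From the interface `Steps15 G` of `Helper23.BG13D`: for `p ∈ τ₁(M)`, `P ≤ E` of order `p` and
`R ≤ C_E(P)` of prime order, `R` centralizes `C_{M_σ}(P)`.
-/

namespace Cfsg.Agent.Helper71.BG13W5

open Cfsg Cfsg.Agent.Helper29 Cfsg.Agent.Helper29.BG10 Cfsg.Agent.Helper29.BG11
open Cfsg.Agent.Helper71.Shult
open scoped commutatorElement

variable {G : Type*} [Group G] [Finite G]

/-- subgroups of a maximal subgroup are solvable -/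
theorem isSolvable_of_le (hG : Cfsg.IsMinSimpleOddOrder G) {M X : Subgroup G} (hM : IsCoatom M)
    (hXM : X ≤ M) : Group.IsSolvable ↥X := by
  haveI : Group.IsSolvable ↥M := hG.2.2.2 M hM.1
  exact Group.isSolvable_of_isSolvable_injective (Subgroup.inclusion_injective hXM)

omit [Finite G] in
/-- a subgroup centralizing `P` normalizes `C_G(P)` -/
theorem le_normalizer_centralizer_of_le_centralizer {A P : Subgroup G}
    (h : A ≤ Subgroup.centralizer (P : Set G)) :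
    A ≤ Subgroup.normalizer ((Subgroup.centralizer (P : Set G) : Subgroup G) : Set G) :=
  le_normalizer_centralizer (h.trans (Subgroup.centralizer_le_normalizer _))

/-- the common coprimality: a group of prime order `r ∉ σ(M)` and a subgroup of `M_σ` -/
theorem coprime_of_le_sigmaCore (hG : Cfsg.IsMinSimpleOddOrder G) (hU : UniquenessThm G)
    {M : Subgroup G} (hM : IsCoatom M) {r : ℕ} (hr : r.Prime) (hrσ : r ∉ Cfsg.sigma M)
    {R K : Subgroup G} (hRc : Nat.card R = r) (hK : K ≤ Cfsg.sigmaCore M) :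
    (Nat.card R).Coprime (Nat.card K) := by
  obtain ⟨⟨-, hSpi, -⟩, -, -⟩ := thm_10_2_sigma hG hU M hM
  rw [hRc, Nat.Prime.coprime_iff_not_dvd hr]
  intro hd
  exact hrσ (hSpi r hr (hd.trans (Subgroup.card_dvd_of_le hK)))

/-- a prime `r` with a subgroup of order `r` in a complement `E` of `M_σ` is not in `σ(M)` -/
theorem not_mem_sigma_of_le_compl (hG : Cfsg.IsMinSimpleOddOrder G) (hU : UniquenessThm G)
    {M E : Subgroup G} (hM : IsCoatom M) (hE : Cfsg.IsComplIn E (Cfsg.sigmaCore M) M)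
    {r : ℕ} (hr : r.Prime) {R : Subgroup G} (hRE : R ≤ E) (hRc : Nat.card R = r) :
    r ∉ Cfsg.sigma M := by
  have hctx := Cfsg.Agent.Helper68.BG12.eCtx_of hG hU hM hE
  apply hctx.not_sigma_of_dvd r hr
  rw [← hRc]
  exact Subgroup.card_dvd_of_le hRE

/-- **Step 6**: `R` centralizes `C_{M_α}(P)`. -/
theorem claim_alpha (hG : Cfsg.IsMinSimpleOddOrder G) (hU : UniquenessThm G)
    (h15 : Cfsg.Agent.Helper23.BG13.Steps15 G) {M E : Subgroup G} (hM : IsCoatom M)
    (hE : Cfsg.IsComplIn E (Cfsg.sigmaCore M) M) {p : ℕ} [Fact p.Prime] (hp : p ∈ Cfsg.tau1 M)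
    {P : Subgroup G} (hPE : P ≤ E) (hPc : Nat.card P = p) {r : ℕ} [Fact r.Prime]
    {R : Subgroup G} (hRE : R ≤ E) (hRP : R ≤ Subgroup.centralizer (P : Set G))
    (hRc : Nat.card R = r) :
    ⁅Cfsg.alphaCore M ⊓ Subgroup.centralizer (P : Set G), R⁆ = ⊥ := by
  classical
  by_contra hne
  have hrp : r.Prime := Fact.out
  have hEM : E ≤ M := hE.1
  have hασ : Cfsg.alphaCore M ≤ Cfsg.sigmaCore M := (thm_10_2_alpha hG hU M hM).2.2.1
  have hrσ : r ∉ Cfsg.sigma M := not_mem_sigma_of_le_compl hG hU hM hE hrp hRE hRc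
  have hMα : M ≤ Subgroup.normalizer ((Cfsg.alphaCore M : Subgroup G) : Set G) :=
    Cfsg.Agent.Helper31.le_normalizer_piCoreOf (Cfsg.alpha M) M
  have hRK : R ≤ Subgroup.normalizer
      ((Cfsg.alphaCore M ⊓ Subgroup.centralizer (P : Set G) : Subgroup G) : Set G) :=
    inf_le_normalizer ((hRE.trans hEM).trans hMα) (le_normalizer_centralizer_of_le_centralizer hRP)
  obtain ⟨q, Q0, hq, hQ0K, hQ0q, hQ01, hRQ0, hcomm⟩ :=
    Cfsg.Agent.Helper64.BG13W.exists_invariant_pgroup_commutator R _ hRK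
      (coprime_of_le_sigmaCore hG hU hM hrp hrσ hRc (inf_le_left.trans hασ))
      (Or.inl (isSolvable_of_le hG hM (hRE.trans hEM))) hne
  haveI : Fact q.Prime := ⟨hq⟩
  obtain ⟨H, -, -, -, -, -, -, hqα, -⟩ := h15 M E hM hE p hp P hPE hPc r R hRE hRP hRc q Q0 hQ0q
    hQ01 (hQ0K.trans (inf_le_left.trans hασ)) (hQ0K.trans inf_le_right) hRQ0 hcomm
  apply hqα
  apply primes_alphaCore M q hq
  exact (Cfsg.Agent.Helper23.BG13.dvd_card_of_isPGroup_ne_bot hQ0q hQ01).trans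
    (Subgroup.card_dvd_of_le (hQ0K.trans inf_le_left))

/-- **Steps 7-8 = B-G Theorem 13.4, the main claim**: `R` centralizes `C_{M_σ}(P)`. -/
theorem claim_sigma (hG : Cfsg.IsMinSimpleOddOrder G) (hU : UniquenessThm G)
    (h15 : Cfsg.Agent.Helper23.BG13.Steps15 G) {M E : Subgroup G} (hM : IsCoatom M)
    (hE : Cfsg.IsComplIn E (Cfsg.sigmaCore M) M) {p : ℕ} [Fact p.Prime] (hp : p ∈ Cfsg.tau1 M)
    {P : Subgroup G} (hPE : P ≤ E) (hPc : Nat.card P = p) {r : ℕ} [Fact r.Prime]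
    {R : Subgroup G} (hRE : R ≤ E) (hRP : R ≤ Subgroup.centralizer (P : Set G))
    (hRc : Nat.card R = r) :
    ⁅Cfsg.sigmaCore M ⊓ Subgroup.centralizer (P : Set G), R⁆ = ⊥ := by
  classical
  by_contra hne
  have hpp : p.Prime := Fact.out
  have hrp : r.Prime := Fact.out
  have hEM : E ≤ M := hE.1
  have hRM : R ≤ M := hRE.trans hEM
  have hPM : P ≤ M := hPE.trans hEM
  obtain ⟨hαHall, -, hαleσ, -, -⟩ := thm_10_2_alpha hG hU M hM
  obtain ⟨⟨hSM, hSpi, -⟩, -, -⟩ := thm_10_2_sigma hG hU M hM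
  have hασ : Cfsg.alpha M ⊆ Cfsg.sigma M := alpha_subset_sigma hG hU hM
  have hrσ : r ∉ Cfsg.sigma M := not_mem_sigma_of_le_compl hG hU hM hE hrp hRE hRc
  have hpσ : p ∉ Cfsg.sigma M := hp.2.1
  have hMα : M ≤ Subgroup.normalizer ((Cfsg.alphaCore M : Subgroup G) : Set G) :=
    Cfsg.Agent.Helper31.le_normalizer_piCoreOf (Cfsg.alpha M) M
  have hPR : P ≤ Subgroup.centralizer (R : Set G) := Subgroup.le_centralizer_iff.1 hRP
  have hRK : R ≤ Subgroup.normalizer
      ((Cfsg.sigmaCore M ⊓ Subgroup.centralizer (P : Set G) : Subgroup G) : Set G) :=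
    inf_le_normalizer (hRM.trans (le_normalizer_sigmaCore M))
      (le_normalizer_centralizer_of_le_centralizer hRP)
  obtain ⟨q, Q0, hq, hQ0K, hQ0q, hQ01, hRQ0, hcomm⟩ :=
    Cfsg.Agent.Helper64.BG13W.exists_invariant_pgroup_commutator R _ hRK
      (coprime_of_le_sigmaCore hG hU hM hrp hrσ hRc inf_le_left)
      (Or.inl (isSolvable_of_le hG hM hRM)) hne
  haveI : Fact q.Prime := ⟨hq⟩
  have hQ0σ : Q0 ≤ Cfsg.sigmaCore M := hQ0K.trans inf_le_left
  have hQ0P : Q0 ≤ Subgroup.centralizer (P : Set G) := hQ0K.trans inf_le_right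
  have hQ0M : Q0 ≤ M := hQ0σ.trans hSM
  obtain ⟨H, hH, hHM, hCPH, hNQH, hSHP, hrτ, hqα, hβ⟩ := h15 M E hM hE p hp P hPE hPc r R hRE hRP
    hRc q Q0 hQ0q hQ01 hQ0σ hQ0P hRQ0 hcomm
  -- Step 7: `C_{M_α}(P) = C_{M_α}(R)`
  have ha1 : Cfsg.alphaCore M ⊓ Subgroup.centralizer (P : Set G) ≤
      Subgroup.centralizer (R : Set G) :=
    Subgroup.commutator_eq_bot_iff_le_centralizer.1
      (claim_alpha hG hU h15 hM hE hp hPE hPc hRE hRP hRc)
  have ha2 : Cfsg.alphaCore M ⊓ Subgroup.centralizer (R : Set G) ≤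
      Subgroup.centralizer (P : Set G) :=
    Subgroup.commutator_eq_bot_iff_le_centralizer.1
      (claim_alpha hG hU h15 hM hE hrτ hRE hRc hPE hPR hPc)
  -- a prime `t ∈ β(M)`
  have hβc : Nat.card (Cfsg.piCoreOf (Cfsg.beta M) M) ≠ 1 := fun h =>
    hβ (Subgroup.card_eq_one.1 h)
  obtain ⟨t, htp, htd⟩ := Nat.exists_prime_and_dvd hβc
  haveI : Fact t.Prime := ⟨htp⟩
  have htβ : t ∈ Cfsg.beta M := Cfsg.Agent.Helper31.piCoreOf_primes (Cfsg.beta M) M t htp htd
  have htα : t ∈ Cfsg.alpha M := htβ.1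
  -- the group `A = Q0 R P` acts coprimely on `M_α`
  have hPQ0 : P ≤ Subgroup.centralizer (Q0 : Set G) := Subgroup.le_centralizer_iff.1 hQ0P
  have hPN : P ≤ Subgroup.normalizer ((Q0 ⊔ R : Subgroup G) : Set G) :=
    sup_le_normalizer (hPQ0.trans (Subgroup.centralizer_le_normalizer _))
      (hPR.trans (Subgroup.centralizer_le_normalizer _))
  have hQRM : Q0 ⊔ R ≤ M := sup_le hQ0M hRM
  have hAM : (Q0 ⊔ R) ⊔ P ≤ M := sup_le hQRM hPM
  have hprime : ∀ s : ℕ, s.Prime → s ∣ Nat.card ↥((Q0 ⊔ R) ⊔ P : Subgroup G) → s ∉ Cfsg.alpha M := by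
    intro s hs hd hsα
    rcases Cfsg.Agent.Helper68.BG11.dvd_or_dvd_of_dvd_card_sup hPN hs hd with h1 | h1
    · rcases Cfsg.Agent.Helper68.BG11.dvd_or_dvd_of_dvd_card_sup hRQ0 hs h1 with h2 | h2
      · have : s = q := Cfsg.Agent.Helper23.BG13.eq_of_prime_dvd_card_pgroup hQ0q hs h2
        rw [this] at hsα
        exact hqα hsα
      · rw [hRc] at h2
        have : s = r := (Nat.prime_dvd_prime_iff_eq hs hrp).1 h2
        rw [this] at hsα
        exact hrσ (hασ hsα)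
    · rw [hPc] at h1
      have : s = p := (Nat.prime_dvd_prime_iff_eq hs hpp).1 h1
      rw [this] at hsα
      exact hpσ (hασ hsα)
  have hcopA : (Nat.card ↥((Q0 ⊔ R) ⊔ P : Subgroup G)).Coprime (Nat.card (Cfsg.alphaCore M)) :=
    Nat.Coprime.symm (Nat.coprime_of_dvd fun s hs h1 h2 =>
      hprime s hs h2 (primes_alphaCore M s hs h1))
  obtain ⟨St, hSt, -, hASt⟩ := Cfsg.Agent.Helper64.BG13W.exists_invariant_sylow_ge
    ((Q0 ⊔ R) ⊔ P) (Cfsg.alphaCore M) ⊥ (hAM.trans hMα) hcopA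
    (Or.inl (isSolvable_of_le hG hM hAM)) t IsPGroup.of_bot bot_le
    (by
      apply le_normalizer_of_conj_mem
      intro x hx u hu
      rw [Subgroup.mem_bot] at hu ⊢
      rw [hu]; group)
  have hStM : IsSylowIn t St M :=
    Cfsg.Agent.Helper23.BG13.isSylowIn_of_isPiHallOf hαHall htα hSt
  have hStnc : ¬ IsCyclic ↥St := fun hc =>
    htα.2 (Cfsg.Agent.Helper23.BG13.pRankLE_succ
      (Cfsg.Agent.Helper23.BG13.pRankLE_one_of_isCyclic_sylow hStM hc))
  have hStα : St ≤ Cfsg.alphaCore M := hSt.1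
  have hQ0St : Q0 ≤ Subgroup.normalizer (St : Set G) :=
    (le_sup_left.trans le_sup_left).trans hASt
  have hRSt : R ≤ Subgroup.normalizer (St : Set G) :=
    (le_sup_right.trans le_sup_left).trans hASt
  -- `C0 = C_St(P) = C_St(R)`
  have hC0 : St ⊓ Subgroup.centralizer (P : Set G) = St ⊓ Subgroup.centralizer (R : Set G) := by
    apply le_antisymm
    · exact le_inf inf_le_left (fun x hx => ha1 ⟨hStα hx.1, hx.2⟩)
    · exact le_inf inf_le_left (fun x hx => ha2 ⟨hStα hx.1, hx.2⟩)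
  have hQ0C0 : Q0 ≤ Subgroup.normalizer
      ((St ⊓ Subgroup.centralizer (P : Set G) : Subgroup G) : Set G) :=
    inf_le_normalizer hQ0St (le_normalizer_centralizer_of_le_centralizer hQ0P)
  -- `Q0 = [Q0, R]` centralizes `C0`
  have hQ0cent : Q0 ≤ Subgroup.centralizer
      ((St ⊓ Subgroup.centralizer (P : Set G) : Subgroup G) : Set G) := by
    rw [← hcomm, Subgroup.commutator_le]
    intro a ha b hb
    rw [Subgroup.mem_centralizer_iff]
    intro c hc
    have hcR : c ∈ Subgroup.centralizer (R : Set G) := by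
      have : c ∈ St ⊓ Subgroup.centralizer (R : Set G) := hC0 ▸ hc
      exact this.2
    have hc' : a⁻¹ * c * a ∈ St ⊓ Subgroup.centralizer (R : Set G) := by
      rw [← hC0]
      exact conj_inv_mem_of_le_normalizer hQ0C0 ha hc
    have h1 : b * c = c * b := Subgroup.mem_centralizer_iff.1 hcR b hb
    have h2 : b * (a⁻¹ * c * a) = (a⁻¹ * c * a) * b :=
      Subgroup.mem_centralizer_iff.1 hc'.2 b hb
    have h3 : (a * b * a⁻¹) * c = c * (a * b * a⁻¹) := by
      calc (a * b * a⁻¹) * c = a * (b * (a⁻¹ * c * a)) * a⁻¹ := by group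
        _ = a * ((a⁻¹ * c * a) * b) * a⁻¹ := by rw [h2]
        _ = c * (a * b * a⁻¹) := by group
    have h1' : b⁻¹ * c = c * b⁻¹ := by
      have e : b⁻¹ * c = b⁻¹ * (c * b) * b⁻¹ := by group
      rw [e, ← h1]; group
    rw [commutatorElement_def]
    calc c * (a * b * a⁻¹ * b⁻¹) = (c * (a * b * a⁻¹)) * b⁻¹ := by group
      _ = ((a * b * a⁻¹) * c) * b⁻¹ := by rw [h3]
      _ = (a * b * a⁻¹) * (c * b⁻¹) := by group
      _ = (a * b * a⁻¹) * (b⁻¹ * c) := by rw [h1']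
      _ = a * b * a⁻¹ * b⁻¹ * c := by group
  have hC : St ⊓ Subgroup.centralizer (R : Set G) = St ⊓ Subgroup.centralizer (Q0 : Set G) := by
    apply le_antisymm
    · refine le_inf inf_le_left (fun x hx => ?_)
      have hx' : x ∈ St ⊓ Subgroup.centralizer (P : Set G) := hC0 ▸ hx
      rw [Subgroup.mem_centralizer_iff]
      intro g hg
      exact (Subgroup.mem_centralizer_iff.1 (hQ0cent hg) x hx').symm
    · rw [← hC0]
      refine le_inf inf_le_left (fun x hx => ?_)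
      apply hSHP
      exact ⟨hαleσ (hStα hx.1), hNQH (Subgroup.centralizer_le_normalizer _ hx.2)⟩
  -- Lemma F(b)
  have hrQ : ¬ r ∣ Nat.card Q0 := fun hd =>
    hrσ (hSpi r hrp (hd.trans (Subgroup.card_dvd_of_le hQ0σ)))
  have hcopt : (Nat.card ↥(Q0 ⊔ R : Subgroup G)).Coprime t := by
    apply Nat.Coprime.symm
    rw [Nat.Prime.coprime_iff_not_dvd htp]
    intro hd
    exact hprime t htp (hd.trans (Subgroup.card_dvd_of_le le_sup_left)) htα
  have hF : Cfsg.Agent.Helper71.LemmaF.Hyp t r St R Q0 :=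
    Cfsg.Agent.Helper71.LemmaF.Hyp.of_coprime htp hrp hSt.2.1 hRc hRQ0 hQ0St hRSt
      (isSolvable_of_le hG hM hQRM)
      (Odd.of_dvd_nat hG.1 (Subgroup.card_subgroup_dvd_card _)) hcopt hrQ hcomm
  have hStR : St ≤ Subgroup.centralizer (R : Set G) := Cfsg.Agent.Helper71.LemmaF.F_b hF hC
  -- `St` has rank one, hence is cyclic
  have hStP : St ≤ Cfsg.alphaCore M ⊓ Subgroup.centralizer (P : Set G) :=
    le_inf hStα (fun x hx => ha2 ⟨hStα hx, hStR hx⟩)
  have hPα : ∀ s : ℕ, s.Prime → s ∣ Nat.card P → s ∉ Cfsg.alpha M := by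
    intro s hs hd hsα
    rw [hPc] at hd
    have : s = p := (Nat.prime_dvd_prime_iff_eq hs hpp).1 hd
    rw [this] at hsα
    exact hpσ (hασ hsα)
  have hrk := Cfsg.Agent.Helper23.BG13.rankLE_one_alphaCore_centralizer' hG hU hM hH hHM hPM hPα
    hCPH
  have hrkt : Cfsg.PRankLE t 1 ↥St :=
    Cfsg.Agent.Helper23.BG13.pRankLE_mono hStP (hrk t htp)
  exact hStnc (Cfsg.Agent.Helper23.BG13.isCyclic_of_isPGroup_of_pRankLE_one hG.1 hSt.2.1 hrkt)

end Cfsg.Agent.Helper71.BG13W5
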