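import Mathlib
import Cfsg.Prelude.Def_OddOrderLocal
import Cfsg.Agent.S1403
import Cfsg.Agent.S1414
import Cfsg.Agent.S1416
import Cfsg.Agent.S1417
import Cfsg.Agent.S1418
import Cfsg.Agent.S1420
import Cfsg.Agent.Helper23.BG13E
import Cfsg.Agent.Helper63.BG13C
import Cfsg.Agent.Helper60.BGAsmD
import Cfsg.Agent.Helper71.BGHall
import Cfsg.Agent.Helper71.BG13W5

set_option autoImplicit false
set_option linter.unusedSectionVars false
set_option linter.unusedVariables false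
set_option linter.style.haveILetI false

/-!
# Piece (K1) of the proof of B-G 14.2 (board posts #3506 / #3585, helper70)
(helper71)

`M` maximal, `E` a complement of `M_σ`, `p ∈ τ₁(M)`, `P ≤ E` of order `p` with
`C_{M_σ}(P) ≠ 1`, `H` a maximal subgroup containing `N_G(P)`.  Then `p ∈ σ(H)`.

The only input which is not yet a landed statement is STEP I (= B-G 13.6), taken here as the
statement-shaped hypothesis `StepI G`.
-/

namespace Cfsg.Agent.Helper71.BG14K1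

open Cfsg Cfsg.Agent.Helper29 Cfsg.Agent.Helper29.BG10 Cfsg.Agent.Helper29.BG11
open scoped commutatorElement

variable {G : Type*} [Group G] [Finite G]

/-- STEP I of board post #3506 (= B-G 13.6), as a statement-shaped hypothesis: for `p ∈ τ₁(M)`,
`P ≤ E` of order `p` and `X ≤ C_{M_σ}(P)` of prime order, `M` is the only maximal subgroup
containing `N_G(X)`. -/
def StepI (G : Type*) [Group G] : Prop :=
  ∀ (M E : Subgroup G), IsCoatom M → Cfsg.IsComplIn E (Cfsg.sigmaCore M) M →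
  ∀ (p : ℕ), p ∈ Cfsg.tau1 M → ∀ P : Subgroup G, P ≤ E → Nat.card P = p →
  ∀ X : Subgroup G, X ≤ Cfsg.sigmaCore M ⊓ Subgroup.centralizer (P : Set G) →
    (Nat.card X).Prime →
    Subgroup.normalizer (X : Set G) ≤ M ∧
      ∀ L : Subgroup G, IsCoatom L → Subgroup.normalizer (X : Set G) ≤ L → L = M

/-- a prime dividing `|M|` and outside `σ(M)` lies in `τ₁(M) ∪ τ₂(M) ∪ τ₃(M)` -/
theorem tau_cases (hG : Cfsg.IsMinSimpleOddOrder G) (hU : UniquenessThm G)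
    {M : Subgroup G} (hM : IsCoatom M) {t : ℕ} (ht : t.Prime) (htM : t ∣ Nat.card M)
    (htσ : t ∉ Cfsg.sigma M) : t ∈ Cfsg.tau1 M ∨ t ∈ Cfsg.tau2 M ∨ t ∈ Cfsg.tau3 M := by
  by_cases hr1 : Cfsg.PRankLE t 1 ↥M
  · by_cases hd : t ∣ Nat.card ↥⁅M, M⁆
    · exact Or.inr (Or.inr ⟨ht, htσ, hd, hr1⟩)
    · exact Or.inl ⟨ht, htσ, htM, hd, hr1⟩
  · by_cases hr2 : Cfsg.PRankLE t 2 ↥M
    · exact Or.inr (Or.inl ⟨ht, htσ, hr2, hr1⟩)
    · exact absurd (alpha_subset_sigma hG hU hM ⟨ht, hr2⟩) htσ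

omit [Finite G] in
/-- `C_G(x) ≤ N_G(⟨x⟩)` -/
theorem centralizer_singleton_le_normalizer_zpowers (x : G) :
    Subgroup.centralizer ({x} : Set G) ≤
      Subgroup.normalizer ((Subgroup.zpowers x : Subgroup G) : Set G) := by
  refine le_trans ?_ (Subgroup.centralizer_le_normalizer _)
  intro g hg
  rw [Subgroup.mem_centralizer_iff] at hg ⊢
  intro y hy
  obtain ⟨k, rfl⟩ := Subgroup.mem_zpowers_iff.1 hy
  have h1 : Commute x g := hg x (Set.mem_singleton x)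
  exact (h1.zpow_left k).eq

/-- a subgroup of prime order `t` is a `t`-group -/
theorem isPGroup_of_card_eq {t : ℕ} [Fact t.Prime] {X : Subgroup G} (hX : Nat.card X = t) :
    IsPGroup t X := IsPGroup.of_card (n := 1) (by rw [hX, pow_one])

/-- **(K1)** of board post #3506: `M` maximal, `E` a complement of `M_σ`, `p ∈ τ₁(M)`, `P ≤ E` of
order `p` with `C_{M_σ}(P) ≠ 1`, and `H` a maximal subgroup containing `N_G(P)`: then
`p ∈ σ(H)`. -/
theorem k1 (hG : Cfsg.IsMinSimpleOddOrder G) (hStepI : StepI G)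
    {M E : Subgroup G} (hM : IsCoatom M) (hE : Cfsg.IsComplIn E (Cfsg.sigmaCore M) M)
    {p : ℕ} (hp : p ∈ Cfsg.tau1 M) {P : Subgroup G} (hPE : P ≤ E) (hP : Nat.card P = p)
    (hD : Cfsg.sigmaCore M ⊓ Subgroup.centralizer (P : Set G) ≠ ⊥)
    {H : Subgroup G} (hH : IsCoatom H) (hNP : Subgroup.normalizer (P : Set G) ≤ H) :
    p ∈ Cfsg.sigma H := by
  classical
  have hU : UniquenessThm G := fun K hK hK2 hK3 => Cfsg.Agent.S1403.result hG K hK hK2 hK3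
  have hpp : p.Prime := hp.1
  haveI : Fact p.Prime := ⟨hpp⟩
  by_contra hpσ
  -- Step 1: `p ∈ τ₂(H)`
  obtain ⟨⟨hr2, hr1⟩, hnid, -⟩ := thm_10_6 hG hU H hH p hpσ P hP hNP
  have hpτ : p ∈ Cfsg.tau2 H := ⟨hpp, hpσ, hr2, hr1⟩
  have hncMH : ∀ g : G, cj g M ≠ H := by
    intro g hg
    apply hr1
    rw [← hg]
    exact Cfsg.Agent.Helper23.BG13.pRankLE_cj hp.2.2.2.2 g
  have hncHM : ∀ g : G, cj g H ≠ M := by
    intro g hg
    apply hncMH g⁻¹
    rw [← hg, cj_inv_cj]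
  -- `H_σ` is nilpotent, so `σ(M) ∩ σ(H) = ∅`
  obtain ⟨A₀, hA₀H, hA₀e, hA₀c⟩ := exists_elementaryAbelian_sq hr2 hr1
  have hnilH : Group.IsNilpotent ↥(Cfsg.sigmaCore H) :=
    (Cfsg.Agent.S1417.result hG H hH p hpτ A₀ ⟨hA₀H, hA₀e, hA₀c⟩).1
  have hdisj : ∀ q : ℕ, q ∈ Cfsg.sigma M → q ∉ Cfsg.sigma H := fun q hqM hqH =>
    not_mem_sigma_of_mem_sigma hG hU hH hM hncHM hnilH hqH hqM
  obtain ⟨⟨hSM, hSpi, hSidx⟩, -, -⟩ := thm_10_2_sigma hG hU M hM
  -- `D = C_{M_σ}(P)` and `D ⊔ P ≤ H` is a `σ(H)'`-group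
  obtain ⟨D, hDdef⟩ : ∃ D : Subgroup G,
    D = Cfsg.sigmaCore M ⊓ Subgroup.centralizer (P : Set G) := ⟨_, rfl⟩
  rw [← hDdef] at hD
  have hDS : D ≤ Cfsg.sigmaCore M := by rw [hDdef]; exact inf_le_left
  have hDC : D ≤ Subgroup.centralizer (P : Set G) := by rw [hDdef]; exact inf_le_right
  have hDH : D ≤ H := (hDC.trans (Subgroup.centralizer_le_normalizer _)).trans hNP
  have hPH : P ≤ H := Subgroup.le_normalizer.trans hNP
  have hDσ : ∀ q : ℕ, q.Prime → q ∣ Nat.card D → q ∈ Cfsg.sigma M := fun q hq hd =>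
    hSpi q hq (hd.trans (Subgroup.card_dvd_of_le hDS))
  have hPND : P ≤ Subgroup.normalizer (D : Set G) := by
    refine le_trans ?_ (Subgroup.centralizer_le_normalizer _)
    exact Subgroup.le_centralizer_iff.1 hDC
  have hDP0 : D ⊓ P = ⊥ := by
    rw [eq_bot_iff, ← hE.2.2.1]
    exact le_inf (inf_le_right.trans hPE) (inf_le_left.trans hDS)
  have hDPc : Nat.card ↥(D ⊔ P) = Nat.card D * Nat.card P :=
    Cfsg.Agent.Helper23.card_sup_of_disjoint_of_le_normalizer hDP0 hPND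
  have hDPσ : ∀ q : ℕ, q.Prime → q ∣ Nat.card ↥(D ⊔ P) → q ∉ Cfsg.sigma H := by
    intro q hq hd
    rw [hDPc, hP] at hd
    rcases (Nat.Prime.dvd_mul hq).1 hd with h | h
    · exact hdisj q (hDσ q hq h)
    · rw [(Nat.prime_dvd_prime_iff_eq hq hpp).1 h]; exact hpσ
  obtain ⟨EH, hEH, hDPE⟩ :=
    Cfsg.Agent.Helper71.BGHall.exists_isComplIn_sigmaCore_ge hG hU hH (sup_le hDH hPH) hDPσ
  have hctxH := Cfsg.Agent.Helper68.BG12.eCtx_of hG hU hH hEH
  obtain ⟨A, hAE, hAe, hAc⟩ :=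
    Cfsg.Agent.Helper71.BGHall.exists_elementaryAbelian_sq_le_compl hctxH hpσ hr2 hr1
  obtain ⟨⟨hEHA, -⟩, ⟨-, -, hNAH⟩, -⟩ :=
    Cfsg.Agent.S1418.result hG H hH EH hEH p hpτ A ⟨hAE, hAe, hAc⟩
  -- `L` maximal over `N_G(A)`
  have hp1 : 1 < p := hpp.one_lt
  have hA1 : A ≠ ⊥ := by
    intro h
    rw [h, Subgroup.card_bot] at hAc
    nlinarith
  have hA2 : A ≠ ⊤ := by
    intro h
    apply hH.1
    rw [eq_top_iff, ← h]
    exact hAE.trans hEH.1
  obtain ⟨L, hL, hNAL⟩ := Cfsg.Agent.Helper60.BGAsm.exists_coatom_normalizer_le hG hA1 hA2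
  have hEHL : EH ≤ L := hEHA.trans hNAL
  have hAL : A ≤ L := hAE.trans hEHL
  have hr1L : ¬ Cfsg.PRankLE p 1 ↥L := by
    refine (Cfsg.Agent.Helper23.not_pRankLE_subgroup_iff p 1 L).2 ⟨A, hAL, hAe, ?_⟩
    rw [hAc, pow_one]
    nlinarith
  have hApσ : ∀ X : Subgroup G, X ≤ A → ∀ q : ℕ, q.Prime → q ∣ Nat.card X → q = p := by
    intro X hXA q hq hd
    have h1 : q ∣ p ^ 2 := hAc ▸ hd.trans (Subgroup.card_dvd_of_le hXA)
    exact (Nat.prime_dvd_prime_iff_eq hq hpp).1 (hq.dvd_of_dvd_pow h1)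
  -- `p ∈ σ(L)`
  have hpL : p ∈ Cfsg.sigma L := by
    by_contra hpσL
    have hr2L : Cfsg.PRankLE p 2 ↥L := by
      by_contra hcon
      exact hpσL (alpha_subset_sigma hG hU hL ⟨hpp, hcon⟩)
    have hpτL : p ∈ Cfsg.tau2 L := ⟨hpp, hpσL, hr2L, hr1L⟩
    obtain ⟨EL, hEL, hAEL⟩ :=
      Cfsg.Agent.Helper71.BGHall.exists_isComplIn_sigmaCore_ge hG hU hL hAL
        (fun q hq hd => by rw [hApσ A le_rfl q hq hd]; exact hpσL)
    obtain ⟨-, ⟨-, -, hNAL'⟩, -⟩ :=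
      Cfsg.Agent.S1418.result hG L hL EL hEL p hpτL A ⟨hAEL, hAe, hAc⟩
    exact hNAL' hNAL
  have hML : M ≠ L := by
    intro h
    rw [← h] at hr1L
    exact hr1L hp.2.2.2.2
  have hHL : H ≠ L := by
    intro h
    rw [← h] at hNAL
    exact hNAH hNAL
  -- Lemma C for `(M, L, p)`: `L'` contains no nontrivial `σ(M)`-subgroup
  have hW : Cfsg.Agent.Helper23.BG13.NilpHallSigma G :=
    fun L hL => (Cfsg.Agent.S1414.result hG L hL).2.2.2.1
  have hβ : Cfsg.Agent.Helper64.BG1217D.BetaHall G :=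
    fun L hL => (Cfsg.Agent.S1414.result hG L hL).1
  have hidx : Cfsg.Agent.Helper64.BG1217D.H1414idx G :=
    fun L hL s hs hsL hsβ => ((Cfsg.Agent.S1414.result hG L hL).2.2.2.2 s hs hsL hsβ).2.2
  have h1416 : Cfsg.Agent.Helper23.BG13.H1416 G :=
    fun L hL q _ A hAL hAe hAc => (Cfsg.Agent.S1416.result hG L hL q A ⟨hAL, hAe, hAc⟩).1
  have h1417 : Cfsg.Agent.Helper23.BG13.H1417 G := by
    intro L hL q _ hq A hAL hAe hAc
    have h := Cfsg.Agent.S1417.result hG L hL q hq A ⟨hAL, hAe, hAc⟩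
    exact ⟨h.1, fun P => (h.2.1 P).1, h.2.2.1, h.2.2.2.2.1⟩
  have h1418 : Cfsg.Agent.Helper64.BG1217D.H1418 G := by
    intro L hL E' hE' s _ hs A hAE hAe hAc
    have h := Cfsg.Agent.S1418.result hG L hL E' hE' s hs A ⟨hAE, hAe, hAc⟩
    exact h.2.1.1.trans (le_of_eq h.2.1.2.1)
  have h17 : Cfsg.Agent.Helper64.BG1218.Hyp1217 M :=
    Cfsg.Agent.Helper64.BG1217D.hyp1217_of hG hU h1416 h1417 h1418 hW hβ hidx hM
  have hC : ∀ Y : Subgroup G, Y ≠ ⊥ →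
      (∀ r : ℕ, r.Prime → r ∣ Nat.card ↥Y → r ∈ Cfsg.sigma M) → ¬ Y ≤ ⁅L, L⁆ := by
    intro Y hY1 hYσ hYL
    exact hnid (Cfsg.Agent.Helper63.BG13C.lemma_13_1c_sigma hG hU h17 hp hL hpL
      (fun q hq hqL hqβ => ((Cfsg.Agent.S1414.result hG L hL).2.2.2.2 q hq hqL hqβ).1)
      hY1 hYσ hYL).1
  -- `X ≤ D` of prime order `t`
  obtain ⟨t, ht, htD⟩ : ∃ t : ℕ, t.Prime ∧ t ∣ Nat.card D := by
    apply Nat.exists_prime_and_dvd
    intro h
    exact hD (Subgroup.card_eq_one.1 h)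
  haveI : Fact t.Prime := ⟨ht⟩
  obtain ⟨x, hx⟩ := exists_prime_orderOf_dvd_card' (G := ↥D) t htD
  obtain ⟨X, hXdef⟩ : ∃ X : Subgroup G, X = Subgroup.zpowers (x : G) := ⟨_, rfl⟩
  have hxo : orderOf (x : G) = t := by rw [Subgroup.orderOf_coe]; exact hx
  have hXc : Nat.card X = t := by rw [hXdef, Nat.card_zpowers]; exact hxo
  have hXD : X ≤ D := by
    rw [hXdef, Subgroup.zpowers_le]; exact x.2
  have hXt : IsPGroup t X := isPGroup_of_card_eq hXc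
  have hX1 : X ≠ ⊥ := by
    intro h
    rw [h, Subgroup.card_bot] at hXc
    exact ht.one_lt.ne hXc
  have hXL : X ≤ L := (hXD.trans ((le_sup_left : D ≤ D ⊔ P).trans hDPE)).trans hEHL
  have hPL : P ≤ L := ((le_sup_right : P ≤ D ⊔ P).trans hDPE).trans hEHL
  have htM : t ∈ Cfsg.sigma M := hDσ t ht htD
  have hXL' : ¬ X ≤ ⁅L, L⁆ := by
    apply hC X hX1
    intro r hr hd
    rw [hXc] at hd
    rw [(Nat.prime_dvd_prime_iff_eq hr ht).1 hd]; exact htM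
  have htσL : t ∉ Cfsg.sigma L := fun h =>
    hXL' (Cfsg.Agent.Helper23.BG13.le_commutator_of_mem_sigma hG hU hL h hXt hXL)
  have htτ3 : t ∉ Cfsg.tau3 L := fun h =>
    hXL' (Cfsg.Agent.Helper23.BG13.le_commutator_of_mem_tau3 hG hU hL h hXt hXL)
  have htL : t ∣ Nat.card L := by rw [← hXc]; exact Subgroup.card_dvd_of_le hXL
  -- `P ≤ L_σ ∩ C_G(X)`
  have hPp : IsPGroup p P := isPGroup_of_card_eq hP
  have hPLσ : P ≤ Cfsg.sigmaCore L := le_sigmaCore_of_isPGroup hG hU hL hpL hPp hPL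
  have hPCX : P ≤ Subgroup.centralizer (X : Set G) :=
    Subgroup.le_centralizer_iff.1 (hXD.trans hDC)
  have hXσ : ∀ q : ℕ, q.Prime → q ∣ Nat.card X → q ∉ Cfsg.sigma L := by
    intro q hq hd
    rw [hXc] at hd
    rw [(Nat.prime_dvd_prime_iff_eq hq ht).1 hd]; exact htσL
  -- STEP I for `(M, p, P, X)`
  obtain ⟨hNXM, -⟩ := hStepI M E hM hE p hp P hPE hP X (by rw [← hDdef]; exact hXD)
    (by rw [hXc]; exact ht)
  rcases tau_cases hG hU hL ht htL htσL with h1 | h2 | h3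
  · -- `t ∈ τ₁(L)`: STEP I for `(L, t, X, P)` gives `H = L`
    obtain ⟨EL, hEL, hXEL⟩ :=
      Cfsg.Agent.Helper71.BGHall.exists_isComplIn_sigmaCore_ge hG hU hL hXL hXσ
    obtain ⟨-, huniq⟩ := hStepI L EL hL hEL t h1 X hXEL hXc P (le_inf hPLσ hPCX)
      (by rw [hP]; exact hpp)
    exact hHL (huniq H hH hNP)
  · -- `t ∈ τ₂(L)`: S1420(d) gives `M = L`
    obtain ⟨EL, hEL⟩ := Cfsg.Agent.Helper71.BGHall.exists_isComplIn_sigmaCore hG hU hL
    have hP1 : P ≠ ⊥ := by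
      intro h
      rw [h, Subgroup.card_bot] at hP
      exact hp1.ne hP
    obtain ⟨y, hyP, hy1⟩ := (Subgroup.bot_or_exists_ne_one P).resolve_left hP1
    have hxX : (x : G) ∈ X := by rw [hXdef]; exact Subgroup.mem_zpowers _
    have hx1 : (x : G) ≠ 1 := by
      intro h
      rw [h, orderOf_one] at hxo
      exact ht.one_lt.ne hxo
    have hcomm : (x : G) * y = y * (x : G) := by
      have := Subgroup.mem_centralizer_iff.1 (hDC (hXD hxX)) y hyP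
      exact this.symm
    obtain ⟨-, huniq⟩ := (Cfsg.Agent.S1420.result hG L hL EL hEL).2.2.2 (x : G) (hXL hxX) hx1
      (by
        intro q hq hd
        rw [hxo] at hd
        rw [(Nat.prime_dvd_prime_iff_eq hq ht).1 hd]; exact h2)
      ⟨hXL hxX, y, hPLσ hyP, hy1, hcomm⟩
    apply hML
    apply huniq M hM
    refine le_trans ?_ hNXM
    rw [hXdef]
    exact centralizer_singleton_le_normalizer_zpowers _
  · exact htτ3 h3

/-- (K1), second form: `P ≤ H_σ` -/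
theorem k1_le_sigmaCore (hG : Cfsg.IsMinSimpleOddOrder G) (hStepI : StepI G)
    {M E : Subgroup G} (hM : IsCoatom M) (hE : Cfsg.IsComplIn E (Cfsg.sigmaCore M) M)
    {p : ℕ} (hp : p ∈ Cfsg.tau1 M) {P : Subgroup G} (hPE : P ≤ E) (hP : Nat.card P = p)
    (hD : Cfsg.sigmaCore M ⊓ Subgroup.centralizer (P : Set G) ≠ ⊥)
    {H : Subgroup G} (hH : IsCoatom H) (hNP : Subgroup.normalizer (P : Set G) ≤ H) :
    P ≤ Cfsg.sigmaCore H := by
  have hU : UniquenessThm G := fun K hK hK2 hK3 => Cfsg.Agent.S1403.result hG K hK hK2 hK3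
  haveI : Fact p.Prime := ⟨hp.1⟩
  exact le_sigmaCore_of_isPGroup hG hU hH (k1 hG hStepI hM hE hp hPE hP hD hH hNP)
    (isPGroup_of_card_eq hP) (Subgroup.le_normalizer.trans hNP)

end Cfsg.Agent.Helper71.BG14K1
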