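import Mathlib
import Cfsg.Prelude.Def_OddOrderLocal
import Cfsg.Agent.Helper71.BGHall
import Cfsg.Agent.Helper71.BG11Leaf
import Cfsg.Agent.Helper50.CyclicSylow
import Cfsg.Agent.Helper31.BGTrans
import Cfsg.Agent.Helper23.RankTwo

set_option autoImplicit false
set_option linter.unusedSectionVars false
set_option linter.unusedVariables false
set_option linter.style.haveILetI false

/-!
# The dichotomy for `σ(M)'`-elements centralizing an element of `M_σ` (statement S1432; helper71)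

Paper proof: helper48.  Everything is proved from statement-shaped hypotheses:
* `UniquenessThm G` (S1403),
* `H1418` (S1418: `E ≤ N_G(A)`, `M ∩ N_G(A) = E`, `N_G(A) ≰ M`),
* `H1420d` (S1420, fourth clause),
* `H1430` (S1430, first clause and `M ∩ N_G(X) = K K*`),
* `H1431` (S1431, first clause).
-/

namespace Cfsg.Agent.Helper71.BG14

open Cfsg Cfsg.Agent.Helper29.BG10 Cfsg.Agent.Helper68.BG12 Cfsg.Agent.Helper71.BGHall
  Cfsg.Agent.Helper71.BG11 Cfsg.Agent.Helper23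
open scoped Pointwise

universe u

/-! ### the hypotheses, in the shape of the frozen statements -/

/-- S1418: `E ≤ N_G(A)`, `M ∩ N_G(A) = E`, `N_G(A) ≰ M` -/
def H1418 (G : Type u) [Group G] : Prop :=
  ∀ (M : Subgroup G), IsCoatom M → ∀ E : Subgroup G, Cfsg.IsComplIn E (Cfsg.sigmaCore M) M →
    ∀ (p : ℕ), p.Prime → p ∈ Cfsg.tau2 M → ∀ A : Subgroup G, A ≤ E →
      Cfsg.IsElementaryAbelian p A → Nat.card A = p ^ 2 →
        E ≤ Subgroup.normalizer (A : Set G) ∧ M ⊓ Subgroup.normalizer (A : Set G) = E ∧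
          ¬ Subgroup.normalizer (A : Set G) ≤ M

/-- S1420, the fourth clause -/
def H1420d (G : Type u) [Group G] : Prop :=
  ∀ (M : Subgroup G), IsCoatom M → ∀ E : Subgroup G, Cfsg.IsComplIn E (Cfsg.sigmaCore M) M →
    ∀ x ∈ M, x ≠ 1 → (∀ p : ℕ, p.Prime → p ∣ orderOf x → p ∈ Cfsg.tau2 M) →
      x ∈ Cfsg.sigmaHat M →
        Subgroup.centralizer ({x} : Set G) ≤ M ∧
          ∀ L : Subgroup G, IsCoatom L → Subgroup.centralizer ({x} : Set G) ≤ L → L = M

/-- S1430: `C_{M_σ}(k) = K*` for `k ∈ K#`, and `M ∩ N_G(X) = K K*` for `X ≤ K` of prime order -/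
def H1430 (G : Type u) [Group G] : Prop :=
  ∀ (M : Subgroup G), IsCoatom M → ∀ K : Subgroup G, Cfsg.IsPiHallOf (Cfsg.kappa M) K M →
    K ≠ ⊥ →
      (∀ k ∈ K, k ≠ 1 → Cfsg.sigmaCore M ⊓ Subgroup.centralizer ({k} : Set G) =
        Cfsg.sigmaCore M ⊓ Subgroup.centralizer (K : Set G)) ∧
      ∀ X : Subgroup G, X ≤ K → (Nat.card X).Prime →
        M ⊓ Subgroup.normalizer (X : Set G) =
          K ⊔ (Cfsg.sigmaCore M ⊓ Subgroup.centralizer (K : Set G))

/-- S1431, the first clause: `K* ∩ M^g = 1` for `g ∉ M` -/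
def H1431 (G : Type u) [Group G] : Prop :=
  ∀ (M : Subgroup G), IsCoatom M → ∀ K : Subgroup G, Cfsg.IsPiHallOf (Cfsg.kappa M) K M →
    K ≠ ⊥ → ∀ g : G, g ∉ M →
      (Cfsg.sigmaCore M ⊓ Subgroup.centralizer (K : Set G)) ⊓
        M.map (MulAut.conj g).toMonoidHom = ⊥

variable {G : Type u} [Group G] [Finite G]

/-! ### general lemmas -/

/-- an elementary abelian subgroup of order `q ^ 2` in `L` with `q ∉ σ(L)` forces `q ∈ τ₂(L)` -/
theorem mem_tau2_of_le (hG : Cfsg.IsMinSimpleOddOrder G) (hU : UniquenessThm G)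
    {L : Subgroup G} (hL : IsCoatom L) {q : ℕ} (hq : q.Prime) {B : Subgroup G} (hBL : B ≤ L)
    (hBe : Cfsg.IsElementaryAbelian q B) (hBc : Nat.card B = q ^ 2) (hqσ : q ∉ Cfsg.sigma L) :
    q ∈ Cfsg.tau2 L := by
  refine ⟨hq, hqσ, ?_, ?_⟩
  · by_contra h
    exact hqσ (alpha_subset_sigma hG hU hL ⟨hq, h⟩)
  · rw [not_pRankLE_subgroup_iff]
    refine ⟨B, hBL, hBe, ?_⟩
    rw [hBc]
    exact Nat.pow_lt_pow_right hq.one_lt (by norm_num)

theorem ne_bot_of_card_eq_sq {q : ℕ} (hq : q.Prime) {B : Subgroup G}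
    (hBc : Nat.card B = q ^ 2) : B ≠ ⊥ := by
  intro h
  rw [h, Subgroup.card_bot] at hBc
  have : 1 < q ^ 2 := Nat.one_lt_pow (by norm_num) hq.one_lt
  omega

theorem isPGroup_of_card_eq_sq {q : ℕ} [Fact q.Prime] {B : Subgroup G}
    (hBc : Nat.card B = q ^ 2) : IsPGroup q B :=
  IsPGroup.of_card hBc

/-! ### B-G Lemma 12.11(a)-type: `τ₂(M) ⊆ σ(L)` -/

/-- `p ∈ τ₂(M)`, `E` a complement of `M_σ` in `M`, `A ≤ E` elementary abelian of order `p ^ 2`,
`L` a maximal subgroup containing `N_G(A)`: then `p ∈ σ(L)`. -/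
theorem mem_sigma_of_normalizer_le (hG : Cfsg.IsMinSimpleOddOrder G) (hU : UniquenessThm G)
    (h1418 : H1418 G) {p : ℕ} (hp : p.Prime) {A : Subgroup G}
    (hAe : Cfsg.IsElementaryAbelian p A) (hAc : Nat.card A = p ^ 2)
    {L : Subgroup G} (hL : IsCoatom L) (hNL : Subgroup.normalizer (A : Set G) ≤ L) :
    p ∈ Cfsg.sigma L := by
  by_contra hpσ
  have hAL : A ≤ L := Subgroup.le_normalizer.trans hNL
  have hpτ : p ∈ Cfsg.tau2 L := mem_tau2_of_le hG hU hL hp hAL hAe hAc hpσ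
  obtain ⟨EL, hEL, hAEL⟩ := exists_isComplIn_sigmaCore_ge hG hU hL hAL (by
    intro q hq hd
    rw [hAc] at hd
    have : q = p := (Nat.prime_dvd_prime_iff_eq hq hp).1 (hq.dvd_of_dvd_pow hd)
    rw [this]; exact hpσ)
  exact (h1418 L hL EL hEL p hp hpτ A hAEL hAe hAc).2.2 hNL

/-- **B-G Lemma 12.11(a)**: `τ₂(M) ⊆ σ(L)` for `L` a maximal subgroup containing `N_G(A)`,
`A ≤ E` elementary abelian of order `p ^ 2`, `p ∈ τ₂(M)`. -/
theorem tau2_subset_sigma (hG : Cfsg.IsMinSimpleOddOrder G) (hU : UniquenessThm G)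
    (h1418 : H1418 G) {M : Subgroup G} (hM : IsCoatom M) {E : Subgroup G}
    (hE : Cfsg.IsComplIn E (Cfsg.sigmaCore M) M) {p : ℕ} (hp : p.Prime)
    (hpτ : p ∈ Cfsg.tau2 M) {A : Subgroup G} (hAE : A ≤ E)
    (hAe : Cfsg.IsElementaryAbelian p A) (hAc : Nat.card A = p ^ 2)
    {L : Subgroup G} (hL : IsCoatom L) (hNL : Subgroup.normalizer (A : Set G) ≤ L)
    {q : ℕ} (hqτ : q ∈ Cfsg.tau2 M) : q ∈ Cfsg.sigma L := by
  have hpL : p ∈ Cfsg.sigma L := mem_sigma_of_normalizer_le hG hU h1418 hp hAe hAc hL hNL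
  by_contra hqσ
  have hq : q.Prime := hqτ.1
  haveI : Fact q.Prime := ⟨hq⟩
  haveI : Fact p.Prime := ⟨hp⟩
  have hctx := eCtx_of hG hU hM hE
  -- `E ≤ L`
  have hEL : E ≤ L := (h1418 M hM E hE p hp hpτ A hAE hAe hAc).1.trans hNL
  -- an elementary abelian subgroup of order `q ^ 2` in `E`
  obtain ⟨B, hBE, hBe, hBc⟩ :=
    exists_elementaryAbelian_sq_le_compl hctx hqτ.2.1 hqτ.2.2.1 hqτ.2.2.2
  have hBL : B ≤ L := hBE.trans hEL
  have hqτL : q ∈ Cfsg.tau2 L := mem_tau2_of_le hG hU hL hq hBL hBe hBc hqσ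
  obtain ⟨EL, hELc, hBEL⟩ := exists_isComplIn_sigmaCore_ge hG hU hL hBL (by
    intro r hr hd
    rw [hBc] at hd
    have : r = q := (Nat.prime_dvd_prime_iff_eq hr hq).1 (hr.dvd_of_dvd_pow hd)
    rw [this]; exact hqσ)
  -- `L ∩ N_G(B) = E_L`
  have h1 : L ⊓ Subgroup.normalizer (B : Set G) = EL :=
    (h1418 L hL EL hELc q hq hqτL B hBEL hBe hBc).2.1
  -- `E ≤ N_G(B)`
  have h2 : E ≤ Subgroup.normalizer (B : Set G) :=
    (h1418 M hM E hE q hq hqτ B hBE hBe hBc).1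
  have h3 : A ≤ EL := by
    rw [← h1]
    exact hAE.trans (le_inf hEL h2)
  have h4 : A ≤ Cfsg.sigmaCore L :=
    le_sigmaCore_of_isPGroup hG hU hL hpL (isPGroup_of_card_eq_sq hAc) (hAE.trans hEL)
  have h5 : A ≤ EL ⊓ Cfsg.sigmaCore L := le_inf h3 h4
  rw [hELc.2.2.1] at h5
  exact ne_bot_of_card_eq_sq hp hAc (le_bot_iff.1 h5)

/-! ### the `κ`-case -/

theorem kappa_case (hG : Cfsg.IsMinSimpleOddOrder G) (hU : UniquenessThm G)
    (h1430 : H1430 G) (h1431 : H1431 G)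
    {M : Subgroup G} (hM : IsCoatom M) {x : G} (hx : x ∈ Cfsg.sigmaCore M) (hx1 : x ≠ 1)
    {x' : G} (hx'M : x' ∈ M) (hcomm : x * x' = x' * x) (hx'1 : x' ≠ 1)
    (hσ : ∀ p : ℕ, p.Prime → p ∣ orderOf x' → p ∉ Cfsg.sigma M)
    {r : ℕ} (hr : r.Prime) (hrd : r ∣ orderOf x') (hr1 : Cfsg.PRankLE r 1 ↥M) :
    (∀ p : ℕ, p.Prime → p ∣ orderOf x' → p ∈ Cfsg.kappa M) ∧
      Subgroup.centralizer ({x} : Set G) ≤ M := by
  classical
  haveI : Fact r.Prime := ⟨hr⟩
  haveI : Group.IsSolvable ↥M := hG.2.2.2 M hM.1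
  have hn0 : orderOf x' ≠ 0 := (orderOf_pos x').ne'
  set z : G := x' ^ (orderOf x' / r) with hz
  have hoz : orderOf z = r := orderOf_pow_orderOf_div hn0 hrd
  have hzM : z ∈ M := M.pow_mem hx'M _
  have hz1 : z ≠ 1 := by
    intro h
    rw [h, orderOf_one] at hoz
    exact hr.one_lt.ne hoz
  have hcx : Commute x x' := hcomm
  have hzx : Commute z x := (hcx.pow_right _).symm
  have hzx' : Commute z x' := (Commute.refl x').pow_left _
  have hrM : r ∣ Nat.card ↥M := by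
    rw [← hoz]; exact Subgroup.orderOf_dvd_natCard M hzM
  have hr2 : r ≠ 2 := by
    rintro rfl
    have hodd : Odd (Nat.card G) := hG.1
    have h2 : 2 ∣ Nat.card G := hrM.trans (Subgroup.card_subgroup_dvd_card M)
    exact (Nat.not_even_iff_odd.2 hodd) (even_iff_two_dvd.2 h2)
  have hrσ : r ∉ Cfsg.sigma M := hσ r hr hrd
  -- `r ∈ κ(M)`
  have hrκ : r ∈ Cfsg.kappa M := by
    refine ⟨hr, hrM, hrσ, fun P => ⟨?_, ?_⟩⟩
    · exact Cfsg.Agent.Helper50.sylow_isCyclic_of_pRankLE_one hr2 hr1 P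
    · set zM : ↥M := ⟨z, hzM⟩ with hzMdef
      have hozM : orderOf zM = r := by rw [hzMdef, Subgroup.orderOf_mk, hoz]
      have hpg : IsPGroup r (Subgroup.zpowers zM) := by
        apply IsPGroup.of_card (n := 1)
        rw [Nat.card_zpowers, hozM, pow_one]
      obtain ⟨Q, hQ⟩ := hpg.exists_le_sylow
      obtain ⟨g, hg⟩ := MulAction.exists_smul_eq ↥M Q P
      have h1 : zM ∈ (Q : Subgroup ↥M) := hQ (Subgroup.mem_zpowers zM)
      have h2 : MulAut.conj g • zM ∈ MulAut.conj g • (Q : Subgroup ↥M) :=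
        Subgroup.smul_mem_pointwise_smul _ _ _ h1
      rw [← Sylow.coe_subgroup_smul, hg] at h2
      refine ⟨MulAut.conj g • zM, h2, ?_, (g : G) * x * (g : G)⁻¹,
        conj_mem_sigmaCore g.2 hx, ?_, ?_⟩
      · intro h
        have e : MulAut.conj g • zM = g * zM * g⁻¹ := rfl
        rw [e] at h
        have h3 : zM = g⁻¹ * (g * zM * g⁻¹) * g := by group
        rw [h] at h3
        have h4 : zM = 1 := by rw [h3]; group
        exact hz1 (congrArg Subtype.val h4)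
      · intro h
        apply hx1
        have h3 : x = (g : G)⁻¹ * ((g : G) * x * (g : G)⁻¹) * (g : G) := by group
        rw [h3, h]; group
      · have h3 : ((MulAut.conj g • zM : ↥M) : G) = (g : G) * z * (g : G)⁻¹ := by
          simp [MulAut.smul_def, hzMdef]
        rw [h3]
        have h4 : z * x = x * z := hzx
        calc (g : G) * z * (g : G)⁻¹ * ((g : G) * x * (g : G)⁻¹)
            = (g : G) * (z * x) * (g : G)⁻¹ := by group
          _ = (g : G) * (x * z) * (g : G)⁻¹ := by rw [h4]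
          _ = (g : G) * x * (g : G)⁻¹ * ((g : G) * z * (g : G)⁻¹) := by group
  -- a Hall `κ(M)`-subgroup containing `z`
  have hcz : Nat.card (Subgroup.zpowers z) = r := by rw [Nat.card_zpowers, hoz]
  obtain ⟨K, hK, hzK'⟩ := exists_isPiHallOf_ge (Cfsg.kappa M) M
    (Y := Subgroup.zpowers z) (by rw [Subgroup.zpowers_le]; exact hzM) (by
      intro q hq hd
      rw [hcz] at hd
      rw [(Nat.prime_dvd_prime_iff_eq hq hr).1 hd]; exact hrκ)
  have hzK : z ∈ K := hzK' (Subgroup.mem_zpowers z)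
  have hK1 : K ≠ ⊥ := by
    intro h
    rw [h, Subgroup.mem_bot] at hzK
    exact hz1 hzK
  obtain ⟨h30a, h30b⟩ := h1430 M hM K hK hK1
  -- `x ∈ K*`
  have hxKs : x ∈ Cfsg.sigmaCore M ⊓ Subgroup.centralizer (K : Set G) := by
    rw [← h30a z hzK hz1]
    refine Subgroup.mem_inf.2 ⟨hx, ?_⟩
    rw [Subgroup.mem_centralizer_iff]
    intro h hh
    rw [Set.mem_singleton_iff.1 hh]
    exact hzx
  -- `x' ∈ K K*`
  have hX : M ⊓ Subgroup.normalizer ((Subgroup.zpowers z : Subgroup G) : Set G) =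
      K ⊔ (Cfsg.sigmaCore M ⊓ Subgroup.centralizer (K : Set G)) :=
    h30b (Subgroup.zpowers z) hzK' (by rw [hcz]; exact hr)
  have hx'N : x' ∈ Subgroup.normalizer ((Subgroup.zpowers z : Subgroup G) : Set G) := by
    apply Subgroup.centralizer_le_normalizer
    rw [Subgroup.mem_centralizer_iff]
    intro h hh
    obtain ⟨k, rfl⟩ := Subgroup.mem_zpowers_iff.1 hh
    exact (hzx'.zpow_left k)
  have hx'KK : x' ∈ K ⊔ (Cfsg.sigmaCore M ⊓ Subgroup.centralizer (K : Set G)) := by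
    rw [← hX]; exact ⟨hx'M, hx'N⟩
  have hKc : ∀ a ∈ K, ∀ b ∈ Cfsg.sigmaCore M ⊓ Subgroup.centralizer (K : Set G),
      a * b = b * a := by
    intro a ha b hb
    exact Subgroup.mem_centralizer_iff.1 hb.2 a ha
  obtain ⟨k, hk, s, hs, hks⟩ := exists_mul_of_mem_sup_of_commute hKc hx'KK
  -- the `σ(M)`-component is trivial
  have hs1 : s = 1 := by
    have hcks : Commute k s := hKc k hk s hs
    have hckx' : Commute k x' := by
      rw [hks]; exact (Commute.refl k).mul_right hcks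
    have hs_eq : s = k⁻¹ * x' := by rw [hks]; group
    set a := orderOf x' * Nat.card K with ha
    have hsa : s ^ a = 1 := by
      rw [hs_eq, (hckx'.inv_left).mul_pow]
      have e1 : x' ^ a = 1 := by
        rw [ha, pow_mul, pow_orderOf_eq_one, one_pow]
      have e2 : k ^ a = 1 := by
        have : orderOf k ∣ a :=
          (Subgroup.orderOf_dvd_natCard K hk).trans (Dvd.intro_left _ rfl)
        exact orderOf_dvd_iff_pow_eq_one.1 this
      rw [inv_pow, e1, e2, inv_one, one_mul]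
    have hos : orderOf s ∣ a := orderOf_dvd_of_pow_eq_one hsa
    rw [← orderOf_eq_one_iff]
    by_contra hne
    obtain ⟨q, hq, hqd⟩ := Nat.exists_prime_and_dvd hne
    have hqσ : q ∈ Cfsg.sigma M :=
      prime_mem_sigma_of_dvd_card_sigmaCore M hq
        (hqd.trans (Subgroup.orderOf_dvd_natCard _ hs.1))
    rcases (Nat.Prime.dvd_mul hq).1 (hqd.trans hos) with h | h
    · exact hσ q hq h hqσ
    · exact (hK.2.1 q hq h).2.2.1 hqσ
  have hx'K : x' ∈ K := by
    rw [hks, hs1, mul_one]; exact hk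
  refine ⟨fun p hp hpd => hK.2.1 p hp (hpd.trans (Subgroup.orderOf_dvd_natCard K hx'K)), ?_⟩
  intro c hc
  by_contra hcM
  have h31 := h1431 M hM K hK hK1 c hcM
  have hxc : x * c = c * x := Subgroup.mem_centralizer_iff.1 hc x rfl
  have hmem : x ∈ (Cfsg.sigmaCore M ⊓ Subgroup.centralizer (K : Set G)) ⊓
      M.map (MulAut.conj c).toMonoidHom := by
    refine ⟨hxKs, ⟨x, sigmaCore_le M hx, ?_⟩⟩
    show c * x * c⁻¹ = x
    rw [← hxc]; group
  rw [h31, Subgroup.mem_bot] at hmem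
  exact hx1 hmem

/-! ### the dichotomy -/

/-- **S1432** from statement-shaped hypotheses -/
theorem dichotomy (hG : Cfsg.IsMinSimpleOddOrder G) (hU : UniquenessThm G)
    (h1418 : H1418 G) (h1420 : H1420d G) (h1430 : H1430 G) (h1431 : H1431 G)
    (M : Subgroup G) (hM : IsCoatom M) (x : G) (hx : x ∈ Cfsg.sigmaCore M) (hx1 : x ≠ 1)
    (x' : G) (hx' : x' ∈ M ⊓ Subgroup.centralizer ({x} : Set G)) (hx'1 : x' ≠ 1)
    (hσ : ∀ p : ℕ, p.Prime → p ∣ orderOf x' → p ∉ Cfsg.sigma M) :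
    ((∀ p : ℕ, p.Prime → p ∣ orderOf x' → p ∈ Cfsg.kappa M) ∧
        Subgroup.centralizer ({x} : Set G) ≤ M) ∨
      ((∀ p : ℕ, p.Prime → p ∣ orderOf x' → p ∈ Cfsg.tau2 M) ∧
        (∃ L : Subgroup G, IsCoatom L ∧
          ∀ p : ℕ, p.Prime → p ∣ orderOf x' → p ∈ Cfsg.sigma L) ∧
        (Subgroup.centralizer ({x'} : Set G) ≤ M ∧
          ∀ L : Subgroup G, IsCoatom L → Subgroup.centralizer ({x'} : Set G) ≤ L → L = M)) := by
  have hx'M : x' ∈ M := hx'.1
  have hcomm : x * x' = x' * x := Subgroup.mem_centralizer_iff.1 hx'.2 x rfl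
  by_cases hcase : ∃ r : ℕ, r.Prime ∧ r ∣ orderOf x' ∧ Cfsg.PRankLE r 1 ↥M
  · obtain ⟨r, hr, hrd, hr1⟩ := hcase
    exact Or.inl (kappa_case hG hU h1430 h1431 hM hx hx1 hx'M hcomm hx'1 hσ hr hrd hr1)
  · right
    push Not at hcase
    have hall : ∀ p : ℕ, p.Prime → p ∣ orderOf x' → p ∈ Cfsg.tau2 M := by
      intro p hp hpd
      refine ⟨hp, hσ p hp hpd, ?_, hcase p hp hpd⟩
      by_contra h
      exact hσ p hp hpd (alpha_subset_sigma hG hU hM ⟨hp, h⟩)
    obtain ⟨E, hE⟩ := exists_isComplIn_sigmaCore hG hU hM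
    have hsh : x' ∈ Cfsg.sigmaHat M := ⟨hx'M, x, hx, hx1, hcomm.symm⟩
    refine ⟨hall, ?_, h1420 M hM E hE x' hx'M hx'1 hall hsh⟩
    -- the maximal subgroup `L`
    have hox : orderOf x' ≠ 1 := fun h => hx'1 (orderOf_eq_one_iff.1 h)
    obtain ⟨p, hp, hpd⟩ := Nat.exists_prime_and_dvd hox
    haveI : Fact p.Prime := ⟨hp⟩
    have hpτ := hall p hp hpd
    have hctx := eCtx_of hG hU hM hE
    obtain ⟨A, hAE, hAe, hAc⟩ :=
      exists_elementaryAbelian_sq_le_compl hctx hpτ.2.1 hpτ.2.2.1 hpτ.2.2.2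
    haveI : IsSimpleGroup G := hG.2.1
    have hN : Subgroup.normalizer (A : Set G) ≠ ⊤ :=
      Cfsg.Agent.Helper31.bgt_normalizer_ne_top_of_simple (ne_bot_of_card_eq_sq hp hAc)
        (isPGroup_ne_top hG (isPGroup_of_card_eq_sq hAc))
    obtain ⟨L, hL, hNL⟩ := (eq_top_or_exists_le_coatom _).resolve_left hN
    exact ⟨L, hL, fun q hq hqd =>
      tau2_subset_sigma hG hU h1418 hM hE hp hpτ hAE hAe hAc hL hNL (hall q hq hqd)⟩

end Cfsg.Agent.Helper71.BG14
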