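import Cfsg.Agent.Helper71.Fitting

set_option autoImplicit false

namespace Cfsg.Agent.Helper71

open Subgroup
open scoped commutatorElement

/-- A nontrivial finite solvable group has a nontrivial normal abelian subgroup. -/
theorem exists_normal_abelian_ne_bot {Q : Type*} [Group Q] [Nontrivial Q] [hQ : Group.IsSolvable Q] :
    ∃ A : Subgroup Q, A.Normal ∧ A ≠ ⊥ ∧ IsMulCommutative A := by
  classical
  obtain ⟨n, hn⟩ := hQ
  have hex : ∃ n, derivedSeries Q n = ⊥ := ⟨n, hn⟩
  have h0 : Nat.find hex ≠ 0 := by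
    intro h
    have := Nat.find_spec hex
    rw [h, derivedSeries_zero] at this
    exact top_ne_bot this
  obtain ⟨k, hk⟩ := Nat.exists_eq_succ_of_ne_zero h0
  refine ⟨derivedSeries Q k, derivedSeries_normal Q k, ?_, ?_⟩
  · exact Nat.find_min hex (by omega : k < Nat.find hex)
  · have h1 : derivedSeries Q (k + 1) = ⊥ := by
      have := Nat.find_spec hex
      rwa [hk] at this
    rw [derivedSeries_succ] at h1
    refine ⟨⟨fun a b => ?_⟩⟩
    have : ⁅(a : Q), (b : Q)⁆ ∈ (⊥ : Subgroup Q) := h1 ▸ Subgroup.commutator_mem_commutator a.2 b.2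
    rw [Subgroup.mem_bot, commutatorElement_eq_one_iff_mul_comm] at this
    exact Subtype.ext this

/-- A nontrivial finite solvable group has a nontrivial normal abelian `p`-subgroup. -/
theorem exists_normal_abelian_pGroup_ne_bot {Q : Type*} [Group Q] [Finite Q] [Nontrivial Q]
    [hQ : Group.IsSolvable Q] :
    ∃ (p : ℕ) (_ : p.Prime) (B : Subgroup Q), B.Normal ∧ B ≠ ⊥ ∧ IsMulCommutative B ∧ IsPGroup p B := by
  obtain ⟨A, hAn, hA, hAc⟩ := exists_normal_abelian_ne_bot (Q := Q)
  have hcard : Nat.card A ≠ 1 := by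
    intro h
    exact hA ((Subgroup.card_eq_one).mp h)
  obtain ⟨p, hp, hpd⟩ := Nat.exists_prime_and_dvd hcard
  have : Fact p.Prime := ⟨hp⟩
  obtain ⟨P⟩ : Nonempty (Sylow p A) := inferInstance
  have hPn : (P : Subgroup A).Normal := Subgroup.normal_of_isMulCommutative _
  have hPc : (P : Subgroup A).Characteristic := Sylow.characteristic_of_normal P hPn
  refine ⟨p, hp, (P : Subgroup A).map A.subtype, ConjAct.normal_of_characteristic_of_normal, ?_, ?_,
    P.isPGroup'.map _⟩
  · intro h
    rw [Subgroup.map_eq_bot_iff_of_injective _ A.subtype_injective] at h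
    exact Sylow.ne_bot_of_dvd_card P hpd h
  · refine ⟨⟨fun a b => ?_⟩⟩
    obtain ⟨a, ha⟩ := a
    obtain ⟨b, hb⟩ := b
    obtain ⟨a', _, rfl⟩ := ha
    obtain ⟨b', _, rfl⟩ := hb
    apply Subtype.ext
    have := congrArg Subtype.val (mul_comm' a' b')
    simpa using this

/-- A core-free maximal subgroup `K` of a finite solvable group whose index kills every element
is normal. -/
theorem coatom_normal_of_exponent {Q : Type*} [Group Q] [Finite Q] [Group.IsSolvable Q]
    (K : Subgroup Q) (hK : IsCoatom K) (hcore : K.normalCore = ⊥)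
    (hexp : ∀ x : Q, x ^ K.index = 1) : K.Normal := by
  have hnt : Nontrivial Q := by
    by_contra h
    rw [not_nontrivial_iff_subsingleton] at h
    exact hK.1 (Subsingleton.elim _ _)
  obtain ⟨p, hp, B, hBn, hB, hBc, hBp⟩ := exists_normal_abelian_pGroup_ne_bot (Q := Q)
  have : Fact p.Prime := ⟨hp⟩
  have hBK : ¬ B ≤ K := by
    intro h
    have : B ≤ K.normalCore := normal_le_normalCore.mpr h
    rw [hcore] at this
    exact hB (le_bot_iff.mp this)
  have hsup : K ⊔ B = ⊤ := hK.2 _ (left_lt_sup.mpr hBK)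
  have hinfn : (K ⊓ B).Normal := by
    refine ⟨fun x hx g => ?_⟩
    have hg : g ∈ K ⊔ B := hsup ▸ mem_top g
    rw [mem_sup_of_normal_right] at hg
    obtain ⟨k, hk, b, hb, rfl⟩ := hg
    have hbx : b * x * b⁻¹ = x := by
      have := congrArg Subtype.val (mul_comm' (⟨b, hb⟩ : B) ⟨x, hx.2⟩)
      simp only [Subgroup.coe_mul] at this
      rw [this]; group
    have : k * b * x * (k * b)⁻¹ = k * (b * x * b⁻¹) * k⁻¹ := by group
    rw [this, hbx]
    exact ⟨K.mul_mem (K.mul_mem hk hx.1) (K.inv_mem hk), hBn.conj_mem x hx.2 k⟩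
  have hinf : K ⊓ B = ⊥ := by
    have : K ⊓ B ≤ K.normalCore := normal_le_normalCore.mpr inf_le_left
    rw [hcore] at this
    exact le_bot_iff.mp this
  have hidx : K.index = Nat.card B := by
    rw [← relIndex_top_right, ← hsup, relIndex_sup_eq_relIndex K B, ← inf_relIndex_right, hinf,
      relIndex_bot_left]
  obtain ⟨j, hj⟩ := IsPGroup.iff_card.mp hBp
  have hQp : IsPGroup p Q := fun g => ⟨j, by rw [← hj, ← hidx]; exact hexp g⟩
  have hnil : Group.IsNilpotent Q := hQp.isNilpotent
  exact NormalizerCondition.normal_of_coatom K Group.normalizerCondition_of_isNilpotent hK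

end Cfsg.Agent.Helper71
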