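import Mathlib
import Cfsg.Agent.Helper71.PronormalExt

/-!
Overgroups of self-normalising Sylow subgroups are pronormal and self-normalising.
-/

set_option autoImplicit false

namespace Cfsg.Agent.Helper71

open Cfsg.Agent.S4269 (cj mem_cj cj_mul cj_of_mem cj_of_mem_normalizer)
open Subgroup

section
variable {G : Type*} [Group G] [Finite G] {p : ℕ} [Fact p.Prime]

theorem sylow_not_dvd_relIndex (P : Sylow p G) {J : Subgroup G} (hPJ : (P : Subgroup G) ≤ J) :
    ¬ p ∣ (P : Subgroup G).relIndex J := fun h =>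
  P.not_dvd_index (h.trans (relIndex_dvd_index_of_le hPJ))

/-- An overgroup of a self-normalising Sylow subgroup is self-normalising. -/
theorem normalizer_eq_of_sylow_le (P : Sylow p G)
    (hP : normalizer ((P : Subgroup G) : Set G) = P) {K : Subgroup G} (hPK : (P : Subgroup G) ≤ K) :
    normalizer (K : Set G) = K := by
  apply le_antisymm _ le_normalizer
  intro n hn
  have h1 : cj n (P : Subgroup G) ≤ K := by
    have := cj_mono hPK n
    rwa [cj_of_mem_normalizer hn] at this
  obtain ⟨k, hk, hke⟩ := exists_cj_eq_of_sylow_le hPK h1 P.2 (sylow_not_dvd_relIndex P hPK)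
    (card_cj n _)
  have h2 : cj (k⁻¹ * n) (P : Subgroup G) = P := by rw [cj_mul, ← hke, cj_inv_cj]
  have h3 : k⁻¹ * n ∈ (P : Subgroup G) := by
    have := mem_normalizer_of_cj_eq h2
    rwa [hP] at this
  have : n = k * (k⁻¹ * n) := by group
  rw [this]
  exact K.mul_mem hk (hPK h3)

/-- An overgroup of a self-normalising Sylow subgroup is pronormal. -/
theorem isPronormal_of_sylow_le (P : Sylow p G)
    (hP : normalizer ((P : Subgroup G) : Set G) = P) {K : Subgroup G} (hPK : (P : Subgroup G) ≤ K) :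
    Cfsg.IsPronormal K := by
  intro g
  have hPJ : (P : Subgroup G) ≤ K ⊔ cj g K := hPK.trans le_sup_left
  have h1 : cj g (P : Subgroup G) ≤ K ⊔ cj g K := (cj_mono hPK g).trans le_sup_right
  obtain ⟨y, hy, hye⟩ := exists_cj_eq_of_sylow_le hPJ h1 P.2 (sylow_not_dvd_relIndex P hPJ)
    (card_cj g _)
  have h2 : cj (y⁻¹ * g) (P : Subgroup G) = P := by rw [cj_mul, ← hye, cj_inv_cj]
  have h3 : y⁻¹ * g ∈ K := by
    have := mem_normalizer_of_cj_eq h2
    rw [hP] at this
    exact hPK this
  refine ⟨y, hy, ?_⟩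
  change cj g K = cj y K
  have h4 : cj (y⁻¹ * g) K = K := cj_of_mem h3
  rw [cj_mul] at h4
  have := congrArg (cj y) h4
  rwa [cj_cj_inv] at this

end

end Cfsg.Agent.Helper71
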