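import Cfsg.Agent.Helper34.Alperin

set_option autoImplicit false

namespace Cfsg.Agent.Helper71

open Cfsg.Agent.Helper34

variable {G : Type*} [Group G] [Finite G] {p : ℕ} [Fact p.Prime]

/-- Alperin's fusion theorem in "chain" form: partial products `y i`, with `y 0 = 1`, `y n = g`,
`y (i+1) = y i * x i`, each `x i` an Alperin step for `Q i`, and `A ^ (y i) ⊆ P ∩ Q i`. -/
theorem alperin_chain (P : Sylow p G) (A : Set G) (g : G) (hA : A ⊆ (P : Set G))
    (hAg : (fun a => g⁻¹ * a * g) '' A ⊆ (P : Set G)) :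
    ∃ (n : ℕ) (Q : Fin n → Sylow p G) (x : Fin n → G) (y : ℕ → G),
      y 0 = 1 ∧ y n = g ∧ (∀ i : Fin n, y (i.val + 1) = y i.val * x i) ∧
      (∀ i : Fin n, AStep P (Q i) (x i)) ∧
      ∀ i : Fin n, ∀ a ∈ A, (y i.val)⁻¹ * a * y i.val ∈ (P : Subgroup G) ⊓ (Q i : Subgroup G) := by
  obtain ⟨n, Q, x, hprod, hstep, h0, hi⟩ := alperin_fusion P A g hA hAg
  refine ⟨n, Q, x, fun i => ((List.ofFn x).take i).prod, ?_, ?_, ?_, hstep, ?_⟩
  · simp
  · have : (List.ofFn x).take n = List.ofFn x := by
      apply List.take_of_length_le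
      simp
    simp only [this, hprod]
  · intro i
    have hlen : i.val < (List.ofFn x).length := by simp
    change ((List.ofFn x).take (i.val + 1)).prod = ((List.ofFn x).take i.val).prod * x i
    rw [List.prod_take_succ _ _ hlen]
    simp
  · rintro ⟨i, hi'⟩ a ha
    cases i with
    | zero =>
      simp only [List.take_zero, List.prod_nil, inv_one, one_mul, mul_one]
      exact h0 hi' ha
    | succ j =>
      have := hi ⟨j, by omega⟩ hi'
      exact this ⟨a, ha, rfl⟩

end Cfsg.Agent.Helper71
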