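import Mathlib

/-!
# Embedding into `Perm (Fin 4)` (helper71)

* `exists_injective_perm_fin_four`: a faithful action on at most four points gives an injective
  homomorphism into `Perm (Fin 4)`.
* `exists_injective_perm_of_normal_four`: a finite group `X`, not a `2`-group, with a normal
  self-centralizing subgroup of order `4` embeds into `Perm (Fin 4)` (it acts faithfully on its four
  Sylow `3`-subgroups).
-/

set_option autoImplicit false

namespace Cfsg.Agent.Helper71

open Subgroup

/-- A faithful action on at most four points gives an embedding into `Perm (Fin 4)`. -/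
theorem exists_injective_perm_fin_four {X Ω : Type*} [Group X] [MulAction X Ω] [Finite Ω]
    (hcard : Nat.card Ω ≤ 4) (hf : FaithfulSMul X Ω) :
    ∃ f : X →* Equiv.Perm (Fin 4), Function.Injective f := by
  classical
  let e : Ω ≃ Fin (Nat.card Ω) := Finite.equivFin Ω
  let ι : Ω ↪ Fin 4 := e.toEmbedding.trans (Fin.castLEEmb hcard)
  refine ⟨(Equiv.Perm.viaEmbeddingHom ι).comp (MulAction.toPermHom X Ω), ?_⟩
  exact (Equiv.Perm.viaEmbeddingHom_injective ι).comp MulAction.toPerm_injective

section NormalFour

variable {X : Type*} [Group X]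

/-- an element of order dividing 3 which centralizes a nontrivial element of a normal subgroup `V`
of order 4 with `r ∉ C(V)`: impossible. -/
theorem s4e_centralizes_of_fixes [Finite X] (V : Subgroup X) [hVn : V.Normal]
    (hV : Nat.card V = 4) {r : X} (hr3 : r ^ 3 = 1) {w : X} (hwV : w ∈ V) (hw1 : w ≠ 1)
    (hwr : r * w = w * r) : r ∈ centralizer (V : Set X) := by
  classical
  -- `F` = centralizer of `r` in `V`
  set F : Subgroup V := (centralizer ({r} : Set X)).subgroupOf V with hF
  have hFmem : ∀ v : V, v ∈ F ↔ r * (v : X) = (v : X) * r := by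
    intro v
    rw [hF, mem_subgroupOf, mem_centralizer_iff]
    constructor
    · intro h; exact h r rfl
    · intro h g hg
      rw [Set.mem_singleton_iff] at hg; rw [hg]; exact h
  have hwF : (⟨w, hwV⟩ : V) ∈ F := (hFmem _).mpr hwr
  have hFdvd : Nat.card F ∣ 4 := hV ▸ card_subgroup_dvd_card F
  have hFne1 : Nat.card F ≠ 1 := by
    intro h1
    have hbot : F = ⊥ := card_eq_one.mp h1
    rw [hbot, mem_bot] at hwF
    exact hw1 (congrArg Subtype.val hwF)
  have hFcases : Nat.card F = 2 ∨ Nat.card F = 4 := by
    have hle : Nat.card F ≤ 4 := Nat.le_of_dvd (by norm_num) hFdvd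
    have hpos : 0 < Nat.card F := Nat.card_pos
    interval_cases h : Nat.card F
    · exact absurd rfl hFne1
    · left; rfl
    · exfalso; revert hFdvd; decide
    · right; rfl
  have hFtop : F = ⊤ := by
    rcases hFcases with h2 | h4
    · -- index 2: derive that everything is fixed
      have hidx : F.index = 2 := by
        have := F.card_mul_index
        rw [h2, hV] at this
        omega
      rw [eq_top_iff]
      intro v _
      by_contra hv
      -- `v ∉ F`; its conjugate is also outside `F`
      set v' : V := ⟨r * (v : X) * r⁻¹, hVn.conj_mem v v.2 r⟩ with hv'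
      have hv'F : v' ∉ F := by
        intro h
        apply hv
        rw [hFmem] at h ⊢
        -- r * (r v r⁻¹) = (r v r⁻¹) * r  ⇒  r v = v r
        have h1 : r * (r * (v : X) * r⁻¹) = (r * (v : X) * r⁻¹) * r := h
        have h2 : r * (v : X) * r⁻¹ = (v : X) := by
          have : r⁻¹ * (r * (r * (v : X) * r⁻¹)) * r = r⁻¹ * ((r * (v : X) * r⁻¹) * r) * r := by
            rw [h1]
          have e1 : r⁻¹ * (r * (r * (v : X) * r⁻¹)) * r = r * (v : X) := by group
          have e2 : r⁻¹ * ((r * (v : X) * r⁻¹) * r) * r = (v : X) * r := by group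
          rw [e1, e2] at this
          rw [this]; group
        calc r * (v : X) = (r * (v : X) * r⁻¹) * r := by group
          _ = (v : X) * r := by rw [h2]
      -- so `v⁻¹ * v' ∈ F`
      have hprod : v⁻¹ * v' ∈ F := by
        rw [mul_mem_iff_of_index_two hidx]
        constructor
        · intro h; exact absurd (F.inv_mem_iff.mp h) hv
        · intro h; exact absurd h hv'F
      set f : V := v⁻¹ * v' with hf
      have hfr : r * (f : X) = (f : X) * r := (hFmem f).mp hprod
      have hf2 : (f : X) * (f : X) = 1 := by
        have hfo : f ^ 2 = 1 := by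
          have h1 : (⟨f, hprod⟩ : F) ^ Nat.card F = 1 := pow_card_eq_one'
          rw [h2] at h1
          have := congrArg Subtype.val h1
          simpa using this
        have := congrArg Subtype.val hfo
        simpa [pow_two] using this
      have hconj : r * (v : X) * r⁻¹ = (v : X) * (f : X) := by
        have : (v' : X) = (v : X) * (f : X) := by
          rw [hf]; simp
        rw [← this]
      -- r² v r⁻² = v
      have hr2 : r * r * (v : X) * (r * r)⁻¹ = (v : X) := by
        calc r * r * (v : X) * (r * r)⁻¹ = r * (r * (v : X) * r⁻¹) * r⁻¹ := by group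
          _ = r * ((v : X) * (f : X)) * r⁻¹ := by rw [hconj]
          _ = (r * (v : X) * r⁻¹) * (r * (f : X) * r⁻¹) := by group
          _ = ((v : X) * (f : X)) * (f : X) := by
              rw [hconj, hfr]; group
          _ = (v : X) := by rw [mul_assoc, hf2, mul_one]
      -- r = (r r)² since r³ = 1
      have hr4 : r = (r * r) * (r * r) := by
        have : (r * r) * (r * r) = r ^ 3 * r := by
          rw [pow_succ, pow_two]; simp only [mul_assoc]
        rw [this, hr3, one_mul]
      have hcomm2 : (r * r) * (v : X) = (v : X) * (r * r) := by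
        calc (r * r) * (v : X) = (r * r * (v : X) * (r * r)⁻¹) * (r * r) := by group
          _ = (v : X) * (r * r) := by rw [hr2]
      apply hv
      rw [hFmem]
      calc r * (v : X) = (r * r) * ((r * r) * (v : X)) := by rw [← mul_assoc, ← hr4]
        _ = (r * r) * ((v : X) * (r * r)) := by rw [hcomm2]
        _ = ((r * r) * (v : X)) * (r * r) := by group
        _ = ((v : X) * (r * r)) * (r * r) := by rw [hcomm2]
        _ = (v : X) * r := by rw [mul_assoc, ← hr4]
    · exact F.eq_top_of_card_eq (h4.trans hV.symm)
  rw [mem_centralizer_iff]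
  intro v hv
  have : (⟨v, hv⟩ : V) ∈ F := by rw [hFtop]; trivial
  exact ((hFmem _).mp this).symm

/-- a group of order 4 is commutative (elementwise form). -/
theorem s4e_comm (V : Subgroup X) (hV : Nat.card V = 4) {a b : X} (ha : a ∈ V) (hb : b ∈ V) :
    a * b = b * a := by
  have : Fact (Nat.Prime 2) := ⟨Nat.prime_two⟩
  have hc : IsMulCommutative V :=
    IsPGroup.isMulCommutative_of_card_eq_prime_sq (p := 2) (by rw [hV]; norm_num)
  have := hc.is_comm.comm (⟨a, ha⟩ : V) ⟨b, hb⟩
  exact congrArg Subtype.val this

/-- the non-identity elements of `V`. -/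
abbrev S4eNonOne (V : Subgroup X) : Type _ := {v : V // v ≠ 1}

/-- conjugation action on the non-identity elements of a normal subgroup. -/
@[reducible] def s4eAct (V : Subgroup X) [hVn : V.Normal] : MulAction X (S4eNonOne V) :=
  { smul := fun g ω => ⟨⟨g * (ω.1 : X) * g⁻¹, hVn.conj_mem _ ω.1.2 g⟩, by
      intro h
      apply ω.2
      have h1 : g * (ω.1 : X) * g⁻¹ = 1 := congrArg Subtype.val h
      apply Subtype.ext
      have : (ω.1 : X) = g⁻¹ * (g * (ω.1 : X) * g⁻¹) * g := by group
      rw [this, h1]; simp⟩
    one_smul := fun ω => by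
      apply Subtype.ext; apply Subtype.ext
      show (1 : X) * (ω.1 : X) * (1 : X)⁻¹ = (ω.1 : X)
      simp
    mul_smul := fun g h ω => by
      apply Subtype.ext; apply Subtype.ext
      show (g * h) * (ω.1 : X) * (g * h)⁻¹ = g * (h * (ω.1 : X) * h⁻¹) * g⁻¹
      group }

/-- the index of a normal self-centralizing subgroup of order 4 divides 6. -/
theorem s4e_index_dvd_six [Finite X] (V : Subgroup X) [hVn : V.Normal]
    (hV : Nat.card V = 4) (hC : centralizer (V : Set X) ≤ V) : V.index ∣ 6 := by
  classical
  letI act : MulAction X (S4eNonOne V) := s4eAct V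
  letI : Fintype V := Fintype.ofFinite V
  letI : Fintype (S4eNonOne V) := Fintype.ofFinite _
  have hsmul : ∀ (g : X) (ω : S4eNonOne V),
      (((g • ω : S4eNonOne V).1 : V) : X) = g * (ω.1 : X) * g⁻¹ := fun _ _ => rfl
  let ρ : X →* Equiv.Perm (S4eNonOne V) := MulAction.toPermHom X (S4eNonOne V)
  have hker : ρ.ker = V := by
    apply le_antisymm
    · intro g hg
      apply hC
      rw [mem_centralizer_iff]
      intro v hv
      by_cases hv1 : v = 1
      · rw [hv1, one_mul, mul_one]
      · have hω : (⟨⟨v, hv⟩, fun h => hv1 (congrArg Subtype.val h)⟩ : S4eNonOne V) =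
            g • (⟨⟨v, hv⟩, fun h => hv1 (congrArg Subtype.val h)⟩ : S4eNonOne V) := by
          have := MonoidHom.mem_ker.mp hg
          have h2 := congrArg (fun σ : Equiv.Perm (S4eNonOne V) =>
            σ (⟨⟨v, hv⟩, fun h => hv1 (congrArg Subtype.val h)⟩ : S4eNonOne V)) this
          simp only [Equiv.Perm.coe_one, id_eq] at h2
          exact h2.symm
        have h3 := congrArg (fun ω : S4eNonOne V => ((ω.1 : V) : X)) hω
        simp only [hsmul] at h3
        -- v = g v g⁻¹
        calc v * g = (g * v * g⁻¹) * g := by rw [← h3]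
          _ = g * v := by group
    · intro g hg
      rw [MonoidHom.mem_ker]
      ext ω
      show (((g • ω : S4eNonOne V).1 : V) : X) = ((ω.1 : V) : X)
      rw [hsmul, s4e_comm V hV hg ω.1.2]
      group
  have hΩ : Fintype.card (S4eNonOne V) = 3 := by
    have h1 := Fintype.card_subtype_compl (fun v : V => v = 1)
    rw [Fintype.card_subtype_eq, ← Nat.card_eq_fintype_card (α := V), hV] at h1
    have h2 : Fintype.card (S4eNonOne V) = Fintype.card {x : V // ¬ x = 1} :=
      Fintype.card_congr (Equiv.refl _)
    rw [h2, h1]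
  have hperm : Nat.card (Equiv.Perm (S4eNonOne V)) = 6 := by
    rw [Nat.card_eq_fintype_card, Fintype.card_perm, hΩ]
    rfl
  have h1 : V.index = Nat.card ρ.range := by
    have h := Subgroup.index_ker ρ
    rw [hker] at h
    exact h
  rw [h1, ← hperm]
  exact card_subgroup_dvd_card ρ.range

/-- **Embedding in `S₄`.** A finite group, not a `2`-group, with a normal self-centralizing subgroup
of order 4 embeds in `Perm (Fin 4)`. -/
theorem exists_injective_perm_of_normal_four [Finite X] (V : Subgroup X) [hVn : V.Normal]
    (hV : Nat.card V = 4) (hC : centralizer (V : Set X) ≤ V) (h2 : ¬ IsPGroup 2 X) :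
    ∃ f : X →* Equiv.Perm (Fin 4), Function.Injective f := by
  classical
  haveI : Fact (Nat.Prime 2) := ⟨Nat.prime_two⟩
  haveI : Fact (Nat.Prime 3) := ⟨Nat.prime_three⟩
  -- order of `X`
  have hidx := s4e_index_dvd_six V hV hC
  have hcardX : Nat.card X = 4 * V.index := by rw [← hV]; exact (V.card_mul_index).symm
  have hidx36 : V.index = 3 ∨ V.index = 6 := by
    have hle : V.index ≤ 6 := Nat.le_of_dvd (by norm_num) hidx
    have hpos : 0 < V.index := Nat.pos_of_ne_zero V.index_ne_zero_of_finite
    interval_cases h : V.index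
    · exfalso; apply h2
      exact IsPGroup.of_card (n := 2) (by rw [hcardX]; norm_num)
    · exfalso; apply h2
      exact IsPGroup.of_card (n := 3) (by rw [hcardX]; norm_num)
    · left; rfl
    · exfalso; revert hidx; decide
    · exfalso; revert hidx; decide
    · right; rfl
  -- a Sylow 3-subgroup has order 3
  obtain ⟨P⟩ : Nonempty (Sylow 3 X) := inferInstance
  have hPcard : Nat.card P = 3 := by
    obtain ⟨k, hk⟩ := IsPGroup.iff_card.mp P.isPGroup'
    have hmul : Nat.card P * (P : Subgroup X).index = Nat.card X := (P : Subgroup X).card_mul_index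
    have hnd : ¬ 3 ∣ (P : Subgroup X).index := P.not_dvd_index
    have hk2 : k ≤ 2 := by
      by_contra hlt
      push Not at hlt
      have h27 : 27 ≤ Nat.card P := by
        rw [hk]
        calc 27 = 3 ^ 3 := by norm_num
          _ ≤ 3 ^ k := Nat.pow_le_pow_right (by norm_num) hlt
      have hle : Nat.card P ≤ Nat.card X := Nat.le_of_dvd Nat.card_pos ⟨_, hmul.symm⟩
      rcases hidx36 with h | h <;> rw [hcardX, h] at hle <;> omega
    rw [hk]
    rw [hk] at hmul
    interval_cases k
    · exfalso
      apply hnd
      rw [pow_zero, one_mul] at hmul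
      rw [hmul, hcardX]
      rcases hidx36 with h | h <;> rw [h] <;> decide
    · rfl
    · exfalso
      have : 9 ∣ Nat.card X := ⟨(P : Subgroup X).index, by rw [← hmul]; norm_num⟩
      rw [hcardX] at this
      rcases hidx36 with h | h <;> rw [h] at this <;> revert this <;> decide
  have hPV : (P : Subgroup X) ⊓ V = ⊥ :=
    (Subgroup.disjoint_of_coprime_natCard (by rw [hPcard, hV]; decide)).eq_bot
  have hcen : centralizer (V : Set X) = V := by
    apply le_antisymm hC
    intro v hv
    rw [mem_centralizer_iff]
    intro w hw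
    exact s4e_comm V hV hw hv
  -- `P` is not contained in `V`
  have hPnotV : ¬ (P : Subgroup X) ≤ V := by
    intro hle
    have : Nat.card P ∣ Nat.card V := card_dvd_of_le hle
    rw [hPcard, hV] at this
    revert this; decide
  -- number of Sylow 3-subgroups
  have hn3 : Nat.card (Sylow 3 X) = 4 := by
    have hmod := card_sylow_modEq_one 3 X
    have hdvd := P.card_dvd_index
    have hPidx : (P : Subgroup X).index = 4 ∨ (P : Subgroup X).index = 8 := by
      have hmul : Nat.card P * (P : Subgroup X).index = Nat.card X :=
        (P : Subgroup X).card_mul_index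
      rw [hPcard, hcardX] at hmul
      rcases hidx36 with h | h <;> rw [h] at hmul <;> omega
    have hne1 : Nat.card (Sylow 3 X) ≠ 1 := by
      intro h1
      haveI : Subsingleton (Sylow 3 X) := (Nat.card_eq_one_iff_unique.mp h1).1
      have hPn : (P : Subgroup X).Normal := P.normal_of_subsingleton
      have hcomm := commute_of_normal_of_disjoint _ _ hPn hVn (disjoint_iff.mpr hPV)
      apply hPnotV
      rw [← hcen]
      intro x hx
      rw [mem_centralizer_iff]
      intro v hv
      exact (hcomm x v hx hv).eq.symm
    have hpos : 0 < Nat.card (Sylow 3 X) := Nat.card_pos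
    have hle : Nat.card (Sylow 3 X) ≤ 8 := by
      rcases hPidx with h | h <;> rw [h] at hdvd <;> exact Nat.le_of_dvd (by norm_num) hdvd |>.trans (by norm_num)
    have hmod' : Nat.card (Sylow 3 X) % 3 = 1 := hmod
    rcases hPidx with h | h <;> rw [h] at hdvd <;> interval_cases hc : Nat.card (Sylow 3 X) <;>
      first | rfl | omega | (exfalso; revert hdvd; decide)
  -- faithfulness
  have hfaith : FaithfulSMul X (Sylow 3 X) := by
    set K : Subgroup X := (MulAction.toPermHom X (Sylow 3 X)).ker with hK
    have hKn : K.Normal := MonoidHom.normal_ker _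
    have hKmem : ∀ g : X, g ∈ K → ∀ Q : Sylow 3 X, g ∈ normalizer ((Q : Subgroup X) : Set X) := by
      intro g hg Q
      have := MonoidHom.mem_ker.mp hg
      have h2 := congrArg (fun σ : Equiv.Perm (Sylow 3 X) => σ Q) this
      have h2' : g • Q = Q := by simpa using h2
      exact Sylow.smul_eq_iff_mem_normalizer.mp h2'
    have hKV : K ⊓ V = ⊥ := by
      rw [eq_bot_iff]
      intro w hw
      obtain ⟨hwK, hwV⟩ := hw
      rw [mem_bot]
      by_contra hw1
      -- `w` commutes with every `r ∈ P`
      have hwP : ∀ r ∈ (P : Subgroup X), r * w = w * r := by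
        intro r hr
        have hnorm := hKmem w hwK P
        have h1 : w * r * w⁻¹ ∈ (P : Subgroup X) := (mem_normalizer_iff.mp hnorm r).mp hr
        have h2 : w * r * w⁻¹ * r⁻¹ ∈ (P : Subgroup X) :=
          (P : Subgroup X).mul_mem h1 ((P : Subgroup X).inv_mem hr)
        have h3 : w * r * w⁻¹ * r⁻¹ ∈ V := by
          have : w * r * w⁻¹ * r⁻¹ = w * (r * w⁻¹ * r⁻¹) := by group
          rw [this]
          exact V.mul_mem hwV (hVn.conj_mem _ (V.inv_mem hwV) r)
        have h4 : w * r * w⁻¹ * r⁻¹ ∈ (P : Subgroup X) ⊓ V := ⟨h2, h3⟩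
        rw [hPV, mem_bot] at h4
        have : w * r = r * w := by
          calc w * r = (w * r * w⁻¹ * r⁻¹) * (r * w) := by group
            _ = r * w := by rw [h4, one_mul]
        exact this.symm
      -- pick `r ∈ P` nontrivial
      have hPnt : Nontrivial P := by
        rw [← Finite.one_lt_card_iff_nontrivial, hPcard]; norm_num
      obtain ⟨r, hr1⟩ := exists_ne (1 : P)
      have hr3 : (r : X) ^ 3 = 1 := by
        have : r ^ Nat.card P = 1 := pow_card_eq_one'
        rw [hPcard] at this
        have := congrArg Subtype.val this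
        simpa using this
      have hrc := s4e_centralizes_of_fixes V hV hr3 hwV hw1 (hwP r r.2)
      rw [hcen] at hrc
      have : (r : X) ∈ (P : Subgroup X) ⊓ V := ⟨r.2, hrc⟩
      rw [hPV, mem_bot] at this
      exact hr1 (Subtype.ext this)
    have hKle : K ≤ V := by
      rw [← hcen]
      have hcomm := commute_of_normal_of_disjoint _ _ hKn hVn (disjoint_iff.mpr hKV)
      intro x hx
      rw [mem_centralizer_iff]
      intro v hv
      exact (hcomm x v hx hv).eq.symm
    have hKbot : K = ⊥ := by
      rw [← hKV]
      exact (inf_eq_left.mpr hKle).symm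
    constructor
    intro g₁ g₂ h
    have hmem : g₁⁻¹ * g₂ ∈ K := by
      rw [hK, MonoidHom.mem_ker]
      refine Equiv.ext fun Q => ?_
      show (g₁⁻¹ * g₂) • Q = Q
      rw [mul_smul, ← h Q, inv_smul_smul]
    rw [hKbot, mem_bot] at hmem
    exact (inv_mul_eq_one.mp hmem)
  exact exists_injective_perm_fin_four (le_of_eq hn3) hfaith

end NormalFour

end Cfsg.Agent.Helper71
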