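import Mathlib
import Cfsg.Agent.Helper64.GrossMidDefs
import Cfsg.Agent.S0027

set_option autoImplicit false

/-!
# Gross's theorem (S3795), piece (PZ) of helper64's plan: the subgroups
`P = ⁅Q, zpowers τ⁆` and `Z = ⁅P, P⁆` of a minimal configuration (helper71)
-/

namespace Cfsg.Agent.Helper71.Gross

open Subgroup Cfsg.Agent.Helper64.Gross
open scoped commutatorElement

universe uΓ uW

theorem mem_zpowers_invol {G : Type*} [Group G] {τ t : G} (hτ : τ * τ = 1)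
    (ht : t ∈ zpowers τ) : t = 1 ∨ t = τ := by
  obtain ⟨k, rfl⟩ := mem_zpowers_iff.mp ht
  rcases Int.even_or_odd' k with ⟨m, rfl | rfl⟩
  · left; rw [zpow_mul, zpow_two, hτ, one_zpow]
  · right; rw [zpow_add, zpow_mul, zpow_two, hτ, one_zpow, one_mul, zpow_one]

theorem comm_self_le {G : Type*} [Group G] (P : Subgroup G) : ⁅P, P⁆ ≤ P := by
  rw [commutator_le]
  intro a ha b hb
  exact P.mul_mem (P.mul_mem (P.mul_mem ha hb) (P.inv_mem ha)) (P.inv_mem hb)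

theorem normalizer_commutator_mem {G : Type*} [Group G] (H K : Subgroup G) (g : G)
    (hH : g ∈ normalizer (H : Set G)) (hK : g ∈ normalizer (K : Set G)) :
    g ∈ normalizer ((⁅H, K⁆ : Subgroup G) : Set G) := by
  have key : ∀ g : G, g ∈ normalizer (H : Set G) → g ∈ normalizer (K : Set G) →
      ∀ c ∈ ⁅H, K⁆, g * c * g⁻¹ ∈ ⁅H, K⁆ := by
    intro g hH hK c hc
    have h1 : ⁅H, K⁆ ≤ (⁅H, K⁆).comap (MulAut.conj g).toMonoidHom := by
      rw [commutator_le]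
      intro a ha b hb
      show g * ⁅a, b⁆ * g⁻¹ ∈ ⁅H, K⁆
      have h2 : g * ⁅a, b⁆ * g⁻¹ = ⁅g * a * g⁻¹, g * b * g⁻¹⁆ := by
        simp only [commutatorElement_def]; group
      rw [h2]
      exact commutator_mem_commutator ((mem_normalizer_iff.mp hH a).mp ha)
        ((mem_normalizer_iff.mp hK b).mp hb)
    exact h1 hc
  rw [mem_normalizer_iff]
  intro c
  constructor
  · exact key g hH hK c
  · intro hc
    have := key g⁻¹ (inv_mem hH) (inv_mem hK) _ hc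
    have e : g⁻¹ * (g * c * g⁻¹) * g⁻¹⁻¹ = c := by group
    rwa [e] at this

/-- (PZ) -/
theorem pz_data (hAC : AbelianCentStmt.{uΓ, uW}) {Γ : Type uΓ} [Group Γ] [Finite Γ] {W : Type uW}
    [CommGroup W] [Finite W] {φ : Γ →* MulAut W} {Q S : Subgroup Γ} {x : Γ} {q s r n : ℕ}
    (c : MinCfg φ Q S x q s r n) (h : HHData Q S x q n) (hA : AData Q S x n) :
    PZData Q S x n := by
  classical
  have hτ2 : x ^ (2 ^ n) * x ^ (2 ^ n) = 1 := by
    rw [← pow_add, ← two_mul, ← pow_succ']; exact c.hx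
  have htauD := h.tauD
  have htauQ := h.tauQ
  have hcommTau := hA.commTau
  have hτQ' : x ^ (2 ^ n) ∈ normalizer (Q : Set Γ) := pow_mem c.hxQ _
  have hxτ : x * x ^ (2 ^ n) = x ^ (2 ^ n) * x := by
    rw [← pow_succ', ← pow_succ]
  suffices hmain : ∀ τ : Γ, τ = x ^ (2 ^ n) → τ * τ = 1 → τ ∈ normalizer (Q : Set Γ) →
      x * τ = τ * x →
      (∀ d ∈ ⁅Q, Q⁆, τ * d = d * τ) → (¬ ∀ g ∈ Q, τ * g = g * τ) →
      (∀ a ∈ ⁅S, S⁆, ∀ g ∈ Q, ⁅a, τ⁆ * g = g * ⁅a, τ⁆) →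
      (⁅Q, zpowers τ⁆ ≤ Q ∧
        x ∈ normalizer ((⁅Q, zpowers τ⁆ : Subgroup Γ) : Set Γ) ∧
        ⁅S, S⁆ ≤ normalizer ((⁅Q, zpowers τ⁆ : Subgroup Γ) : Set Γ) ∧
        ⁅⁅Q, zpowers τ⁆, ⁅Q, zpowers τ⁆⁆ ≠ ⊥ ∧
        (∀ a ∈ ⁅Q, zpowers τ⁆, a * (τ * a * τ⁻¹) ∈ ⁅⁅Q, zpowers τ⁆, ⁅Q, zpowers τ⁆⁆) ∧
        (∀ g ∈ ⁅Q, zpowers τ⁆, g ∈ ⁅Q, Q⁆ → g ∈ ⁅⁅Q, zpowers τ⁆, ⁅Q, zpowers τ⁆⁆)) by
    obtain ⟨h1, h2, h3, h4, h5, h6⟩ := hmain _ rfl hτ2 hτQ' hxτ htauD htauQ hcommTau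
    refine ⟨h1, h2, h3, h4, h5, h6, ?_⟩
    have : Fact (Nat.Prime 2) := ⟨Nat.prime_two⟩
    apply orderOf_eq_prime_pow
    · intro h1
      apply htauQ
      intro g _
      rw [h1, one_mul, mul_one]
    · exact c.hx
  intro τ hτdef hτ2 hτQ hxτ htauD htauQ hcommTau
  have hτinv : τ⁻¹ = τ := inv_eq_of_mul_eq_one_left hτ2
  have hzQ : zpowers τ ≤ normalizer (Q : Set Γ) := (zpowers_le).mpr hτQ
  have hPQ : ⁅Q, zpowers τ⁆ ≤ Q := le_normalizer_iff_commutator_le_left.mp hzQ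
  have hxz : x ∈ normalizer ((zpowers τ : Subgroup Γ) : Set Γ) := by
    apply mem_normalizer_fintype
    intro t ht
    obtain ⟨k, rfl⟩ := ht
    have hc : Commute x τ := hxτ
    have e : x * τ ^ k * x⁻¹ = τ ^ k := by
      rw [(hc.zpow_right k).eq]; group
    rw [e]; exact ⟨k, rfl⟩
  have hxP : x ∈ normalizer ((⁅Q, zpowers τ⁆ : Subgroup Γ) : Set Γ) :=
    normalizer_commutator_mem Q (zpowers τ) x c.hxQ hxz
  have hτP : τ ∈ normalizer ((⁅Q, zpowers τ⁆ : Subgroup Γ) : Set Γ) := by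
    have h1 := pow_mem hxP (2 ^ n)
    rwa [← hτdef] at h1
  have hAP : ⁅S, S⁆ ≤ normalizer ((⁅Q, zpowers τ⁆ : Subgroup Γ) : Set Γ) := by
    intro a ha
    apply mem_normalizer_fintype
    intro p hp
    have h1 : ⁅Q, zpowers τ⁆ ≤ (⁅Q, zpowers τ⁆).comap (MulAut.conj a).toMonoidHom := by
      rw [commutator_le]
      intro g hg t ht
      show a * ⁅g, t⁆ * a⁻¹ ∈ ⁅Q, zpowers τ⁆
      rcases mem_zpowers_invol hτ2 ht with rfl | rfl
      · have e : a * ⁅g, (1 : Γ)⁆ * a⁻¹ = 1 := by simp [commutatorElement_def]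
        rw [e]; exact one_mem _
      · have haS : a ∈ S := comm_self_le S ha
        have hg' : a * g * a⁻¹ ∈ Q := (mem_normalizer_iff.mp (c.hSQ haS) g).mp hg
        have hτg : t * (a * g * a⁻¹)⁻¹ * t⁻¹ ∈ Q :=
          (mem_normalizer_iff.mp hτQ _).mp (inv_mem hg')
        have hc := hcommTau a ha _ hτg
        have e1 : a * ⁅g, t⁆ * a⁻¹ =
            (a * g * a⁻¹) * (⁅a, t⁆ * (t * (a * g * a⁻¹)⁻¹ * t⁻¹) * ⁅a, t⁆⁻¹) := by
          simp only [commutatorElement_def]; group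
        have e2 : ⁅a, t⁆ * (t * (a * g * a⁻¹)⁻¹ * t⁻¹) * ⁅a, t⁆⁻¹ =
            t * (a * g * a⁻¹)⁻¹ * t⁻¹ := by
          rw [hc]; group
        have e3 : (a * g * a⁻¹) * (t * (a * g * a⁻¹)⁻¹ * t⁻¹) = ⁅a * g * a⁻¹, t⁆ := by
          simp only [commutatorElement_def]; group
        rw [e1, e2, e3]
        exact commutator_mem_commutator hg' (mem_zpowers t)
    exact h1 hp
  -- `Z` is normalized by `P`
  have hZnorm : ∀ a ∈ ⁅Q, zpowers τ⁆, ∀ z ∈ ⁅⁅Q, zpowers τ⁆, ⁅Q, zpowers τ⁆⁆,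
      a * z * a⁻¹ ∈ ⁅⁅Q, zpowers τ⁆, ⁅Q, zpowers τ⁆⁆ := by
    intro a ha z hz
    have := normalizer_commutator_mem _ _ a (le_normalizer ha) (le_normalizer ha)
    exact (mem_normalizer_iff.mp this z).mp hz
  have hinv : ∀ a ∈ ⁅Q, zpowers τ⁆,
      a * (τ * a * τ⁻¹) ∈ ⁅⁅Q, zpowers τ⁆, ⁅Q, zpowers τ⁆⁆ := by
    let K : Subgroup Γ :=
      { carrier := {a | a ∈ ⁅Q, zpowers τ⁆ ∧
          a * (τ * a * τ⁻¹) ∈ ⁅⁅Q, zpowers τ⁆, ⁅Q, zpowers τ⁆⁆}
        one_mem' := ⟨one_mem _, by simp⟩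
        mul_mem' := by
          rintro a b ⟨ha, haz⟩ ⟨hb, hbz⟩
          refine ⟨mul_mem ha hb, ?_⟩
          have e : a * b * (τ * (a * b) * τ⁻¹) =
              (a * ⁅b, τ * a * τ⁻¹⁆ * a⁻¹) * (a * (τ * a * τ⁻¹)) * (b * (τ * b * τ⁻¹)) := by
            simp only [commutatorElement_def]; group
          rw [e]
          have haτ : τ * a * τ⁻¹ ∈ ⁅Q, zpowers τ⁆ := (mem_normalizer_iff.mp hτP a).mp ha
          exact mul_mem (mul_mem (hZnorm a ha _ (commutator_mem_commutator hb haτ)) haz) hbz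
        inv_mem' := by
          rintro a ⟨ha, haz⟩
          refine ⟨inv_mem ha, ?_⟩
          have e : a⁻¹ * (τ * a⁻¹ * τ⁻¹) = a⁻¹ * (a * (τ * a * τ⁻¹))⁻¹ * a⁻¹⁻¹ := by group
          rw [e]; exact hZnorm _ (inv_mem ha) _ (inv_mem haz) }
    have hPK : ⁅Q, zpowers τ⁆ ≤ K := by
      rw [commutator_le]
      intro g hg t ht
      refine ⟨commutator_mem_commutator hg ht, ?_⟩
      rcases mem_zpowers_invol hτ2 ht with rfl | rfl
      · have e : ⁅g, (1 : Γ)⁆ * (τ * ⁅g, (1 : Γ)⁆ * τ⁻¹) = 1 := by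
          simp [commutatorElement_def]
        rw [e]; exact one_mem _
      · have e : ⁅g, t⁆ * (t * ⁅g, t⁆ * t⁻¹) = g * (t * t) * g⁻¹ * (t * t)⁻¹ := by
          simp only [commutatorElement_def]; group
        rw [e, hτ2]
        simp
    intro a ha
    exact (hPK ha).2
  have hq : Odd q := c.hq.odd_of_ne_two c.hq2
  have hsq : ∀ a ∈ ⁅Q, zpowers τ⁆, a * a ∈ ⁅⁅Q, zpowers τ⁆, ⁅Q, zpowers τ⁆⁆ →
      a ∈ ⁅⁅Q, zpowers τ⁆, ⁅Q, zpowers τ⁆⁆ := by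
    intro a ha haa
    obtain ⟨m, hm⟩ := hq
    have h1 : a ^ q = 1 := h.expQ a (hPQ ha)
    have h2 : a = ((a * a) ^ (m + 1)) := by
      rw [← pow_two, ← pow_mul]
      have : 2 * (m + 1) = q + 1 := by omega
      rw [this, pow_succ, h1, one_mul]
    rw [h2]
    exact pow_mem haa _
  refine ⟨hPQ, hxP, hAP, ?_, hinv, ?_⟩
  · -- `Z ≠ ⊥`
    intro hZ
    have hab : ∀ a ∈ ⁅Q, zpowers τ⁆, ∀ b ∈ ⁅Q, zpowers τ⁆, a * b = b * a := by
      intro a ha b hb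
      have h1 : ⁅a, b⁆ ∈ ⁅⁅Q, zpowers τ⁆, ⁅Q, zpowers τ⁆⁆ := commutator_mem_commutator ha hb
      rw [hZ, mem_bot] at h1
      exact (commutatorElement_eq_one_iff_commute.mp h1).eq
    have hcent := hAC Γ W q r n φ ⁅Q, zpowers τ⁆ x c.hq c.hr c.hq2 c.hr2 c.hqr c.hexp
      (c.hQ.to_le hPQ) hab hxP c.hx (fun a ha => c.hfaith a (hPQ ha)) c.hWfix
    rw [← hτdef] at hcent
    have hPP : ⁅⁅Q, zpowers τ⁆, zpowers τ⁆ = ⊥ := by
      rw [eq_bot_iff, commutator_le]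
      intro a ha t ht
      rcases mem_zpowers_invol hτ2 ht with rfl | rfl
      · simp [commutatorElement_def]
      · rw [mem_bot, commutatorElement_def, ← hcent a ha]; group
    have hcop : (Nat.card (zpowers τ)).Coprime (Nat.card Q) := by
      rw [Nat.card_zpowers]
      have h2 : orderOf τ ∣ 2 := orderOf_dvd_of_pow_eq_one (by rw [pow_two]; exact hτ2)
      have : Fact q.Prime := ⟨c.hq⟩
      obtain ⟨e, he⟩ := (IsPGroup.iff_card).mp c.hQ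
      rw [he]
      apply Nat.Coprime.coprime_dvd_left h2
      apply Nat.Coprime.pow_right
      exact (Nat.coprime_primes Nat.prime_two c.hq).mpr (Ne.symm c.hq2)
    have h27 := Cfsg.Agent.S0027.result (zpowers τ) Q hzQ hcop (Or.inl inferInstance)
    rw [hPP] at h27
    apply htauQ
    intro g hg
    have h1 : ⁅g, τ⁆ ∈ ⁅Q, zpowers τ⁆ := commutator_mem_commutator hg (mem_zpowers τ)
    rw [← h27, mem_bot] at h1
    exact ((commutatorElement_eq_one_iff_commute.mp h1).eq).symm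
  · -- `P ⊓ D ≤ Z`
    intro g hg hgD
    have h1 := hinv g hg
    have h2 : τ * g * τ⁻¹ = g := by rw [htauD g hgD]; group
    rw [h2] at h1
    exact hsq g hg h1

end Cfsg.Agent.Helper71.Gross
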