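import Mathlib
import Cfsg.Agent.Helper64.GrossMidDefs
import Cfsg.Agent.Helper71.GrossPZ
import Cfsg.Agent.S0029

set_option autoImplicit false

/-!
# Gross's theorem (S3795), piece (AQ) of helper64's plan: the subgroup `A = ⁅S, S⁆` of a minimal
configuration (helper71)
-/

namespace Cfsg.Agent.Helper71.Gross

open Subgroup Cfsg.Agent.Helper64.Gross
open scoped commutatorElement

universe uΓ uW

/-- the derived subgroup of a nontrivial `p`-subgroup is proper. -/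
theorem comm_self_lt {G : Type*} [Group G] [Finite G] (p : ℕ) [Fact p.Prime] (S : Subgroup G)
    (hS : IsPGroup p S) (hne : S ≠ ⊥) : ⁅S, S⁆ < S := by
  refine lt_of_le_of_ne (comm_self_le S) ?_
  intro heq
  have : Nontrivial S := (nontrivial_iff_ne_bot S).mpr hne
  have : Group.IsNilpotent S := hS.isNilpotent
  have hlt : _root_.commutator S < ⊤ := Group.IsSolvable.commutator_lt_top_of_nontrivial S
  apply hlt.ne
  apply map_injective S.subtype_injective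
  rw [_root_.commutator_def, map_commutator, ← MonoidHom.range_eq_map, range_subtype]
  exact heq

/-- (AQ) -/
theorem a_data (hAB : AbelianTowerStmt.{uΓ}) {Γ : Type uΓ} [Group Γ] [Finite Γ] {W : Type uW}
    [CommGroup W] [Finite W] {φ : Γ →* MulAut W} {Q S : Subgroup Γ} {x : Γ} {q s r n : ℕ}
    (c : MinCfg φ Q S x q s r n) (h : HHData Q S x q n) : AData Q S x n := by
  classical
  have : Fact q.Prime := ⟨c.hq⟩
  have : Fact s.Prime := ⟨c.hs⟩
  have hAS : ⁅S, S⁆ ≤ S := comm_self_le S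
  have hDQ : ⁅Q, Q⁆ ≤ Q := comm_self_le Q
  have hτS : x ^ (2 ^ n) ∈ normalizer (S : Set Γ) := pow_mem c.hxS _
  have hxA : x ∈ normalizer ((⁅S, S⁆ : Subgroup Γ) : Set Γ) :=
    normalizer_commutator_mem S S x c.hxS c.hxS
  -- (1) `A` does not centralize `Q`
  have hnotCent : ¬ ⁅S, S⁆ ≤ centralizer (Q : Set Γ) := by
    intro hcent
    have hSc : S ≤ centralizer (Q : Set Γ) :=
      hAB Γ q s n Q S x c.hq c.hs c.hq2 c.hs2 c.hqs c.hQ c.hS c.hSQ c.hxQ c.hxS c.hx c.hQfix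
        (fun a ha b hb => hcent (commutator_mem_commutator ha hb)) h.commS
    obtain ⟨a, ha, g, hg, hne⟩ := c.hbad
    apply hne
    have h1 : ⁅a, x ^ (2 ^ n)⁆ ∈ S := by
      have e : ⁅a, x ^ (2 ^ n)⁆ = a * (x ^ (2 ^ n) * a⁻¹ * (x ^ (2 ^ n))⁻¹) := by
        simp only [commutatorElement_def]; group
      rw [e]
      exact mul_mem ha ((mem_normalizer_iff.mp hτS _).mp (inv_mem ha))
    exact ((mem_centralizer_iff.mp (hSc h1)) g hg).symm
  -- (2) `[A, τ]` centralizes `Q`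
  have hSne : S ≠ ⊥ := by
    intro hS
    obtain ⟨a, ha, g, hg, hne⟩ := c.hbad
    rw [hS, mem_bot] at ha
    apply hne
    rw [ha]
    simp
  have hcommTau : ∀ a ∈ ⁅S, S⁆, ∀ g ∈ Q,
      ⁅a, x ^ (2 ^ n)⁆ * g = g * ⁅a, x ^ (2 ^ n)⁆ :=
    c.hSmin ⁅S, S⁆ (comm_self_lt s S c.hS hSne) hxA
  refine ⟨hnotCent, hcommTau, ?_⟩
  -- (3) fixed points of `A` on `Q / D`
  have hDnorm : ∀ b : Γ, b ∈ normalizer (Q : Set Γ) → ∀ d ∈ ⁅Q, Q⁆, b * d * b⁻¹ ∈ ⁅Q, Q⁆ := by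
    intro b hb d hd
    exact (mem_normalizer_iff.mp (normalizer_commutator_mem Q Q b hb hb) d).mp hd
  let U : Subgroup Γ :=
    { carrier := {v | v ∈ Q ∧ ∀ a ∈ ⁅S, S⁆, ⁅a, v⁆ ∈ ⁅Q, Q⁆}
      one_mem' := ⟨one_mem _, fun a _ => by
        have e : ⁅a, (1 : Γ)⁆ = 1 := by simp [commutatorElement_def]
        rw [e]; exact one_mem _⟩
      mul_mem' := by
        rintro v w ⟨hv, hv'⟩ ⟨hw, hw'⟩
        refine ⟨mul_mem hv hw, fun a ha => ?_⟩
        have e : ⁅a, v * w⁆ = ⁅a, v⁆ * (v * ⁅a, w⁆ * v⁻¹) := by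
          simp only [commutatorElement_def]; group
        rw [e]
        exact mul_mem (hv' a ha) (hDnorm v (le_normalizer hv) _ (hw' a ha))
      inv_mem' := by
        rintro v ⟨hv, hv'⟩
        refine ⟨inv_mem hv, fun a ha => ?_⟩
        have e : ⁅a, v⁻¹⁆ = v⁻¹ * ⁅a, v⁆⁻¹ * v⁻¹⁻¹ := by
          simp only [commutatorElement_def]; group
        rw [e]
        exact hDnorm v⁻¹ (le_normalizer (inv_mem hv)) _ (inv_mem (hv' a ha)) }
  have hUmem : ∀ v, v ∈ U ↔ v ∈ Q ∧ ∀ a ∈ ⁅S, S⁆, ⁅a, v⁆ ∈ ⁅Q, Q⁆ := fun v => Iff.rfl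
  have hDU : ⁅Q, Q⁆ ≤ U := by
    intro d hd
    refine (hUmem d).mpr ⟨hDQ hd, fun a ha => ?_⟩
    have e : ⁅a, d⁆ = 1 := by
      rw [commutatorElement_def, h.SD a (hAS ha) d hd]; group
    rw [e]; exact one_mem _
  have hUQ : U ≤ Q := fun v hv => ((hUmem v).mp hv).1
  have hUinv : ∀ b : Γ, b ∈ normalizer (Q : Set Γ) →
      b ∈ normalizer ((⁅S, S⁆ : Subgroup Γ) : Set Γ) → b ∈ normalizer (U : Set Γ) := by
    intro b hbQ hbA
    apply mem_normalizer_fintype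
    intro v hv
    obtain ⟨hvQ, hv'⟩ := (hUmem v).mp hv
    refine (hUmem _).mpr ⟨(mem_normalizer_iff.mp hbQ v).mp hvQ, fun a ha => ?_⟩
    have e : ⁅a, b * v * b⁻¹⁆ = b * ⁅b⁻¹ * a * b⁻¹⁻¹, v⁆ * b⁻¹ := by
      simp only [commutatorElement_def]; group
    rw [e]
    apply hDnorm b hbQ
    apply hv'
    exact (mem_normalizer_iff.mp (inv_mem hbA) a).mp ha
  have hSU : S ≤ normalizer (U : Set Γ) := fun b hb =>
    hUinv b (c.hSQ hb) (normalizer_commutator_mem S S b (le_normalizer hb) (le_normalizer hb))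
  have hxU : x ∈ normalizer (U : Set Γ) := hUinv x c.hxQ hxA
  intro v hvQ hv
  have hvU : v ∈ U := (hUmem v).mpr ⟨hvQ, hv⟩
  rcases h.irr U hDU hUQ hSU hxU with hU | hU
  · rw [hU] at hvU; exact hvU
  · exfalso
    apply hnotCent
    apply Cfsg.Agent.S0029.result ⁅S, S⁆ Q (hAS.trans c.hSQ)
    · exact IsPGroup.coprime_card_of_ne s q (Ne.symm c.hqs) _ _ (c.hS.to_le hAS)
        (c.hQ.to_subgroup (frattini ↥Q))
    · intro a ha k hk
      rw [h.frat]
      have hkU : k ∈ U := by rw [hU]; exact hk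
      exact ((hUmem k).mp hkU).2 a ha

end Cfsg.Agent.Helper71.Gross
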