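import Mathlib

/-!
# Burnside's density theorem (helper71)

* `burnside_subalgebra_eq_top`: a subalgebra of `End K V` (`K` algebraically closed, `V` finite
  dimensional, nonzero) without proper nonzero invariant subspace is everything.
* `burnside_span_image_eq_top`: for a representation `ρ` of a group `G` and a subgroup `Q` acting
  irreducibly, the `K`-span of `ρ '' Q` is `End K V`.
-/

set_option autoImplicit false

namespace Cfsg.Agent.Helper71

open Module

section Burnside

variable {K V : Type*} [Field K] [IsAlgClosed K] [AddCommGroup V] [Module K V]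
  [FiniteDimensional K V] [Nontrivial V]

/-- **Burnside's theorem.** -/
theorem burnside_subalgebra_eq_top (A : Subalgebra K (Module.End K V))
    (hirr : ∀ W : Submodule K V, (∀ a ∈ A, Submodule.map a W ≤ W) → W = ⊥ ∨ W = ⊤) : A = ⊤ := by
  -- `V` is a simple `A`-module
  have hsimple : IsSimpleModule A V := by
    rw [isSimpleModule_iff]
    refine { exists_pair_ne := ⟨⊥, ⊤, bot_ne_top⟩, eq_bot_or_eq_top := ?_ }
    intro W
    have h := hirr (W.restrictScalars K) ?_
    · rcases h with h | h
      · left
        apply Submodule.restrictScalars_injective K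
        rw [h]; rfl
      · right
        apply Submodule.restrictScalars_injective K
        rw [h]; rfl
    · rintro a ha _ ⟨w, hw, rfl⟩
      exact W.smul_mem ⟨a, ha⟩ hw
  -- Schur
  have hschur : Function.Surjective (algebraMap K (Module.End A V)) :=
    (IsSimpleModule.algebraMap_end_bijective_of_isAlgClosed K).2
  -- finiteness over the commutant
  have hfin : Module.Finite (Module.End A V) V :=
    Module.Finite.of_restrictScalars_finite K (Module.End A V) V
  have hdense := Module.Finite.toModuleEnd_moduleEnd_surjective (R := A) (M := V)
  rw [eq_top_iff]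
  intro T _
  -- `T` commutes with the commutant
  let f : Module.End (Module.End A V) V :=
    { toFun := fun v => T v
      map_add' := fun v w => map_add T v w
      map_smul' := fun φ v => by
        obtain ⟨c, rfl⟩ := hschur φ
        simp only [RingHom.id_apply]
        show T ((algebraMap K (Module.End A V) c) v) = (algebraMap K (Module.End A V) c) (T v)
        rw [Module.algebraMap_end_apply, Module.algebraMap_end_apply, map_smul] }
  obtain ⟨a, ha⟩ := hdense f
  have : (a : Module.End K V) = T := by
    ext v
    have := congrArg (fun g : Module.End (Module.End A V) V => g v) ha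
    exact this
  rw [← this]
  exact a.2

omit [IsAlgClosed K] [FiniteDimensional K V] [Nontrivial V] in
/-- the image of a subgroup under a representation is closed under products. -/
theorem closure_image_subgroup_eq {G : Type*} [Group G] (ρ : Representation K G V)
    (Q : Subgroup G) :
    ((Submonoid.closure (ρ '' (Q : Set G)) : Submonoid (Module.End K V)) :
      Set (Module.End K V)) = ρ '' (Q : Set G) := by
  have h : ρ '' (Q : Set G) = ((Q.toSubmonoid.map (ρ : G →* Module.End K V) :
      Submonoid (Module.End K V)) : Set (Module.End K V)) := rfl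
  rw [h, Submonoid.closure_eq]

/-- **Burnside density for a group representation**: if the subgroup `Q` acts irreducibly on `V`,
then `ρ '' Q` spans `End K V`. -/
theorem burnside_span_image_eq_top {G : Type*} [Group G] (ρ : Representation K G V)
    (Q : Subgroup G)
    (hirr : ∀ W : Submodule K V, (∀ g ∈ Q, Submodule.map (ρ g) W ≤ W) → W = ⊥ ∨ W = ⊤) :
    Submodule.span K (ρ '' (Q : Set G)) = ⊤ := by
  have hA := burnside_subalgebra_eq_top (Algebra.adjoin K (ρ '' (Q : Set G))) ?_
  · have h1 := Algebra.adjoin_eq_span K (ρ '' (Q : Set G))
    rw [hA, closure_image_subgroup_eq, Algebra.top_toSubmodule] at h1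
    exact h1.symm
  · intro W hW
    apply hirr W
    intro g hg
    exact hW _ (Algebra.subset_adjoin ⟨g, hg, rfl⟩)

/-- every endomorphism is a linear combination of the `ρ g`, `g ∈ Q` (finite group form). -/
theorem burnside_exists_sum {G : Type*} [Group G] (ρ : Representation K G V)
    (Q : Subgroup G) [Fintype Q]
    (hirr : ∀ W : Submodule K V, (∀ g ∈ Q, Submodule.map (ρ g) W ≤ W) → W = ⊥ ∨ W = ⊤)
    (S : Module.End K V) : ∃ c : Q → K, S = ∑ g : Q, c g • ρ (g : G) := by
  have hS : S ∈ Submodule.span K (ρ '' (Q : Set G)) := by
    rw [burnside_span_image_eq_top ρ Q hirr]; trivial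
  have himg : ρ '' (Q : Set G) = Set.range (fun g : Q => ρ (g : G)) := by
    ext T
    constructor
    · rintro ⟨g, hg, rfl⟩; exact ⟨⟨g, hg⟩, rfl⟩
    · rintro ⟨g, rfl⟩; exact ⟨g, g.2, rfl⟩
  rw [himg] at hS
  obtain ⟨c, hc⟩ := (Submodule.mem_span_range_iff_exists_fun K).mp hS
  exact ⟨c, hc.symm⟩


end Burnside

end Cfsg.Agent.Helper71
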