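import Cfsg.Agent.Helper71.BurnsideDensity

/-!
# Schur relations and the trace inversion formula (helper71)

For a representation `ρ` of `G` on `V` over an algebraically closed field `K`, irreducible on the
finite subgroup `Q` with `|Q|` invertible in `K`:

* `schur_scalar_of_commute`: an endomorphism commuting with `ρ '' Q` is a scalar.
* `schur_average`: `∑ g ∈ Q, ρ g * R * ρ g⁻¹ = μ • 1` with `μ * dim V = |Q| * tr R`.
* `finrank_ne_zero_of_irreducible`: `dim V ≠ 0` in `K`.
* `burnside_trace_inversion`: `(|Q| / dim V) • S = ∑ g ∈ Q, tr (S * ρ g⁻¹) • ρ g`.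
-/

set_option autoImplicit false

namespace Cfsg.Agent.Helper71

open Module

section Trace

variable {K V : Type*} [Field K] [IsAlgClosed K] [AddCommGroup V] [Module K V]
  [FiniteDimensional K V] [Nontrivial V] {G : Type*} [Group G]

omit [IsAlgClosed K] in
theorem bt_mul_single_mul_apply {n : Type*} [Fintype n] [DecidableEq n]
    (A B : Matrix n n K) (j k i l : n) :
    (A * Matrix.single j k (1 : K) * B) i l = A i j * B k l := by
  rw [Matrix.mul_apply, Finset.sum_eq_single k]
  · rw [Matrix.mul_single_apply_same, mul_one]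
  · intro x _ hx
    rw [Matrix.mul_single_apply_of_ne _ _ _ _ _ hx, zero_mul]
  · intro h; exact absurd (Finset.mem_univ k) h

/-- **Schur's lemma** (scalar form): an endomorphism commuting with `ρ g` for all `g ∈ Q` is a scalar. -/
theorem schur_scalar_of_commute (ρ : Representation K G V) (Q : Subgroup G)
    (hirr : ∀ W : Submodule K V, (∀ g ∈ Q, Submodule.map (ρ g) W ≤ W) → W = ⊥ ∨ W = ⊤)
    (T : Module.End K V) (hT : ∀ g ∈ Q, T * ρ g = ρ g * T) : ∃ α : K, T = α • (1 : Module.End K V) := by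
  have hspan := burnside_span_image_eq_top ρ Q hirr
  have hall : ∀ S : Module.End K V, T * S = S * T := by
    intro S
    have hS : S ∈ Submodule.span K (ρ '' (Q : Set G)) := by rw [hspan]; trivial
    induction hS using Submodule.span_induction with
    | mem x hx =>
      obtain ⟨g, hg, rfl⟩ := hx
      exact hT g hg
    | zero => simp
    | add x y _ _ hx hy => rw [mul_add, add_mul, hx, hy]
    | smul a x _ hx => rw [mul_smul_comm, smul_mul_assoc, hx]
  have hcen : T ∈ Set.center (Module.End K V) := by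
    rw [Semigroup.mem_center_iff]
    intro S
    exact (hall S).symm
  obtain ⟨α, hα, h⟩ := Module.End.mem_center_iff.mp hcen
  refine ⟨α, ?_⟩
  rw [h]
  ext v
  simp

variable (ρ : Representation K G V) (Q : Subgroup G) [Fintype Q]

/-- **Schur averaging.** -/
theorem schur_average
    (hirr : ∀ W : Submodule K V, (∀ g ∈ Q, Submodule.map (ρ g) W ≤ W) → W = ⊥ ∨ W = ⊤)
    (R : Module.End K V) :
    ∃ μ : K, (∑ g : Q, ρ (g : G) * R * ρ ((g : G)⁻¹)) = μ • (1 : Module.End K V) ∧
      μ * (Module.finrank K V : K) = (Fintype.card Q : K) * LinearMap.trace K V R := by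
  have hcomm : ∀ h ∈ Q, (∑ g : Q, ρ (g : G) * R * ρ ((g : G)⁻¹)) * ρ h =
      ρ h * (∑ g : Q, ρ (g : G) * R * ρ ((g : G)⁻¹)) := by
    intro h hh
    rw [Finset.sum_mul, Finset.mul_sum]
    -- reindex by `g ↦ h * g`
    have := Fintype.sum_equiv (Equiv.mulLeft (⟨h, hh⟩ : Q))
      (fun g : Q => ρ h * (ρ (g : G) * R * ρ ((g : G)⁻¹)))
      (fun g : Q => ρ (g : G) * R * ρ ((g : G)⁻¹) * ρ h) ?_
    · exact this.symm
    · intro g
      show ρ h * (ρ (g : G) * R * ρ ((g : G)⁻¹)) =
        ρ ((h * g : G)) * R * ρ ((h * g : G)⁻¹) * ρ h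
      rw [map_mul, mul_inv_rev, map_mul]
      have h1 : ρ h⁻¹ * ρ h = 1 := by rw [← map_mul, inv_mul_cancel, map_one]
      simp only [mul_assoc, h1, mul_one]
  obtain ⟨μ, hμ⟩ := schur_scalar_of_commute ρ Q hirr _ hcomm
  refine ⟨μ, hμ, ?_⟩
  have htr := congrArg (LinearMap.trace K V) hμ
  rw [map_sum, map_smul, LinearMap.trace_one, smul_eq_mul] at htr
  rw [← htr]
  have hterm : ∀ g : Q, LinearMap.trace K V (ρ (g : G) * R * ρ ((g : G)⁻¹)) =
      LinearMap.trace K V R := by
    intro g
    rw [LinearMap.trace_mul_comm, ← mul_assoc, ← map_mul, inv_mul_cancel, map_one, one_mul]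
  rw [Finset.sum_congr rfl (fun g _ => hterm g), Finset.sum_const, Finset.card_univ, nsmul_eq_mul]

/-- the dimension of an irreducible representation is invertible in `K` when `|Q|` is. -/
theorem finrank_ne_zero_of_irreducible
    (hirr : ∀ W : Submodule K V, (∀ g ∈ Q, Submodule.map (ρ g) W ≤ W) → W = ⊥ ∨ W = ⊤)
    (hQ : (Fintype.card Q : K) ≠ 0) : (Module.finrank K V : K) ≠ 0 := by
  classical
  let b := Module.finBasis K V
  have hpos : 0 < Module.finrank K V := Module.finrank_pos
  let i₀ : Fin (Module.finrank K V) := ⟨0, hpos⟩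
  let R : Module.End K V := (LinearMap.toMatrixAlgEquiv b).symm (Matrix.single i₀ i₀ (1 : K))
  have hR : LinearMap.trace K V R = 1 := by
    rw [LinearMap.trace_eq_matrix_trace K b]
    have : LinearMap.toMatrix b b R = Matrix.single i₀ i₀ (1 : K) :=
      (LinearMap.toMatrixAlgEquiv b).apply_symm_apply _
    rw [this, Matrix.trace_single_eq_same]
  obtain ⟨μ, -, hμ⟩ := schur_average ρ Q hirr R
  rw [hR, mul_one] at hμ
  intro h0
  rw [h0, mul_zero] at hμ
  exact hQ hμ.symm

/-- **Schur orthogonality relations for matrix coefficients.** -/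
theorem schur_matrix_coeff
    (hirr : ∀ W : Submodule K V, (∀ g ∈ Q, Submodule.map (ρ g) W ≤ W) → W = ⊥ ∨ W = ⊤)
    {n : Type*} [Fintype n] [DecidableEq n] (b : Basis n K V) (i j k l : n) :
    (∑ g : Q, LinearMap.toMatrix b b (ρ (g : G)) i j * LinearMap.toMatrix b b (ρ ((g : G)⁻¹)) k l) *
        (Module.finrank K V : K) =
      (Fintype.card Q : K) * (if j = k then 1 else 0) * (if i = l then 1 else 0) := by
  let e := LinearMap.toMatrixAlgEquiv b
  let R : Module.End K V := e.symm (Matrix.single j k (1 : K))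
  have heR : e R = Matrix.single j k (1 : K) := e.apply_symm_apply _
  have hR : LinearMap.trace K V R = if j = k then 1 else 0 := by
    rw [LinearMap.trace_eq_matrix_trace K b]
    have : LinearMap.toMatrix b b R = Matrix.single j k (1 : K) := heR
    rw [this]
    by_cases hjk : j = k
    · subst hjk; rw [Matrix.trace_single_eq_same, if_pos rfl]
    · rw [Matrix.trace_single_eq_of_ne _ _ _ hjk, if_neg hjk]
  obtain ⟨μ, hsum, hμ⟩ := schur_average ρ Q hirr R
  have h1 : e (∑ g : Q, ρ (g : G) * R * ρ ((g : G)⁻¹)) i l = e (μ • (1 : Module.End K V)) i l := by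
    rw [hsum]
  rw [map_sum, map_smul, map_one, Matrix.sum_apply, Matrix.smul_apply, Matrix.one_apply,
    smul_eq_mul] at h1
  have h2 : ∀ g : Q, (e (ρ (g : G) * R * ρ ((g : G)⁻¹))) i l =
      LinearMap.toMatrix b b (ρ (g : G)) i j * LinearMap.toMatrix b b (ρ ((g : G)⁻¹)) k l := by
    intro g
    rw [map_mul, map_mul, heR, bt_mul_single_mul_apply]
    rfl
  rw [Finset.sum_congr rfl (fun g _ => h2 g)] at h1
  rw [h1, hR] at *
  by_cases hil : i = l
  · rw [if_pos hil, mul_one, mul_one, hμ]
  · rw [if_neg hil, mul_zero, mul_zero, zero_mul]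

/-- **Trace inversion formula**: every endomorphism is recovered from its "Fourier coefficients"
`tr (S * ρ g⁻¹)`. -/
theorem burnside_trace_inversion
    (hirr : ∀ W : Submodule K V, (∀ g ∈ Q, Submodule.map (ρ g) W ≤ W) → W = ⊥ ∨ W = ⊤)
    (S : Module.End K V) :
    (Fintype.card Q : K) • S =
      (Module.finrank K V : K) • ∑ g : Q, LinearMap.trace K V (S * ρ ((g : G)⁻¹)) • ρ (g : G) := by
  classical
  let b := Module.finBasis K V
  let e := LinearMap.toMatrixAlgEquiv b
  apply e.injective
  ext i j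
  rw [map_smul, map_smul, map_sum, Matrix.smul_apply, Matrix.smul_apply, Matrix.sum_apply,
    smul_eq_mul, smul_eq_mul]
  have hterm : ∀ g : Q, (e (LinearMap.trace K V (S * ρ ((g : G)⁻¹)) • ρ (g : G))) i j =
      ∑ k, ∑ l, e S l k * (LinearMap.toMatrix b b (ρ (g : G)) i j *
        LinearMap.toMatrix b b (ρ ((g : G)⁻¹)) k l) := by
    intro g
    rw [map_smul, Matrix.smul_apply, smul_eq_mul, LinearMap.trace_eq_matrix_trace K b]
    have : LinearMap.toMatrix b b (S * ρ ((g : G)⁻¹)) = e S * e (ρ ((g : G)⁻¹)) := map_mul e _ _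
    rw [this, Matrix.trace, Finset.sum_mul]
    simp only [Matrix.diag_apply, Matrix.mul_apply, Finset.sum_mul]
    rw [Finset.sum_comm]
    refine Finset.sum_congr rfl fun k _ => Finset.sum_congr rfl fun l _ => ?_
    show e S l k * LinearMap.toMatrix b b (ρ ((g : G)⁻¹)) k l * LinearMap.toMatrix b b (ρ (g : G)) i j = _
    ring
  rw [Finset.sum_congr rfl (fun g _ => hterm g)]
  -- exchange sums and use the Schur relations
  have hswap : (∑ g : Q, ∑ k, ∑ l, e S l k * (LinearMap.toMatrix b b (ρ (g : G)) i j *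
        LinearMap.toMatrix b b (ρ ((g : G)⁻¹)) k l)) =
      ∑ k, ∑ l, e S l k * ∑ g : Q, LinearMap.toMatrix b b (ρ (g : G)) i j *
        LinearMap.toMatrix b b (ρ ((g : G)⁻¹)) k l := by
    rw [Finset.sum_comm]
    refine Finset.sum_congr rfl fun k _ => ?_
    rw [Finset.sum_comm]
    refine Finset.sum_congr rfl fun l _ => ?_
    rw [Finset.mul_sum]
  rw [hswap, Finset.mul_sum]
  have hcoef : ∀ k l, (Module.finrank K V : K) * (e S l k *
      ∑ g : Q, LinearMap.toMatrix b b (ρ (g : G)) i j * LinearMap.toMatrix b b (ρ ((g : G)⁻¹)) k l) =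
      e S l k * ((Fintype.card Q : K) * (if j = k then 1 else 0) * (if i = l then 1 else 0)) := by
    intro k l
    rw [← schur_matrix_coeff ρ Q hirr b i j k l]
    ring
  have hstep : ∀ k, (Module.finrank K V : K) * ∑ l, e S l k *
      ∑ g : Q, LinearMap.toMatrix b b (ρ (g : G)) i j * LinearMap.toMatrix b b (ρ ((g : G)⁻¹)) k l =
      ∑ l, e S l k * ((Fintype.card Q : K) * (if j = k then 1 else 0) * (if i = l then 1 else 0)) := by
    intro k
    rw [Finset.mul_sum]
    exact Finset.sum_congr rfl fun l _ => hcoef k l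
  rw [Finset.sum_congr rfl (fun k _ => hstep k)]
  rw [Finset.sum_eq_single j, Finset.sum_eq_single i]
  · rw [if_pos rfl, if_pos rfl]; ring
  · intro l _ hl
    rw [if_neg (Ne.symm hl), mul_zero, mul_zero]
  · intro h; exact absurd (Finset.mem_univ i) h
  · intro k _ hk
    apply Finset.sum_eq_zero
    intro l _
    rw [if_neg (Ne.symm hk), mul_zero, zero_mul, mul_zero]
  · intro h; exact absurd (Finset.mem_univ j) h


/-- the trace inversion formula, solved for `S`. -/
theorem burnside_trace_inversion'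
    (hirr : ∀ W : Submodule K V, (∀ g ∈ Q, Submodule.map (ρ g) W ≤ W) → W = ⊥ ∨ W = ⊤)
    (hQ : (Fintype.card Q : K) ≠ 0) (S : Module.End K V) :
    S = ((Module.finrank K V : K) / (Fintype.card Q : K)) •
      ∑ g : Q, LinearMap.trace K V (S * ρ ((g : G)⁻¹)) • ρ (g : G) := by
  have h := burnside_trace_inversion ρ Q hirr S
  rw [div_eq_inv_mul, mul_smul, ← h, smul_smul, inv_mul_cancel₀ hQ, one_smul]


end Trace

end Cfsg.Agent.Helper71
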