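import Cfsg.Agent.Helper71.FrobConstruct

set_option autoImplicit false

namespace Cfsg.Agent.Helper71

open QuaternionGroup

section dicyclic

variable {F : Type*} [Field F] {n : ℕ}

/-- `ζ ^ i` for `i : ZMod (2n)`. -/
def zpw (ζ : Fˣ) (i : ZMod (2 * n)) : Fˣ := ζ ^ i.val

theorem zpw_zero (ζ : Fˣ) : zpw ζ (0 : ZMod (2 * n)) = 1 := by
  simp [zpw]

variable [NeZero n] {ζ : Fˣ} (hζ : orderOf ζ = 2 * n)

include hζ

theorem zpw_add (i j : ZMod (2 * n)) : zpw ζ (i + j) = zpw ζ i * zpw ζ j := by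
  unfold zpw
  rw [← pow_add, pow_eq_pow_iff_modEq, hζ, ZMod.val_add]
  exact Nat.mod_modEq _ _

theorem zpw_eq_one_iff (i : ZMod (2 * n)) : zpw ζ i = 1 ↔ i = 0 := by
  unfold zpw
  rw [← orderOf_dvd_iff_pow_eq_one, hζ]
  constructor
  · intro h
    have hlt : i.val < 2 * n := ZMod.val_lt i
    have : i.val = 0 := Nat.eq_zero_of_dvd_of_lt h hlt
    exact (ZMod.val_eq_zero i).mp this
  · rintro rfl
    simp

theorem zpw_neg (i : ZMod (2 * n)) : zpw ζ (-i) = (zpw ζ i)⁻¹ := by
  rw [eq_inv_iff_mul_eq_one, ← zpw_add hζ, neg_add_cancel, zpw_zero]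

theorem zpw_sub (i j : ZMod (2 * n)) : zpw ζ (i - j) = zpw ζ i * (zpw ζ j)⁻¹ := by
  rw [sub_eq_add_neg, zpw_add hζ, zpw_neg hζ]

theorem zpw_n : ((zpw ζ (n : ZMod (2 * n)) : Fˣ) : F) = -1 := by
  have hn : (n : ZMod (2 * n)) ≠ 0 := by
    intro h
    rw [ZMod.natCast_eq_zero_iff] at h
    have := Nat.le_of_dvd (Nat.pos_of_ne_zero (NeZero.ne n)) h
    have := Nat.pos_of_ne_zero (NeZero.ne n)
    omega
  have h1 : zpw ζ (n : ZMod (2 * n)) ≠ 1 := fun h => hn ((zpw_eq_one_iff hζ _).mp h)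
  have h2 : zpw ζ (n : ZMod (2 * n)) * zpw ζ (n : ZMod (2 * n)) = 1 := by
    rw [← zpw_add hζ, zpw_eq_one_iff hζ]
    have : ((n : ZMod (2 * n)) + n) = ((2 * n : ℕ) : ZMod (2 * n)) := by push_cast; ring
    rw [this, ZMod.natCast_self]
  have h3 : ((zpw ζ (n : ZMod (2 * n)) : Fˣ) : F) * (zpw ζ (n : ZMod (2 * n)) : Fˣ) = 1 := by
    rw [← Units.val_mul, h2, Units.val_one]
  rcases mul_self_eq_one_iff.mp h3 with h | h
  · exact absurd (Units.ext h) h1
  · exact h

omit [NeZero n] hζ in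
/-- The action of the dicyclic group on `F × F`. -/
def dicAct (ζ : Fˣ) : QuaternionGroup n → F × F → F × F
  | a i, w => (((zpw ζ i : Fˣ) : F) * w.1, (((zpw ζ i)⁻¹ : Fˣ) : F) * w.2)
  | xa i, w => (-((((zpw ζ i)⁻¹ : Fˣ) : F) * w.2), ((zpw ζ i : Fˣ) : F) * w.1)

theorem dicAct_mul (g h : QuaternionGroup n) (w : F × F) :
    dicAct ζ (g * h) w = dicAct ζ g (dicAct ζ h w) := by
  have hn := zpw_n hζ
  rcases g with i | i <;> rcases h with j | j
  · simp only [a_mul_a, dicAct, zpw_add hζ, mul_inv, Units.val_mul]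
    ext <;> ring
  · simp only [a_mul_xa, dicAct, zpw_sub hζ, mul_inv, inv_inv, Units.val_mul]
    ext <;> ring
  · simp only [xa_mul_a, dicAct, zpw_add hζ, mul_inv, Units.val_mul]
    ext <;> ring
  · simp only [xa_mul_xa, dicAct, zpw_sub hζ, zpw_add hζ, mul_inv, inv_inv, Units.val_mul]
    have hn' : (((zpw ζ (n : ZMod (2 * n)))⁻¹ : Fˣ) : F) = -1 := by
      rw [Units.val_inv_eq_inv_val, hn]; norm_num
    rw [hn, hn']
    ext <;> simp <;> ring

omit [NeZero n] hζ in
theorem dicAct_one (w : F × F) : dicAct ζ (1 : QuaternionGroup n) w = w := by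
  rw [one_def]
  simp [dicAct, zpw_zero]

omit [NeZero n] hζ in
theorem dicAct_zero (g : QuaternionGroup n) : dicAct ζ g (0 : F × F) = 0 := by
  rcases g with i | i <;> simp [dicAct]

omit [NeZero n] hζ in
theorem dicAct_add (g : QuaternionGroup n) (w w' : F × F) :
    dicAct ζ g (w + w') = dicAct ζ g w + dicAct ζ g w' := by
  rcases g with i | i <;> simp only [dicAct, Prod.fst_add, Prod.snd_add] <;> ext <;> simp <;> ring

theorem dicAct_fpf (h2 : (2 : F) ≠ 0) (g : QuaternionGroup n) (hg : g ≠ 1) (w : F × F)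
    (hw : dicAct ζ g w = w) : w = 0 := by
  rcases g with i | i
  · have hi : i ≠ 0 := by
      rintro rfl
      exact hg rfl
    have h1 : ((zpw ζ i : Fˣ) : F) ≠ 1 := by
      intro h
      exact hi ((zpw_eq_one_iff hζ i).mp (Units.ext h))
    have h1' : (((zpw ζ i)⁻¹ : Fˣ) : F) ≠ 1 := by
      intro h
      apply hi
      have : (zpw ζ i)⁻¹ = 1 := Units.ext h
      rw [inv_eq_one] at this
      exact (zpw_eq_one_iff hζ i).mp this
    simp only [dicAct] at hw
    have e1 := congrArg Prod.fst hw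
    have e2 := congrArg Prod.snd hw
    simp only at e1 e2
    have f1 : w.1 = 0 := by
      have : (((zpw ζ i : Fˣ) : F) - 1) * w.1 = 0 := by rw [sub_mul, e1, one_mul, sub_self]
      rcases mul_eq_zero.mp this with h | h
      · exact absurd (sub_eq_zero.mp h) h1
      · exact h
    have f2 : w.2 = 0 := by
      have : ((((zpw ζ i)⁻¹ : Fˣ) : F) - 1) * w.2 = 0 := by rw [sub_mul, e2, one_mul, sub_self]
      rcases mul_eq_zero.mp this with h | h
      · exact absurd (sub_eq_zero.mp h) h1'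
      · exact h
    ext <;> simp [f1, f2]
  · simp only [dicAct] at hw
    have e1 := congrArg Prod.fst hw
    have e2 := congrArg Prod.snd hw
    simp only at e1 e2
    -- e1 : -(z⁻¹ * w.2) = w.1, e2 : z * w.1 = w.2
    have hz : ((zpw ζ i : Fˣ) : F) * (((zpw ζ i)⁻¹ : Fˣ) : F) = 1 := by
      rw [← Units.val_mul, mul_inv_cancel, Units.val_one]
    have f2 : w.2 = 0 := by
      have : w.2 = -w.2 := by
        calc w.2 = ((zpw ζ i : Fˣ) : F) * w.1 := e2.symm
          _ = ((zpw ζ i : Fˣ) : F) * (-((((zpw ζ i)⁻¹ : Fˣ) : F) * w.2)) := by rw [e1]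
          _ = -((((zpw ζ i : Fˣ) : F) * (((zpw ζ i)⁻¹ : Fˣ) : F)) * w.2) := by ring
          _ = -w.2 := by rw [hz, one_mul]
      have : (2 : F) * w.2 = 0 := by linear_combination this
      rcases mul_eq_zero.mp this with h | h
      · exact absurd h h2
      · exact h
    have f1 : w.1 = 0 := by rw [← e1, f2]; simp
    ext <;> simp [f1, f2]

/-- The resulting distributive action. -/
@[instance_reducible]
def dicDistribMulAction : DistribMulAction (QuaternionGroup n) (F × F) where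
  smul g w := dicAct ζ g w
  one_smul w := dicAct_one w
  mul_smul g h w := dicAct_mul hζ g h w
  smul_zero g := dicAct_zero g
  smul_add g w w' := dicAct_add g w w'

theorem exists_frobenius_dicyclic [Finite F] (h2 : (2 : F) ≠ 0) :
    ∃ (L : Type) (_ : Group L) (_ : Finite L) (C : Subgroup L),
      Cfsg.IsFrobeniusComplement C ∧ Nonempty (QuaternionGroup n ≃* C) := by
  let _ : DistribMulAction (QuaternionGroup n) (F × F) := dicDistribMulAction hζ
  have : Nontrivial (QuaternionGroup n) := inferInstance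
  apply exists_frobenius_of_fpf_add (V := F × F) (H := QuaternionGroup n)
  intro g hg w hw
  exact dicAct_fpf hζ h2 g hg w hw

end dicyclic

end Cfsg.Agent.Helper71
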