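import Mathlib
import Cfsg.Prelude.Def_Solvable
import Cfsg.Agent.Helper71.FrobConstruct
import Cfsg.Agent.Helper63.Frobenius

set_option autoImplicit false

namespace Cfsg.Agent.Helper71

/-- A finite group with a Frobenius complement can be replaced by one living in `Type`,
of the same cardinality. -/
theorem exists_frobenius_type_zero_card {L' : Type*} [Group L'] [Finite L'] (C' : Subgroup L')
    (hC' : Cfsg.IsFrobeniusComplement C') :
    ∃ (L : Type) (_ : Group L) (_ : Finite L) (C : Subgroup L),
      Cfsg.IsFrobeniusComplement C ∧ Nonempty (C' ≃* C) ∧ Nat.card L = Nat.card L' := by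
  let e : Carrier (Nat.card L') ≃ L' := (carrierEquiv _).trans (Finite.equivFin L').symm
  let _ : Group (Carrier (Nat.card L')) := e.group
  have hmul : ∀ a b : Carrier (Nat.card L'), e (a * b) = e a * e b := fun a b => by
    change e (e.symm (e a * e b)) = e a * e b
    simp
  let E : Carrier (Nat.card L') ≃* L' := MulEquiv.mk e hmul
  refine ⟨Carrier (Nat.card L'), inferInstance, carrier_finite _, C'.map E.symm.toMonoidHom,
    isFrobeniusComplement_map_equiv E.symm C' hC', ⟨?_⟩, Nat.card_congr e⟩
  exact E.symm.subgroupMap C'

/-- The cardinality of the Frobenius kernel from the orders of the group and the complement. -/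
theorem card_frobeniusKernel_eq {L : Type*} [Group L] [Finite L] {C : Subgroup L}
    (hC : Cfsg.IsFrobeniusComplement C) {n h : ℕ} (hL : Nat.card L = n * h)
    (hCc : Nat.card C = h) : Nat.card (Cfsg.frobeniusKernel C) = n := by
  rw [Nat.card_coe_set_eq, Helper63.frob_card_kernel hC]
  have h1 := Subgroup.card_mul_index C
  rw [hL, hCc] at h1
  have hpos : 0 < h := by rw [← hCc]; exact Nat.card_pos
  have h2 : h * C.index = h * n := by rw [h1, mul_comm]
  exact Nat.eq_of_mul_eq_mul_left hpos h2

/-- A fixed-point-free action of a nontrivial finite group on a nontrivial finite group yields a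
finite Frobenius group (in `Type`) whose complement is isomorphic to the acting group and whose
kernel has the cardinality of the group acted on. -/
theorem exists_frobenius_of_fpf_mulAut_card {N H : Type*} [Group N] [Group H] [Finite N]
    [Finite H] [Nontrivial N] [Nontrivial H] (φ : H →* MulAut N)
    (hfpf : ∀ h : H, h ≠ 1 → ∀ n : N, φ h n = n → n = 1) :
    ∃ (L : Type) (_ : Group L) (_ : Finite L) (C : Subgroup L),
      Cfsg.IsFrobeniusComplement C ∧ Nonempty (H ≃* C) ∧
        Nat.card (Cfsg.frobeniusKernel C) = Nat.card N := by
  have hfin : Finite (N ⋊[φ] H) := Finite.of_equiv _ SemidirectProduct.equivProd.symm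
  obtain ⟨L, hL, hLf, C, hC, ⟨e⟩, hcard⟩ := exists_frobenius_type_zero_card _
    (isFrobeniusComplement_range_inr φ hfpf)
  let e' : H ≃* C := (MonoidHom.ofInjective SemidirectProduct.inr_injective).trans e
  refine ⟨L, hL, hLf, C, hC, ⟨e'⟩, ?_⟩
  apply card_frobeniusKernel_eq hC (h := Nat.card H)
  · rw [hcard, Nat.card_congr SemidirectProduct.equivProd, Nat.card_prod]
  · exact (Nat.card_congr e'.toEquiv).symm

/-- Additive version: a fixed-point-free distributive action on a finite additive group. -/
theorem exists_frobenius_of_fpf_add_card {V H : Type*} [AddGroup V] [Group H] [Finite V]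
    [Finite H] [Nontrivial V] [Nontrivial H] [DistribMulAction H V]
    (hfpf : ∀ h : H, h ≠ 1 → ∀ v : V, h • v = v → v = 0) :
    ∃ (L : Type) (_ : Group L) (_ : Finite L) (C : Subgroup L),
      Cfsg.IsFrobeniusComplement C ∧ Nonempty (H ≃* C) ∧
        Nat.card (Cfsg.frobeniusKernel C) = Nat.card V := by
  let φ : H →* MulAut (Multiplicative V) :=
    { toFun := fun h =>
        { toFun := fun v => Multiplicative.ofAdd (h • Multiplicative.toAdd v)
          invFun := fun v => Multiplicative.ofAdd (h⁻¹ • Multiplicative.toAdd v)
          left_inv := fun v => by simp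
          right_inv := fun v => by simp
          map_mul' := fun v w => by simp [smul_add] }
      map_one' := by ext v; simp
      map_mul' := fun a b => by ext v; simp [mul_smul] }
  have key := exists_frobenius_of_fpf_mulAut_card φ (by
    intro h hh n hn
    have := hfpf h hh (Multiplicative.toAdd n) (by
      have := congrArg Multiplicative.toAdd hn
      simpa [φ] using this)
    exact Multiplicative.toAdd.injective (by simpa using this))
  exact key

end Cfsg.Agent.Helper71
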