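import Cfsg.Agent.Helper71.FrobConstruct

set_option autoImplicit false

namespace Cfsg.Agent.Helper71

/-- Generic reduction-mod-`p` construction: a finitely generated abelian group `M` with an action
of a finite group `H` such that `M ≠ pM` and the induced action on `M/pM` is fixed-point-free
makes `H` a Frobenius complement. -/
theorem exists_frobenius_of_module {H M : Type*} [Group H] [Finite H] [Nontrivial H]
    [AddCommGroup M] [AddGroup.FG M] [DistribMulAction H M] (p : ℕ) (hp : 0 < p)
    (hne : ∃ x : M, ∀ y : M, x ≠ p • y)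
    (hfpf : ∀ h : H, h ≠ 1 → ∀ x y : M, h • x - x = p • y → ∃ z : M, x = p • z) :
    ∃ (L : Type) (_ : Group L) (_ : Finite L) (C : Subgroup L),
      Cfsg.IsFrobeniusComplement C ∧ Nonempty (H ≃* C) := by
  let pM : AddSubgroup M := (nsmulAddMonoidHom p : M →+ M).range
  have hmem : ∀ x : M, x ∈ pM ↔ ∃ y : M, x = p • y := by
    intro x
    constructor
    · rintro ⟨y, hy⟩
      exact ⟨y, hy.symm⟩
    · rintro ⟨y, rfl⟩
      exact ⟨y, rfl⟩
  have hstab : ∀ h : H, pM ≤ AddSubgroup.comap (DistribSMul.toAddMonoidHom M h) pM := by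
    intro h x hx
    obtain ⟨y, rfl⟩ := (hmem x).mp hx
    rw [AddSubgroup.mem_comap]
    exact (hmem _).mpr ⟨h • y, by
      change h • (p • y) = p • (h • y)
      exact smul_comm h p y⟩
  let φ : H → (M ⧸ pM) →+ (M ⧸ pM) := fun h =>
    QuotientAddGroup.map pM pM (DistribSMul.toAddMonoidHom M h) (hstab h)
  have hφ : ∀ (h : H) (x : M), φ h (x : M ⧸ pM) = ((h • x : M) : M ⧸ pM) := fun h x => rfl
  let inst : DistribMulAction H (M ⧸ pM) :=
    { smul := fun h v => φ h v
      one_smul := fun v => by
        induction v using QuotientAddGroup.induction_on with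
        | H x => change φ 1 (x : M ⧸ pM) = x; rw [hφ, one_smul]
      mul_smul := fun g h v => by
        induction v using QuotientAddGroup.induction_on with
        | H x =>
          change φ (g * h) (x : M ⧸ pM) = φ g (φ h (x : M ⧸ pM))
          rw [hφ, hφ, hφ, mul_smul]
      smul_zero := fun h => map_zero (φ h)
      smul_add := fun h v w => map_add (φ h) v w }
  have hsmul : ∀ (h : H) (x : M), h • (x : M ⧸ pM) = ((h • x : M) : M ⧸ pM) := fun h x => rfl
  have hfin : Finite (M ⧸ pM) := by
    apply AddCommGroup.finite_of_fg_isAddTorsion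
    intro v
    induction v using QuotientAddGroup.induction_on with
    | H x =>
      rw [isOfFinAddOrder_iff_nsmul_eq_zero]
      refine ⟨p, hp, ?_⟩
      rw [← QuotientAddGroup.mk_nsmul, QuotientAddGroup.eq_zero_iff]
      exact (hmem _).mpr ⟨x, rfl⟩
  have hnt : Nontrivial (M ⧸ pM) := by
    obtain ⟨x, hx⟩ := hne
    refine ⟨⟨(x : M ⧸ pM), 0, ?_⟩⟩
    rw [Ne, QuotientAddGroup.eq_zero_iff, hmem]
    rintro ⟨y, hy⟩
    exact hx y hy
  apply exists_frobenius_of_fpf_add (V := M ⧸ pM) (H := H)
  intro h hh v hv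
  induction v using QuotientAddGroup.induction_on with
  | H x =>
    rw [hsmul, QuotientAddGroup.eq, ] at hv
    rw [QuotientAddGroup.eq_zero_iff, hmem]
    have h1 : h • x - x ∈ pM := by
      have : -(h • x) + x ∈ pM := hv
      have h2 := pM.neg_mem this
      simpa [sub_eq_add_neg, add_comm] using h2
    obtain ⟨y, hy⟩ := (hmem _).mp h1
    exact hfpf h hh x y hy

end Cfsg.Agent.Helper71
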