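import Mathlib
import Cfsg.Prelude.Def_Solvable
import Cfsg.Agent.Helper71.QuatSquare
import Cfsg.Agent.Helper71.FrobCoprime
import Cfsg.Agent.Helper1.Frobenius

set_option autoImplicit false

namespace Cfsg.Agent.Helper71

/-- Multiplicative form of `isSquare_card_of_quaternion_action`. -/
theorem isSquare_card_of_quaternion_action_mul {M : Type*} [CommGroup M] [Finite M]
    (X Y : M →* M) (hX : ∀ m, X (X m) = m⁻¹) (hY : ∀ m, Y (Y m) = m⁻¹)
    (hXY : ∀ m, X (Y m) = (Y (X m))⁻¹) (hodd : Odd (Nat.card M)) : IsSquare (Nat.card M) := by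
  have hfin : Finite (Additive M) := ‹Finite M›
  exact isSquare_card_of_quaternion_action (M := Additive M) (MonoidHom.toAdditive X)
    (MonoidHom.toAdditive Y) (fun m => hX (Additive.toMul m)) (fun m => hY (Additive.toMul m))
    (fun m => hXY (Additive.toMul m)) hodd

/-- Version for a group with a commutativity hypothesis. -/
theorem isSquare_card_of_quaternion_action_grp {M : Type*} [Group M] [Finite M]
    (hcomm : ∀ a b : M, a * b = b * a)
    (X Y : M →* M) (hX : ∀ m, X (X m) = m⁻¹) (hY : ∀ m, Y (Y m) = m⁻¹)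
    (hXY : ∀ m, X (Y m) = (Y (X m))⁻¹) (hodd : Odd (Nat.card M)) : IsSquare (Nat.card M) := by
  letI : CommGroup M := { (inferInstance : Group M) with mul_comm := hcomm }
  exact isSquare_card_of_quaternion_action_mul X Y hX hY hXY hodd

/-- If a Frobenius complement contains a "quaternion pair" `x, y` (`x² = y²` an involution,
`y x y⁻¹ = x⁻¹`), then the Frobenius kernel has odd square order. -/
theorem frob_kernel_odd_square {L : Type*} [Group L] [Finite L] {H : Subgroup L}
    (hH : Cfsg.IsFrobeniusComplement H) {x y : L} (hx : x ∈ H)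
    (hyx : y * y = x * x) (hz1 : x * x ≠ 1) (hz2 : (x * x) * (x * x) = 1)
    (hrel : y * x * y⁻¹ = x⁻¹) :
    Odd (Nat.card (Cfsg.frobeniusKernel H)) ∧ IsSquare (Nat.card (Cfsg.frobeniusKernel H)) := by
  obtain ⟨N, hNn, hN, hcompl, hcop, hcard⟩ := frob_kernel_data hH
  rw [hcard]
  have hzH : x * x ∈ H := H.mul_mem hx hx
  have hinv : ∀ k ∈ N, (x * x) * k * (x * x) = k⁻¹ := fun k hk =>
    Helper1.frob_invol_inverts_kernel hH hzH hz1 hz2 (by rw [← hN]; exact hk)
  have hcomm : ∀ a b : N, a * b = b * a := fun a b => Subtype.ext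
    (Helper1.frob_kernel_commute hH hzH hz1 hz2 (by rw [← hN]; exact a.2)
      (by rw [← hN]; exact b.2))
  have hodd : Odd (Nat.card N) := by
    have h2 : 2 ∣ Nat.card H := by
      have h3 : orderOf (⟨x * x, hzH⟩ : H) = 2 := by
        apply orderOf_eq_prime
        · apply Subtype.ext
          simp [pow_two, hz2]
        · intro h; exact hz1 (congrArg Subtype.val h)
      rw [← h3]; exact orderOf_dvd_natCard _
    exact (Nat.Coprime.coprime_dvd_left h2 hcop).odd_of_left
  refine ⟨hodd, ?_⟩
  have := hNn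
  have hzinv : (x * x)⁻¹ = x * x := inv_eq_of_mul_eq_one_right hz2
  let X : N →* N := (MulAut.conjNormal x : N ≃* N).toMonoidHom
  let Y : N →* N := (MulAut.conjNormal y : N ≃* N).toMonoidHom
  have hXv : ∀ k : N, ((X k : N) : L) = x * k * x⁻¹ := fun k => rfl
  have hYv : ∀ k : N, ((Y k : N) : L) = y * k * y⁻¹ := fun k => rfl
  apply isSquare_card_of_quaternion_action_grp hcomm X Y
  · intro k
    apply Subtype.ext
    rw [hXv, hXv, Subgroup.coe_inv, ← hinv k k.2]
    have e : x * (x * (k : L) * x⁻¹) * x⁻¹ = (x * x) * k * (x * x)⁻¹ := by group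
    rw [e, hzinv]
  · intro k
    apply Subtype.ext
    rw [hYv, hYv, Subgroup.coe_inv, ← hinv k k.2]
    have e : y * (y * (k : L) * y⁻¹) * y⁻¹ = (y * y) * k * (y * y)⁻¹ := by group
    rw [e, hyx, hzinv]
  · intro k
    apply Subtype.ext
    rw [hXv, hYv, Subgroup.coe_inv, hYv, hXv]
    -- x y = y x (x x)⁻¹ ... use y x = x⁻¹ y
    have h1 : y * x = x⁻¹ * y := by
      have := congrArg (· * y) hrel
      simpa [mul_assoc] using this
    have h2 : x * y = y * x * (x * x) := by
      have h3 : x * y = y * x⁻¹ := by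
        calc x * y = x * (y * x) * x⁻¹ := by group
          _ = x * (x⁻¹ * y) * x⁻¹ := by rw [h1]
          _ = y * x⁻¹ := by group
      calc x * y = y * x⁻¹ := h3
        _ = y * x * (x * x)⁻¹ := by group
        _ = y * x * (x * x) := by rw [hzinv]
    have e : x * (y * (k : L) * y⁻¹) * x⁻¹ = (x * y) * k * (x * y)⁻¹ := by group
    rw [e, h2]
    have e2 : y * x * (x * x) * (k : L) * (y * x * (x * x))⁻¹
        = (y * x) * ((x * x) * k * (x * x)⁻¹) * (y * x)⁻¹ := by group
    rw [e2, hzinv, hinv k k.2]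
    group
  · exact hodd

end Cfsg.Agent.Helper71
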