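import Cfsg.Agent.Helper71.FpfZGroup
import Cfsg.Agent.Helper1.CoprimeAction

/-!
# Frobenius complements from fixed-point-free action on a section (helper71)

If `H` normalizes `B ≤ A` (with `A` normalizing `B`, `B ≠ A`, coprime orders) and every element of
`A` commuting with a non-identity element of `H` lies in `B`, then `H` acts fixed-point-freely on
`A / B`, hence is (isomorphic to) a Frobenius complement.
-/

set_option autoImplicit false

namespace Cfsg.Agent.Helper71

open Subgroup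

universe u

theorem frobenius_section {G : Type u} [Group G] [Finite G] (H A B : Subgroup G) (hH : H ≠ ⊥)
    (hBA : B ≤ A) (hne : ∃ s ∈ A, s ∉ B) (hAB : A ≤ normalizer (B : Set G))
    (hHA : H ≤ normalizer (A : Set G)) (hHB : H ≤ normalizer (B : Set G))
    (hcop : (Nat.card A).Coprime (Nat.card H))
    (hfpf : ∀ h ∈ H, h ≠ 1 → ∀ a ∈ A, a * h = h * a → a ∈ B) :
    ∃ (F : Type u) (_ : Group F) (_ : Finite F) (C : Subgroup F),
      Cfsg.IsFrobeniusComplement C ∧ Nonempty (H ≃* C) := by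
  classical
  set F₀ : Subgroup G := A ⊔ H with hF₀
  have hAF : A ≤ F₀ := le_sup_left
  have hHF : H ≤ F₀ := le_sup_right
  have hBF : B ≤ F₀ := hBA.trans hAF
  have hF₀B : F₀ ≤ normalizer (B : Set G) := sup_le hAB hHB
  have hF₀A : F₀ ≤ normalizer (A : Set G) := sup_le le_normalizer hHA
  have hBn : (B.subgroupOf F₀).Normal := (normal_subgroupOf_iff_le_normalizer hBF).mpr hF₀B
  have hAn : (A.subgroupOf F₀).Normal := (normal_subgroupOf_iff_le_normalizer hAF).mpr hF₀A
  let q : F₀ →* F₀ ⧸ B.subgroupOf F₀ := QuotientGroup.mk' (B.subgroupOf F₀)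
  have hq1 : ∀ x : F₀, q x = 1 ↔ (x : G) ∈ B := by
    intro x
    show (QuotientGroup.mk' (B.subgroupOf F₀)) x = 1 ↔ _
    rw [QuotientGroup.mk'_apply, QuotientGroup.eq_one_iff, mem_subgroupOf]
  let fA : A →* F₀ ⧸ B.subgroupOf F₀ := q.comp (inclusion hAF)
  let fH : H →* F₀ ⧸ B.subgroupOf F₀ := q.comp (inclusion hHF)
  -- disjointness
  have hdisj : ∀ h ∈ H, h ∈ A → h = 1 := by
    intro h hh ha
    have h1 : orderOf h ∣ Nat.card A := by
      have := orderOf_dvd_natCard (⟨h, ha⟩ : A)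
      rwa [Subgroup.orderOf_mk] at this
    have h2 : orderOf h ∣ Nat.card H := by
      have := orderOf_dvd_natCard (⟨h, hh⟩ : H)
      rwa [Subgroup.orderOf_mk] at this
    have h3 := Nat.eq_one_of_dvd_coprimes hcop h1 h2
    exact orderOf_eq_one_iff.mp h3
  have hfHinj : Function.Injective fH := by
    rw [injective_iff_map_eq_one]
    intro h hh
    have h1 : ((inclusion hHF h : F₀) : G) ∈ B := (hq1 _).mp hh
    have h2 : (h : G) ∈ B := h1
    exact Subtype.ext (hdisj h h.2 (hBA h2))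
  set Abar : Subgroup (F₀ ⧸ B.subgroupOf F₀) := fA.range with hAbar
  set Xbar : Subgroup (F₀ ⧸ B.subgroupOf F₀) := fH.range with hXbar
  have hAbarN : Abar.Normal := by
    have h1 : Abar = (A.subgroupOf F₀).map q := by
      rw [hAbar, MonoidHom.range_comp]
      congr 1
      exact Subgroup.inclusion_range hAF
    rw [h1]
    exact Subgroup.Normal.map hAn q (QuotientGroup.mk'_surjective _)
  have hAbar1 : Abar ≠ ⊥ := by
    obtain ⟨s, hsA, hsB⟩ := hne
    intro hbot
    have h1 : fA ⟨s, hsA⟩ ∈ Abar := ⟨_, rfl⟩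
    rw [hbot, mem_bot] at h1
    exact hsB ((hq1 _).mp h1)
  have hXbar1 : Xbar ≠ ⊥ := by
    intro hbot
    apply hH
    rw [eq_bot_iff]
    intro h hh
    have h1 : fH ⟨h, hh⟩ ∈ Xbar := ⟨_, rfl⟩
    rw [hbot, mem_bot] at h1
    have := hfHinj (h1.trans (map_one fH).symm)
    rw [mem_bot]
    exact congrArg Subtype.val this
  have hfpf' : ∀ x ∈ Xbar, x ≠ 1 → ∀ y ∈ Abar, y ≠ 1 → x * y ≠ y * x := by
    rintro _ ⟨h, rfl⟩ hx1 _ ⟨a, rfl⟩ hy1 hcomm
    have hh1 : (h : G) ≠ 1 := by
      intro hc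
      apply hx1
      have : h = 1 := Subtype.ext hc
      rw [this, map_one]
    have haB : (a : G) ∉ B := by
      intro hc
      apply hy1
      exact (hq1 _).mpr hc
    -- all powers of `h` commute with `a` modulo `B`
    have hpow : ∀ c ∈ zpowers (h : G), ∃ d ∈ B, c * (a : G) * c⁻¹ = d * (a : G) := by
      intro c hc
      obtain ⟨k, rfl⟩ := mem_zpowers_iff.mp hc
      have hcomm' : Commute (fH h) (fA a) := hcomm
      have h1 : Commute (fH (h ^ k)) (fA a) := by
        rw [map_zpow]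
        exact hcomm'.zpow_left k
      have h2 : fH (h ^ k) * fA a * (fH (h ^ k))⁻¹ * (fA a)⁻¹ = 1 := by
        rw [h1.eq]; group
      have hmem : ((h : G) ^ k) ∈ F₀ := F₀.zpow_mem (hHF h.2) k
      have h3 : q (⟨(h : G) ^ k, hmem⟩ * ⟨(a : G), hAF a.2⟩ * ⟨(h : G) ^ k, hmem⟩⁻¹
          * ⟨(a : G), hAF a.2⟩⁻¹) = 1 := by
        rw [map_mul, map_mul, map_mul, map_inv, map_inv]
        exact h2
      have h4 := (hq1 _).mp h3
      refine ⟨_, h4, ?_⟩
      push_cast
      group
    have hzn : zpowers (h : G) ≤ normalizer (B : Set G) := by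
      rw [zpowers_le]
      exact hHB h.2
    have hzcard : (Nat.card (zpowers (h : G))).Coprime (Nat.card B) := by
      rw [Nat.card_zpowers]
      have h2 : orderOf (h : G) ∣ Nat.card H := by
        have := orderOf_dvd_natCard h
        rwa [← Subgroup.orderOf_coe] at this
      have h3 : Nat.card B ∣ Nat.card A := Subgroup.card_dvd_of_le hBA
      exact (Nat.Coprime.coprime_dvd_left h3 (Nat.Coprime.coprime_dvd_right h2 hcop)).symm
    have hsolv : Group.IsSolvable (zpowers (h : G)) := by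
      apply isSolvable_of_comm
      intro x y
      exact (zpowers_isMulCommutative (h : G)).is_comm.comm x y
    obtain ⟨d, hdB, hd⟩ := Helper1.exists_mem_coset_centralizer (zpowers (h : G)) B hzn hzcard
      (Or.inl hsolv) (a : G) hpow
    have h5 : (d * (a : G)) * (h : G) = (h : G) * (d * (a : G)) :=
      (mem_centralizer_iff.mp hd (h : G) (mem_zpowers _)).symm
    have h6 := hfpf (h : G) h.2 hh1 (d * (a : G)) (A.mul_mem (hBA hdB) a.2) h5
    apply haB
    have : (a : G) = d⁻¹ * (d * (a : G)) := by group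
    rw [this]
    exact B.mul_mem (B.inv_mem hdB) h6
  have hFC := isFrobeniusComplement_subgroupOf_sup_of_fpf Abar Xbar hAbar1 hXbar1 hfpf'
  refine ⟨↥(Xbar ⊔ Abar), inferInstance, inferInstance, Xbar.subgroupOf (Xbar ⊔ Abar), hFC, ?_⟩
  exact ⟨(MonoidHom.ofInjective hfHinj).trans (subgroupOfEquivOfLe le_sup_left).symm⟩

end Cfsg.Agent.Helper71
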