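import Cfsg.Agent.Helper71.S4Embed
import Cfsg.Agent.Helper73.PGroupCyclic
import Cfsg.Agent.Helper55.CyclicInf

/-!
# Structure of solvable groups with "rank one" Sylow subgroups (helper71)

Let `G` be a finite solvable group in which every `2`-subgroup has at most one involution and every
subgroup of odd prime power order is cyclic (for instance a solvable Frobenius complement).  Then there
is a homomorphism `f : G →* Perm (Fin 4)` all of whose kernel's Sylow subgroups are cyclic
(`exists_perm_hom_ker_sylow_cyclic`).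
-/

set_option autoImplicit false

namespace Cfsg.Agent.Helper71

open Subgroup

/-- every `2`-subgroup has at most one involution. -/
def TwoRankOne (G : Type*) [Group G] : Prop :=
  ∀ S : Subgroup G, IsPGroup 2 S → ∀ u ∈ S, ∀ v ∈ S, u ≠ 1 → v ≠ 1 → u ^ 2 = 1 → v ^ 2 = 1 → u = v

section Basic

variable {G : Type*} [Group G]

theorem TwoRankOne.uniqueOrderP_subgroup (h : TwoRankOne G) (T : Subgroup G) (hT : IsPGroup 2 T) :
    Cfsg.Agent.Helper73.UniqueOrderP 2 T := by
  intro x y hx hy
  have hx1 : (x : G) ≠ 1 := by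
    intro h1
    have : x = 1 := Subtype.ext h1
    rw [this, orderOf_one] at hx
    norm_num at hx
  have hy1 : (y : G) ≠ 1 := by
    intro h1
    have : y = 1 := Subtype.ext h1
    rw [this, orderOf_one] at hy
    norm_num at hy
  have hx2 : (x : G) ^ 2 = 1 := by
    have : x ^ 2 = 1 := by rw [← hx]; exact pow_orderOf_eq_one x
    have := congrArg Subtype.val this
    simpa using this
  have hy2 : (y : G) ^ 2 = 1 := by
    have : y ^ 2 = 1 := by rw [← hy]; exact pow_orderOf_eq_one y
    have := congrArg Subtype.val this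
    simpa using this
  have := h T hT x x.2 y y.2 hx1 hy1 hx2 hy2
  have hxy : x = y := Subtype.ext this
  rw [hxy]
  exact mem_zpowers y

theorem TwoRankOne.uniqueOrderP (h : TwoRankOne G) (hG : IsPGroup 2 G) :
    Cfsg.Agent.Helper73.UniqueOrderP 2 G := by
  intro x y hx hy
  have hx1 : x ≠ 1 := by
    rintro rfl
    rw [orderOf_one] at hx
    norm_num at hx
  have hy1 : y ≠ 1 := by
    rintro rfl
    rw [orderOf_one] at hy
    norm_num at hy
  have hx2 : x ^ 2 = 1 := by rw [← hx]; exact pow_orderOf_eq_one x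
  have hy2 : y ^ 2 = 1 := by rw [← hy]; exact pow_orderOf_eq_one y
  have := h ⊤ (hG.to_subgroup ⊤) x (mem_top x) y (mem_top y) hx1 hy1 hx2 hy2
  rw [this]
  exact mem_zpowers y

/-- the property passes to the quotient by a normal subgroup of odd order. -/
theorem TwoRankOne.quotient [Finite G] (h : TwoRankOne G) (K : Subgroup G) [K.Normal]
    (hK : (Nat.card K).Coprime 2) : TwoRankOne (G ⧸ K) := by
  have : Fact (Nat.Prime 2) := ⟨Nat.prime_two⟩
  intro W hW ub hub vb hvb hub1 hvb1 hub2 hvb2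
  obtain ⟨Q, hQ, hQW⟩ := Cfsg.Agent.Helper55.exists_pgroup_map_eq (QuotientGroup.mk' K)
    (QuotientGroup.mk'_surjective K) W hW
  have hdisj : Q ⊓ K = ⊥ := by
    obtain ⟨k, hk⟩ := IsPGroup.iff_card.mp hQ
    apply (Subgroup.disjoint_of_coprime_natCard _).eq_bot
    rw [hk]
    exact Nat.Coprime.pow_left k hK.symm
  rw [← hQW] at hub hvb
  obtain ⟨u, huQ, rfl⟩ := hub
  obtain ⟨v, hvQ, rfl⟩ := hvb
  have key : ∀ w ∈ Q, (QuotientGroup.mk' K w) ^ 2 = 1 → w ^ 2 = 1 := by
    intro w hw hw2
    have h1 : w ^ 2 ∈ K := by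
      rw [← map_pow] at hw2
      exact (QuotientGroup.eq_one_iff _).mp hw2
    have h2 : w ^ 2 ∈ Q ⊓ K := ⟨Q.pow_mem hw 2, h1⟩
    rw [hdisj, mem_bot] at h2
    exact h2
  have hu1 : u ≠ 1 := by
    rintro rfl
    exact hub1 (map_one _)
  have hv1 : v ≠ 1 := by
    rintro rfl
    exact hvb1 (map_one _)
  rw [h Q hQ u huQ v hvQ hu1 hv1 (key u huQ hub2) (key v hvQ hvb2)]

end Basic

section CyclicSection

/-- Lemma X: in a finite solvable group `K` with `O(K) = 1`, if `O_2(K)` has a cyclic subgroup `Q₀`, normal in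
`K`, modulo which every element acts trivially on `O_2(K)`, then `K` is a 2-group. -/
theorem fss_isPGroup_two_of_cyclic_section {K : Type*} [Group K] [Finite K] [Group.IsSolvable K]
    (hcore : Cfsg.pPrimeCore 2 K = ⊥) (Q₀ : Subgroup K) (hQ₀n : Q₀.Normal) (hQ₀c : IsCyclic Q₀)
    (hQ₀Q : Q₀ ≤ Cfsg.pCore 2 K)
    (hact : ∀ g q : K, q ∈ Cfsg.pCore 2 K → g * q * g⁻¹ * q⁻¹ ∈ Q₀) : IsPGroup 2 K := by
  have : Fact (Nat.Prime 2) := ⟨Nat.prime_two⟩
  have hQ2 : IsPGroup 2 (Cfsg.pCore 2 K) := Cfsg.Agent.Lib.isPGroup_pCore 2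
  have hQ₀2 : IsPGroup 2 Q₀ := hQ2.to_le hQ₀Q
  apply Cfsg.Agent.Helper55.isPGroup_of_forall_coprime_eq_one
  intro a ha
  have hcen := Cfsg.Agent.Helper55.mem_centralizer_of_odd_of_cyclic_two_group Q₀ hQ₀c hQ₀2 a ha
  -- a centralizes all of O_2(K)
  have hcenQ : a ∈ Subgroup.centralizer (Cfsg.pCore 2 K : Set K) := by
    rw [Subgroup.mem_centralizer_iff]
    intro q hq
    set c := a * q * a⁻¹ * q⁻¹ with hc
    have hcQ₀ : c ∈ Q₀ := hact a q hq
    have hac : c * a = a * c := (Subgroup.mem_centralizer_iff.mp hcen) c hcQ₀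
    have hpow : ∀ j : ℕ, a ^ j * q * (a ^ j)⁻¹ = c ^ j * q := by
      intro j
      induction j with
      | zero => simp
      | succ j ih =>
        have e1 : a ^ (j + 1) * q * (a ^ (j + 1))⁻¹ = a * (a ^ j * q * (a ^ j)⁻¹) * a⁻¹ := by
          rw [pow_succ']; group
        have hacj : a * c ^ j = c ^ j * a := by
          have : Commute a c := hac.symm
          exact (this.pow_right j)
        rw [e1, ih]
        calc a * (c ^ j * q) * a⁻¹ = (a * c ^ j) * q * a⁻¹ := by group
          _ = c ^ j * a * q * a⁻¹ := by rw [hacj]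
          _ = c ^ j * (a * q * a⁻¹ * q⁻¹) * q := by group
          _ = c ^ (j + 1) * q := by rw [← hc, pow_succ]
    have h1 := hpow (orderOf a)
    rw [pow_orderOf_eq_one] at h1
    have h2 : c ^ orderOf a = 1 := by
      have : q = c ^ orderOf a * q := by simpa using h1
      exact (mul_eq_right.mp this.symm)
    have hc1 : c = 1 := by
      obtain ⟨k, hk⟩ := (IsPGroup.iff_orderOf.mp hQ₀2) ⟨c, hcQ₀⟩
      rw [Subgroup.orderOf_mk] at hk
      have hdvd : orderOf c ∣ orderOf a := orderOf_dvd_of_pow_eq_one h2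
      have hco : (orderOf c).Coprime 2 := Nat.Coprime.coprime_dvd_left hdvd ha
      rw [hk] at hco
      have hk0 : k = 0 := by
        by_contra h0
        have := (Nat.coprime_pow_left_iff (Nat.pos_of_ne_zero h0) 2 2).mp hco
        norm_num at this
      rw [hk0, pow_zero] at hk
      exact orderOf_eq_one_iff.mp hk
    -- a q a⁻¹ q⁻¹ = 1
    have : a * q * a⁻¹ * q⁻¹ = 1 := hc ▸ hc1
    calc q * a = (a * q * a⁻¹ * q⁻¹)⁻¹ * (a * q) := by group
      _ = a * q := by rw [this, inv_one, one_mul]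
  have haQ : a ∈ Cfsg.pCore 2 K := Cfsg.Agent.Helper55.centralizer_pCore_le 2 hcore hcenQ
  obtain ⟨j, hj⟩ := (IsPGroup.iff_orderOf.mp hQ2) ⟨a, haQ⟩
  rw [Subgroup.orderOf_mk] at hj
  rw [hj] at ha
  have hj0 : j = 0 := by
    by_contra h0
    have := (Nat.coprime_pow_left_iff (Nat.pos_of_ne_zero h0) 2 2).mp ha
    norm_num at this
  rw [hj0, pow_zero] at hj
  exact orderOf_eq_one_iff.mp hj

end CyclicSection

section Quat

variable {P : Type*} [Group P]

/-- in a "quaternion-like" group `⟨a, x⟩`, elements outside `⟨a⟩` have order dividing 4. -/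
theorem fss_pow_four_eq_one {a x : P} {m : ℕ} (hm : 1 ≤ m) (ha : orderOf a = 2 ^ m)
    (hx : x ∉ zpowers a) (hconj : x * a * x⁻¹ = a⁻¹) (hx2 : x ^ 2 = a ^ (2 ^ (m - 1)))
    (hidx : (zpowers a).index = 2) (y : P) (hy : y ∉ zpowers a) : y ^ 4 = 1 := by
  have h1 : x⁻¹ * y ∈ zpowers a := by
    rw [mul_mem_iff_of_index_two hidx]
    constructor
    · intro h; exact absurd ((zpowers a).inv_mem_iff.mp h) hx
    · intro h; exact absurd h hy
  obtain ⟨k, hk⟩ := mem_zpowers_iff.mp h1
  have hyx : y = x * a ^ k := by rw [hk]; group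
  have hconjk : x * a ^ k * x⁻¹ = (a ^ k)⁻¹ := by
    rw [← conj_zpow, hconj, inv_zpow]
  have hcomm : Commute (x ^ 2) (a ^ k) := by
    rw [hx2]
    exact ((Commute.refl a).pow_left _).zpow_right k
  have hy2 : y ^ 2 = x ^ 2 := by
    calc y ^ 2 = (x * a ^ k) * (x * a ^ k) := by rw [hyx, pow_two]
      _ = (x * a ^ k * x⁻¹) * (x ^ 2 * a ^ k) := by rw [pow_two]; group
      _ = (a ^ k)⁻¹ * (a ^ k * x ^ 2) := by rw [hconjk, hcomm.eq]
      _ = x ^ 2 := by group
  calc y ^ 4 = (y ^ 2) ^ 2 := by rw [← pow_mul]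
    _ = (a ^ (2 ^ (m - 1))) ^ 2 := by rw [hy2, hx2]
    _ = a ^ (2 ^ m) := by
        rw [← pow_mul, ← pow_succ, Nat.sub_add_cancel hm]
    _ = 1 := by rw [← ha]; exact pow_orderOf_eq_one a

end Quat


section Core

variable {Γ : Type*} [Group Γ] [Finite Γ]

/-- a finite solvable group with `O(Γ) = 1` and at most one involution in each `2`-subgroup is a
`2`-group or has `|O₂(Γ)| = 8`. -/
theorem fss_isPGroup_or_card_eight [Group.IsSolvable Γ]
    (hcore : Cfsg.pPrimeCore 2 Γ = ⊥) (hR : TwoRankOne Γ) :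
    IsPGroup 2 Γ ∨ Nat.card (Cfsg.pCore 2 Γ) = 8 := by
  have : Fact (Nat.Prime 2) := ⟨Nat.prime_two⟩
  set T := Cfsg.pCore 2 Γ with hT
  have hTn : T.Normal := Cfsg.pCore_normal 2 Γ
  have hT2 : IsPGroup 2 T := Cfsg.Agent.Lib.isPGroup_pCore 2
  have hU := hR.uniqueOrderP_subgroup T hT2
  rcases Cfsg.Agent.Helper73.cyclic_or_quaternion_structure hT2 hU with
    hc | ⟨-, m, a, x, hm, ha, hx, hconj, hx2, hidx⟩
  · left
    refine fss_isPGroup_two_of_cyclic_section hcore T hTn hc le_rfl ?_
    intro g q hq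
    exact T.mul_mem (hTn.conj_mem q hq g) (T.inv_mem hq)
  · by_cases hm2 : m = 2
    · right
      have h1 := (zpowers a).card_mul_index
      rw [hidx, Nat.card_zpowers, ha, hm2] at h1
      rw [← h1]
      norm_num
    · left
      have hm3 : 3 ≤ m := by omega
      set Q₀ : Subgroup Γ := zpowers (a : Γ) with hQ₀
      have hQ₀T : Q₀ ≤ T := by rw [hQ₀, zpowers_le]; exact a.2
      have hmemA : ∀ t : T, (t : Γ) ∈ Q₀ ↔ t ∈ zpowers a := by
        intro t
        rw [hQ₀, mem_zpowers_iff, mem_zpowers_iff]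
        constructor
        · rintro ⟨k, hk⟩; exact ⟨k, Subtype.ext (by simpa using hk)⟩
        · rintro ⟨k, hk⟩; exact ⟨k, by rw [← hk]; simp⟩
      have hconja : ∀ g : Γ, g * (a : Γ) * g⁻¹ ∈ Q₀ := by
        intro g
        set a' : T := ⟨g * (a : Γ) * g⁻¹, hTn.conj_mem _ a.2 g⟩ with ha'
        rw [show g * (a : Γ) * g⁻¹ = (a' : Γ) from rfl, hmemA]
        by_contra hna
        have h4 := fss_pow_four_eq_one (by omega) ha hx hconj hx2 hidx a' hna
        have h4' : (a : Γ) ^ 4 = 1 := by
          have h5 : (g * (a : Γ) * g⁻¹) ^ 4 = 1 := by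
            have h40 := congrArg Subtype.val h4
            rw [Subgroup.coe_pow, Subgroup.coe_one] at h40
            exact h40
          rw [conj_pow] at h5
          calc (a : Γ) ^ 4 = g⁻¹ * (g * (a : Γ) ^ 4 * g⁻¹) * g := by group
            _ = 1 := by rw [h5]; group
        have h6 : orderOf a ∣ 4 := by
          apply orderOf_dvd_of_pow_eq_one
          exact Subtype.ext (by simpa using h4')
        rw [ha] at h6
        have h7 : 2 ^ 3 ∣ 2 ^ m := pow_dvd_pow 2 hm3
        have h8 : 2 ^ 3 ∣ 4 := h7.trans h6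
        revert h8; decide
      have hQ₀n : Q₀.Normal := by
        constructor
        intro y hy g
        obtain ⟨k, rfl⟩ := mem_zpowers_iff.mp hy
        rw [← conj_zpow]
        exact Q₀.zpow_mem (hconja g) k
      have hQ₀c : IsCyclic Q₀ := by rw [hQ₀]; infer_instance
      refine fss_isPGroup_two_of_cyclic_section hcore Q₀ hQ₀n hQ₀c hQ₀T ?_
      intro g q hq
      set q' : T := ⟨q, hq⟩ with hq'
      set q'' : T := ⟨g * q * g⁻¹, hTn.conj_mem _ hq g⟩ with hq''
      have h1 : q'' * q'⁻¹ ∈ zpowers a := by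
        rw [mul_mem_iff_of_index_two hidx, inv_mem_iff, ← hmemA, ← hmemA]
        constructor
        · intro h
          exact by
            have := hQ₀n.conj_mem _ h g⁻¹
            have e : g⁻¹ * (g * q * g⁻¹) * g⁻¹⁻¹ = q := by group
            rw [hq''] at this
            simp only at this
            rw [e] at this
            exact this
        · intro h
          exact hQ₀n.conj_mem _ h g
      have h2 := (hmemA _).mpr h1
      simpa using h2

end Core


section TwoGroup

variable {Γ : Type*} [Group Γ] [Finite Γ]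

/-- a group of order at most `4` embeds in `Perm (Fin 4)`. -/
theorem exists_injective_perm_of_card_le_four {X : Type*} [Group X] [Finite X]
    (h : Nat.card X ≤ 4) : ∃ f : X →* Equiv.Perm (Fin 4), Function.Injective f :=
  exists_injective_perm_fin_four (Ω := X) h inferInstance

/-- a finite `2`-group with at most one involution has a cyclic normal subgroup of index at most `2`,
in the form of a homomorphism to `Perm (Fin 4)` with cyclic kernel. -/
theorem fss_two_group (h2 : IsPGroup 2 Γ) (hR : TwoRankOne Γ) :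
    ∃ f : Γ →* Equiv.Perm (Fin 4), IsCyclic f.ker := by
  have : Fact (Nat.Prime 2) := ⟨Nat.prime_two⟩
  rcases Cfsg.Agent.Helper73.cyclic_or_quaternion_structure h2 (hR.uniqueOrderP h2) with
    hc | ⟨-, m, a, x, hm, ha, hx, hconj, hx2, hidx⟩
  · refine ⟨1, ?_⟩
    rw [MonoidHom.ker_one]
    exact isCyclic_of_surjective (Subgroup.topEquiv.symm.toMonoidHom)
      (Subgroup.topEquiv.symm.surjective)
  · have hn : (zpowers a).Normal := Subgroup.normal_of_index_eq_two hidx
    have hcard : Nat.card (Γ ⧸ zpowers a) ≤ 4 := by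
      rw [← Subgroup.index_eq_card, hidx]; norm_num
    obtain ⟨fX, hfX⟩ := exists_injective_perm_of_card_le_four hcard
    refine ⟨fX.comp (QuotientGroup.mk' (zpowers a)), ?_⟩
    rw [MonoidHom.ker_comp_of_injective _ _ hfX, QuotientGroup.ker_mk']
    infer_instance

end TwoGroup


section QEight

variable {Γ : Type*} [Group Γ] [Finite Γ]

/-- the case `|O₂(Γ)| = 8`, `Γ` not a `2`-group: `Γ / Z(O₂(Γ))` embeds in `Perm (Fin 4)`. -/
theorem fss_q8_case [Group.IsSolvable Γ] (hcore : Cfsg.pPrimeCore 2 Γ = ⊥) (hR : TwoRankOne Γ)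
    (h8 : Nat.card (Cfsg.pCore 2 Γ) = 8) (hn2 : ¬ IsPGroup 2 Γ) :
    ∃ f : Γ →* Equiv.Perm (Fin 4), IsCyclic f.ker := by
  have : Fact (Nat.Prime 2) := ⟨Nat.prime_two⟩
  set T := Cfsg.pCore 2 Γ with hT
  have hTn : T.Normal := Cfsg.pCore_normal 2 Γ
  have hT2 : IsPGroup 2 T := Cfsg.Agent.Lib.isPGroup_pCore 2
  -- an involution `z` in `T`
  obtain ⟨z', hz'⟩ := exists_prime_orderOf_dvd_card' (G := T) 2 (by rw [h8]; norm_num)
  set z : Γ := (z' : Γ) with hz
  have hzT : z ∈ T := z'.2
  have hzo : orderOf z = 2 := by rw [hz, Subgroup.orderOf_coe]; exact hz'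
  have hz1 : z ≠ 1 := by
    intro h
    rw [h, orderOf_one] at hzo
    norm_num at hzo
  have hz2 : z ^ 2 = 1 := by rw [← hzo]; exact pow_orderOf_eq_one z
  -- `z` is central
  have hzc : ∀ g : Γ, g * z * g⁻¹ = z := by
    intro g
    apply hR T hT2 _ (hTn.conj_mem z hzT g) z hzT ?_ hz1 ?_ hz2
    · intro h
      apply hz1
      calc z = g⁻¹ * (g * z * g⁻¹) * g := by group
        _ = 1 := by rw [h]; group
    · rw [conj_pow, hz2]; group
  have hzcomm : ∀ g : Γ, Commute g z := by
    intro g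
    show g * z = z * g
    calc g * z = (g * z * g⁻¹) * g := by group
      _ = z * g := by rw [hzc]
  set Z : Subgroup Γ := zpowers z with hZ
  have hZn : Z.Normal := by
    constructor
    intro y hy g
    obtain ⟨k, rfl⟩ := mem_zpowers_iff.mp hy
    rw [← conj_zpow, hzc]
    exact zpow_mem (mem_zpowers z) k
  have hZcard : Nat.card Z = 2 := by rw [hZ, Nat.card_zpowers, hzo]
  have hZT : Z ≤ T := by rw [hZ, zpowers_le]; exact hzT
  have hZelt : ∀ ζ ∈ Z, ζ * ζ = 1 ∧ ∀ g : Γ, g * ζ = ζ * g := by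
    intro ζ hζ
    obtain ⟨k, rfl⟩ := mem_zpowers_iff.mp hζ
    constructor
    · rw [← zpow_add, ← two_mul, zpow_mul, zpow_ofNat, hz2, one_zpow]
    · intro g; exact ((hzcomm g).zpow_right k).eq
  set π := QuotientGroup.mk' Z with hπ
  have hπs : Function.Surjective π := QuotientGroup.mk'_surjective Z
  set V : Subgroup (Γ ⧸ Z) := T.map π with hV
  have hVn : V.Normal := hTn.map π hπs
  have hcardΓ : Nat.card Γ = Nat.card (Γ ⧸ Z) * Nat.card Z :=
    Subgroup.card_eq_card_quotient_mul_card_subgroup Z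
  have hVcard : Nat.card V = 4 := by
    have h1 : V.index = T.index :=
      Subgroup.index_map_eq T hπs (by rw [QuotientGroup.ker_mk']; exact hZT)
    have h2 := V.card_mul_index
    have h3 := T.card_mul_index
    have h4 := hcardΓ
    rw [h1] at h2; rw [h8] at h3; rw [hZcard] at h4
    have hpos : 0 < T.index := Nat.pos_of_ne_zero T.index_ne_zero_of_finite
    have h5 : Nat.card V * T.index * 2 = 4 * T.index * 2 := by rw [h2, ← h4, ← h3]; ring
    have h6 := Nat.eq_of_mul_eq_mul_right (by norm_num) h5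
    exact Nat.eq_of_mul_eq_mul_right hpos h6
  -- the centralizer of `V`
  have hC : centralizer (V : Set (Γ ⧸ Z)) ≤ V := by
    set D : Subgroup Γ := (centralizer (V : Set (Γ ⧸ Z))).comap π with hD
    have hDn : D.Normal := (Subgroup.normal_centralizer (H := V)).comap π
    have hD2 : IsPGroup 2 D := by
      apply Cfsg.Agent.Helper55.isPGroup_of_forall_coprime_eq_one
      intro d hd
      have hdo : (orderOf (d : Γ)).Coprime 2 := by rw [Subgroup.orderOf_coe]; exact hd
      have hdcen : (d : Γ) ∈ centralizer (T : Set Γ) := by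
        rw [mem_centralizer_iff]
        intro t ht
        have hζ : (d : Γ) * t * (d : Γ)⁻¹ * t⁻¹ ∈ Z := by
          rw [← QuotientGroup.ker_mk' Z, MonoidHom.mem_ker]
          have h1 : π t * π d = π d * π t :=
            (mem_centralizer_iff.mp d.2) (π t) (mem_map_of_mem π ht)
          have h2 : π ((d : Γ) * t * (d : Γ)⁻¹ * t⁻¹) = π d * π t * (π d)⁻¹ * (π t)⁻¹ := by
            simp only [map_mul, map_inv]
          rw [h2, ← h1]
          group
        obtain ⟨hζ2, hζc⟩ := hZelt _ hζ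
        set ζ := (d : Γ) * t * (d : Γ)⁻¹ * t⁻¹ with hζdef
        have hdt : (d : Γ) * t = ζ * t * d := by rw [hζdef]; group
        have hd2 : Commute ((d : Γ) ^ 2) t := by
          show (d : Γ) ^ 2 * t = t * (d : Γ) ^ 2
          calc (d : Γ) ^ 2 * t = d * (d * t) := by rw [pow_two, mul_assoc]
            _ = d * (ζ * t * d) := by rw [hdt]
            _ = (d * ζ) * t * d := by group
            _ = ζ * (d * t) * d := by rw [hζc d]; group
            _ = ζ * (ζ * t * d) * d := by rw [hdt]
            _ = (ζ * ζ) * t * (d * d) := by group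
            _ = t * (d : Γ) ^ 2 := by rw [hζ2, one_mul, pow_two]
        have hodd : Odd (orderOf (d : Γ)) := Nat.Coprime.odd_of_right hdo
        obtain ⟨j, hj⟩ := hodd
        have hdpow : ((d : Γ) ^ 2) ^ (j + 1) = d := by
          rw [← pow_mul, show 2 * (j + 1) = orderOf (d : Γ) + 1 by omega, pow_succ,
            pow_orderOf_eq_one, one_mul]
        have := hd2.pow_left (j + 1)
        rw [hdpow] at this
        exact this.eq.symm
      have hdT : (d : Γ) ∈ T := Cfsg.Agent.Helper55.centralizer_pCore_le 2 hcore hdcen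
      obtain ⟨j, hj⟩ := (IsPGroup.iff_orderOf.mp hT2) ⟨d, hdT⟩
      rw [Subgroup.orderOf_mk] at hj
      rw [hj] at hdo
      have hj0 : j = 0 := by
        by_contra h0
        have := (Nat.coprime_pow_left_iff (Nat.pos_of_ne_zero h0) 2 2).mp hdo
        norm_num at this
      rw [hj0, pow_zero] at hj
      exact Subtype.ext (orderOf_eq_one_iff.mp hj)
    have hDT : D ≤ T := Cfsg.Agent.Lib.le_pCore hDn hD2
    intro c hc
    obtain ⟨d, rfl⟩ := hπs c
    exact mem_map_of_mem π (hDT hc)
  have hX2 : ¬ IsPGroup 2 (Γ ⧸ Z) := by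
    intro h
    apply hn2
    obtain ⟨k, hk⟩ := IsPGroup.iff_card.mp h
    have h4 := hcardΓ
    rw [hk, hZcard] at h4
    exact IsPGroup.of_card (n := k + 1) (by rw [h4, pow_succ])
  obtain ⟨fX, hfX⟩ := exists_injective_perm_of_normal_four V hVcard hC hX2
  refine ⟨fX.comp π, ?_⟩
  rw [MonoidHom.ker_comp_of_injective _ _ hfX, QuotientGroup.ker_mk']
  infer_instance

end QEight


section Main

/-- `Γ` finite solvable with `O(Γ) = 1` and at most one involution in every `2`-subgroup: there is a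
homomorphism to `Perm (Fin 4)` with cyclic kernel. -/
theorem fss_core_free {Γ : Type*} [Group Γ] [Finite Γ] [Group.IsSolvable Γ]
    (hcore : Cfsg.pPrimeCore 2 Γ = ⊥) (hR : TwoRankOne Γ) :
    ∃ f : Γ →* Equiv.Perm (Fin 4), IsCyclic f.ker := by
  by_cases h2 : IsPGroup 2 Γ
  · exact fss_two_group h2 hR
  · rcases fss_isPGroup_or_card_eight hcore hR with h | h
    · exact absurd h h2
    · exact fss_q8_case hcore hR h h2

/-- **Structure theorem.** A finite solvable group in which every `2`-subgroup has at most one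
involution and every subgroup of odd prime power order is cyclic has a homomorphism to
`Perm (Fin 4)` whose kernel has all Sylow subgroups cyclic. -/
theorem exists_perm_hom_ker_sylow_cyclic {G : Type*} [Group G] [Finite G] [Group.IsSolvable G]
    (hR : TwoRankOne G)
    (hodd : ∀ p : ℕ, p.Prime → p ≠ 2 → ∀ P : Subgroup G, IsPGroup p P → IsCyclic P) :
    ∃ f : G →* Equiv.Perm (Fin 4), ∀ (p : ℕ) [Fact p.Prime] (P : Sylow p f.ker), IsCyclic P := by
  have : Fact (Nat.Prime 2) := ⟨Nat.prime_two⟩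
  set K := Cfsg.pPrimeCore 2 G with hK
  have hKco : (Nat.card K).Coprime 2 := Cfsg.Agent.Lib.card_pPrimeCore_coprime 2
  have hsolΓ : Group.IsSolvable (G ⧸ K) :=
    Group.isSolvable_of_surjective (QuotientGroup.mk'_surjective K)
  have hcore : Cfsg.pPrimeCore 2 (G ⧸ K) = ⊥ :=
    Cfsg.Agent.Helper55.pPrimeCore_quotient_pPrimeCore 2
  have hRΓ : TwoRankOne (G ⧸ K) := hR.quotient K hKco
  obtain ⟨fΓ, hfΓ⟩ := fss_core_free hcore hRΓ
  set π := QuotientGroup.mk' K with hπ
  refine ⟨fΓ.comp π, ?_⟩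
  intro p hp P
  by_cases hp2 : p = 2
  · subst hp2
    have hmem : ∀ x : (P : Subgroup (fΓ.comp π).ker),
        (π.comp ((fΓ.comp π).ker.subtype.comp (P : Subgroup (fΓ.comp π).ker).subtype)) x
          ∈ fΓ.ker := by
      intro x
      have h1 := (x : (fΓ.comp π).ker).2
      rw [MonoidHom.mem_ker] at h1 ⊢
      exact h1
    let φ : (P : Subgroup (fΓ.comp π).ker) →* fΓ.ker :=
      (π.comp ((fΓ.comp π).ker.subtype.comp (P : Subgroup (fΓ.comp π).ker).subtype)).codRestrict
        fΓ.ker hmem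
    have hφ : Function.Injective φ := by
      rw [injective_iff_map_eq_one]
      intro x hx
      have h1 : π (((x : (fΓ.comp π).ker)) : G) = 1 := congrArg Subtype.val hx
      have hxK : (((x : (fΓ.comp π).ker)) : G) ∈ K :=
        (QuotientGroup.eq_one_iff _).mp h1
      obtain ⟨k, hk⟩ := (IsPGroup.iff_orderOf.mp P.isPGroup') x
      have hk' : orderOf (((x : (fΓ.comp π).ker)) : G) = 2 ^ k := by
        rw [Subgroup.orderOf_coe, Subgroup.orderOf_coe]; exact hk
      have hdvd : orderOf (((x : (fΓ.comp π).ker)) : G) ∣ Nat.card K := by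
        have := orderOf_dvd_natCard (⟨_, hxK⟩ : K)
        rwa [Subgroup.orderOf_mk] at this
      rw [hk'] at hdvd
      have hco : (2 ^ k).Coprime 2 := Nat.Coprime.coprime_dvd_left hdvd hKco
      have hk0 : k = 0 := by
        by_contra h0
        have := (Nat.coprime_pow_left_iff (Nat.pos_of_ne_zero h0) 2 2).mp hco
        norm_num at this
      rw [hk0, pow_zero] at hk
      exact orderOf_eq_one_iff.mp hk
    exact isCyclic_of_injective φ hφ
  · have h1 := hodd p hp.out hp2
      ((P : Subgroup (fΓ.comp π).ker).map (fΓ.comp π).ker.subtype) (P.isPGroup'.map _)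
    exact isCyclic_of_injective
      ((P : Subgroup (fΓ.comp π).ker).equivMapOfInjective (fΓ.comp π).ker.subtype
        (fΓ.comp π).ker.subtype_injective).toMonoidHom
      (MulEquiv.injective _)

end Main


end Cfsg.Agent.Helper71
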