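import Mathlib
import Cfsg.Prelude.Def_LieTypeDatum
import Cfsg.Agent.Helper14.LBUb
import Cfsg.Agent.Helper14.LBUd

/-!
Helper71: (NC-5) of helper45's list: the abstract group `PGU_n(q)` (`q` odd, `n ≥ 3`) has no
non-trivial normal subgroup of odd order.
-/

set_option autoImplicit false
set_option linter.unusedSectionVars false
set_option linter.unusedVariables false

namespace Cfsg.Agent.Helper71.NC

open Matrix MulAction Cfsg.Agent.Helper13 Cfsg.Agent.Helper37.AutU
open scoped Pointwise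

variable {F : Type*} [Field F] [Fintype F] {q n : ℕ}

local notation "⟪" x ", " y "⟫" => Cfsg.hermForm n F q x y

/-- the embedding of `SU` in `GU` -/
def jS : Cfsg.SU n F q →* Cfsg.GU n F q where
  toFun := suGU
  map_one' := Subtype.ext (Units.ext rfl)
  map_mul' _ _ := Subtype.ext (Units.ext rfl)

theorem gm_jS (A : Cfsg.SU n F q) : gm (jS A) = suMat A := rfl

theorem gu_ext {g h : Cfsg.GU n F q} (e : gm g = gm h) : g = h :=
  Subtype.ext (Units.ext e)

/-- an element of `SU` fixing every isotropic point has every isotropic vector as eigenvector -/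
theorem eigen_of_fixes (A : Cfsg.SU n F q) (h : ∀ p : IsoPt n F q, A • p = p)
    (u : Fin n → F) (hu0 : u ≠ 0) (huu : ⟪u, u⟫ = 0) : ∃ l : F, suMat A *ᵥ u = l • u := by
  have h1 := h (IsoPt.mk u hu0 huu)
  rw [IsoPt.smul_mk, IsoPt.mk_eq_mk_iff] at h1
  obtain ⟨a, ha, hua⟩ := h1
  refine ⟨a⁻¹, ?_⟩
  have h2 : a⁻¹ • u = suMat A *ᵥ u := by
    conv_lhs => rw [hua]
    rw [smul_smul, inv_mul_cancel₀ ha, one_smul]
  exact h2.symm

/-- a matrix having every isotropic vector as eigenvector is scalar -/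
theorem scalar_of_eigen_id (hF : Fintype.card F = q ^ 2) (hn : 3 ≤ n)
    (G : Matrix (Fin n) (Fin n) F) (hG : G ≠ 0)
    (h : ∀ u : Fin n → F, u ≠ 0 → ⟪u, u⟫ = 0 → ∃ l : F, G *ᵥ u = l • u) :
    ∃ ζ : F, G = ζ • (1 : Matrix (Fin n) (Fin n) F) :=
  (Cfsg.Agent.Helper14.LBU.scalar_of_eigen hF hn (RingHom.id F) G hG (RingEquiv.refl F)
    (fun u hu0 huu => h u hu0 huu)).2

/-- if `T(gv, c)` is a scalar multiple of `T(v, c)` then `gv` is a multiple of `v` -/
theorem eigen_of_tv_eq (hF : Fintype.card F = q ^ 2) {v w : Fin n → F} (hv0 : v ≠ 0)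
    (hw0 : w ≠ 0) (hv : ⟪v, v⟫ = 0) {c : F} (hc : c ≠ 0) {ζ : F}
    (h : Cfsg.unitaryTransvection n q w c = ζ • Cfsg.unitaryTransvection n q v c) :
    ∃ a : F, w = a • v := by
  have hx : ∀ x : Fin n → F,
      x + (c * ⟪x, w⟫) • w = ζ • (x + (c * ⟪x, v⟫) • v) := by
    intro x
    have := congrArg (fun M : Matrix (Fin n) (Fin n) F => M *ᵥ x) h
    simp only [Matrix.smul_mulVec, unitaryTransvection_mulVec] at this
    exact this
  by_cases hvw : ⟪v, w⟫ = 0
  · have h1 := hx v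
    simp only [hvw, hv, mul_zero, zero_smul, add_zero] at h1
    have hζ : ζ = 1 := by
      by_contra hne
      apply hv0
      have h2 : (1 - ζ) • v = 0 := by
        rw [sub_smul, one_smul]
        exact sub_eq_zero.mpr h1
      rcases smul_eq_zero.mp h2 with h3 | h3
      · exact absurd (sub_eq_zero.mp h3).symm hne
      · exact h3
    subst hζ
    obtain ⟨x, hxv⟩ : ∃ x, ⟪v, x⟫ ≠ 0 := by
      by_contra hcon
      push Not at hcon
      exact hv0 (eq_zero_of_hermForm_eq_zero hF v hcon)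
    have hxv' : ⟪x, v⟫ ≠ 0 := hermForm_ne_zero_symm hF hxv
    have h2 := hx x
    rw [one_smul] at h2
    have h3 : (c * ⟪x, w⟫) • w = (c * ⟪x, v⟫) • v := add_left_cancel h2
    have hb : c * ⟪x, v⟫ ≠ 0 := mul_ne_zero hc hxv'
    have hb' : c * ⟪x, w⟫ ≠ 0 := by
      intro h0
      rw [h0, zero_smul] at h3
      rcases smul_eq_zero.mp h3.symm with h4 | h4
      · exact hb h4
      · exact hv0 h4
    refine ⟨(c * ⟪x, w⟫)⁻¹ * (c * ⟪x, v⟫), ?_⟩
    rw [mul_smul, ← h3, smul_smul, inv_mul_cancel₀ hb', one_smul]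
  · have h1 := hx v
    simp only [hv, mul_zero, zero_smul, add_zero] at h1
    have hb : c * ⟪v, w⟫ ≠ 0 := mul_ne_zero hc hvw
    refine ⟨(c * ⟪v, w⟫)⁻¹ * (ζ - 1), ?_⟩
    have h2 : (c * ⟪v, w⟫) • w = (ζ - 1) • v := by
      rw [sub_smul, one_smul, ← h1]
      abel
    rw [mul_smul, ← h2, smul_smul, inv_mul_cancel₀ hb, one_smul]

/-- **key step**: a normal subgroup of `GU` whose intersection with `SU` fixes every isotropic
point consists of scalar matrices. -/
theorem scalar_of_normal (hF : Fintype.card F = q ^ 2) (hn : 3 ≤ n)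
    (K : Subgroup (Cfsg.GU n F q)) (hK : K.Normal)
    (hfix : ∀ A : Cfsg.SU n F q, jS A ∈ K → ∀ p : IsoPt n F q, A • p = p)
    (g : Cfsg.GU n F q) (hg : g ∈ K) : ∃ ζ : F, gm g = ζ • (1 : Matrix (Fin n) (Fin n) F) := by
  have : Nonempty (Fin n) := ⟨⟨0, by omega⟩⟩
  have hg0 : gm g ≠ 0 := by
    intro h0
    have := gm_mul_inv g
    rw [h0, zero_mul] at this
    exact zero_ne_one this
  apply scalar_of_eigen_id hF hn (gm g) hg0
  intro v hv0 hv
  obtain ⟨c, hc0, hcq⟩ := Cfsg.Agent.Helper5.exists_trace_zero hF (F := F)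
  have hc : c + c ^ q = 0 := by rw [hcq]; ring
  set w : Fin n → F := gm g *ᵥ v with hw
  have hww : ⟪w, w⟫ = 0 := by rw [hw, isU_gm g, hv]
  have hw0 : w ≠ 0 := by
    intro h0
    apply hv0
    have : gm g⁻¹ *ᵥ w = v := by
      rw [hw, Matrix.mulVec_mulVec, gm_inv_mul, Matrix.one_mulVec]
    rw [← this, h0, Matrix.mulVec_zero]
  set A : Cfsg.SU n F q := tvElt hF v c hv hc with hA
  set B : Cfsg.SU n F q := tvElt hF w c hww hc with hB
  have hconj : jS B = g * jS A * g⁻¹ := by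
    apply gu_ext
    rw [gm_mul, gm_mul, gm_jS, gm_jS, hB, hA, suMat_tvElt, suMat_tvElt,
      conj_unitaryTransvection (isU_gm g) (gm_mul_inv g)]
  have hmem : jS (B * A⁻¹) ∈ K := by
    rw [map_mul, map_inv, hconj]
    have h1 : jS A * g⁻¹ * (jS A)⁻¹ ∈ K := hK.conj_mem _ (K.inv_mem hg) _
    have h2 : g * jS A * g⁻¹ * (jS A)⁻¹ = g * (jS A * g⁻¹ * (jS A)⁻¹) := by group
    rw [h2]
    exact K.mul_mem hg h1
  have hfixBA := hfix _ hmem
  have hBA0 : suMat (B * A⁻¹) ≠ 0 := by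
    intro h0
    have h1 : suMat (B * A⁻¹) * suMat (B * A⁻¹)⁻¹ = 1 := by
      rw [← suMat_mul, mul_inv_cancel, suMat_one]
    rw [h0, zero_mul] at h1
    exact zero_ne_one h1
  obtain ⟨ζ, hζ⟩ := scalar_of_eigen_id hF hn (suMat (B * A⁻¹)) hBA0
    (fun u hu0 huu => eigen_of_fixes _ hfixBA u hu0 huu)
  have hBζ : suMat B = ζ • suMat A := by
    have h1 : suMat B = suMat (B * A⁻¹) * suMat A := by
      rw [← suMat_mul, inv_mul_cancel_right]
    rw [h1, hζ, Matrix.smul_mul, one_mul]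
  rw [hB, hA, suMat_tvElt, suMat_tvElt] at hBζ
  obtain ⟨a, ha⟩ := eigen_of_tv_eq hF hv0 hw0 hv hc0 hBζ
  exact ⟨a, ha⟩

/-- membership in the scalar subgroup of `GU` -/
theorem mem_scalarsGU_iff (g : Cfsg.GU n F q) :
    g ∈ (Cfsg.Geo.scalars (Fin n) F).subgroupOf (Cfsg.GU n F q) ↔
      ∃ c : Fˣ, gm g = (c : F) • (1 : Matrix (Fin n) (Fin n) F) := by
  rw [Subgroup.mem_subgroupOf, Cfsg.Geo.mem_scalars_iff]

/-- **(NC-5)** `PGU_n(q)`, `q` odd, `n ≥ 3`, has no non-trivial normal subgroup of odd order. -/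
theorem noNC_PGU {q : ℕ} (hF : Fintype.card F = q ^ 2) (hodd : Odd q) (n : ℕ) (hn : 3 ≤ n)
    (N : Subgroup (Cfsg.PGU n F q)) (hN : N.Normal) (hc : (Nat.card ↥N).Coprime 2) : N = ⊥ := by
  have h32 : ¬ (n = 3 ∧ q = 2) := by
    rintro ⟨-, rfl⟩
    exact absurd hodd (by decide)
  have hne : Nonempty (Fin n) := ⟨⟨0, by omega⟩⟩
  set Z : Subgroup (Cfsg.GU n F q) := (Cfsg.Geo.scalars (Fin n) F).subgroupOf (Cfsg.GU n F q)
    with hZ
  set π : Cfsg.GU n F q →* Cfsg.PGU n F q := QuotientGroup.mk' Z with hπ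
  have hπs : Function.Surjective π := QuotientGroup.mk'_surjective Z
  set K : Subgroup (Cfsg.GU n F q) := N.comap π with hK
  have hKn : K.Normal := hN.comap π
  set M : Subgroup (Cfsg.SU n F q) := K.comap jS with hM
  have hMn : M.Normal := hKn.comap jS
  have hprim := isoPt_isPreprimitive (n := n) hF hn
  by_cases hfix : fixedPoints M (IsoPt n F q) = Set.univ
  · -- every element of `K` is scalar
    have hfix' : ∀ A : Cfsg.SU n F q, jS A ∈ K → ∀ p : IsoPt n F q, A • p = p := by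
      intro A hA p
      have hp : p ∈ fixedPoints M (IsoPt n F q) := by rw [hfix]; trivial
      exact hp ⟨A, hA⟩
    rw [eq_bot_iff]
    intro x hx
    obtain ⟨g, rfl⟩ := hπs x
    have hgK : g ∈ K := hx
    obtain ⟨ζ, hζ⟩ := scalar_of_normal hF hn K hKn hfix' g hgK
    have hζ0 : ζ ≠ 0 := by
      rintro rfl
      have := gm_mul_inv g
      rw [hζ, zero_smul, zero_mul] at this
      exact zero_ne_one this
    have hgZ : g ∈ Z := by
      rw [hZ, mem_scalarsGU_iff]
      exact ⟨Units.mk0 ζ hζ0, hζ⟩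
    rw [Subgroup.mem_bot, hπ, QuotientGroup.mk'_apply, QuotientGroup.eq_one_iff]
    exact hgZ
  · exfalso
    have hcomm := (suIwasawa hF h32).commutator_le M hfix
    rw [commutator_SU_eq_top hF hn h32, top_le_iff] at hcomm
    set ψ : Cfsg.SU n F q →* Cfsg.PGU n F q := π.comp jS with hψ
    have hrange : ψ.range ≤ N := by
      rintro _ ⟨A, rfl⟩
      have hA : A ∈ M := by rw [hcomm]; trivial
      exact hA
    have hker : ψ.ker ≤ Subgroup.center (Cfsg.SU n F q) := by
      intro A hA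
      rw [MonoidHom.mem_ker, hψ, MonoidHom.comp_apply, hπ, QuotientGroup.mk'_apply,
        QuotientGroup.eq_one_iff, hZ, mem_scalarsGU_iff] at hA
      obtain ⟨c, hc⟩ := hA
      rw [gm_jS] at hc
      rw [Subgroup.mem_center_iff]
      intro B
      apply suMat_injective
      rw [suMat_mul, suMat_mul, hc, Matrix.mul_smul, Matrix.smul_mul, mul_one, one_mul]
    have h2 := Cfsg.Agent.Helper14.LBU.two_dvd_card_PSU hF hn hodd
    have h3 : Nat.card (Cfsg.PSU n F q) = (Subgroup.center (Cfsg.SU n F q)).index :=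
      (Subgroup.index_eq_card _).symm
    have h4 : (Subgroup.center (Cfsg.SU n F q)).index ∣ ψ.ker.index :=
      Subgroup.index_dvd_of_le hker
    have h5 : ψ.ker.index = Nat.card ψ.range := Subgroup.index_ker ψ
    have h6 : Nat.card ψ.range ∣ Nat.card N := Subgroup.card_dvd_of_le hrange
    have h7 : 2 ∣ Nat.card N := by
      rw [h3] at h2
      exact (h2.trans h4).trans (h5 ▸ h6)
    have := Nat.eq_one_of_dvd_coprimes hc h7 (dvd_refl 2)
    omega

end Cfsg.Agent.Helper71.NC
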