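import Mathlib
import Cfsg.Prelude.Def_Solvable
import Cfsg.Prelude.Def_CaseTheorems
import Cfsg.Prelude.Def_Transfer
import Cfsg.Agent.Lib.Cores
import Cfsg.Agent.Helper55.SolvCore
import Cfsg.Agent.Helper24.Coprime

/-!
Solvable groups with `O(H) = 1` and 2-nilpotent involution centralizers: the odd-order elements act
fixed-point-freely on `O_2(H)`.
-/

set_option autoImplicit false

namespace Cfsg.Agent.Helper71

open Subgroup

section
variable {H : Type*} [Group H] [Finite H]

/-- An element of odd order lies in any normal 2-complement. -/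
theorem mem_normal_two_complement {C : Type*} [Group C] [Finite C] (P : Sylow 2 C) (K : Subgroup C)
    [K.Normal] (hK : K.IsComplement' (P : Subgroup C)) {x : C} (hx : Odd (orderOf x)) : x ∈ K := by
  have hcard := hK.card_mul_card
  have hidx : K.index = Nat.card (P : Subgroup C) := by
    have h1 := K.card_mul_index
    rw [← hcard] at h1
    exact Nat.eq_of_mul_eq_mul_left Nat.card_pos h1
  obtain ⟨n, hn⟩ := IsPGroup.iff_card.mp P.2
  have hcop : (K.index).Coprime (orderOf x) := by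
    rw [hidx, hn]
    exact Nat.Coprime.pow_left _
      ((Nat.Prime.coprime_iff_not_dvd Nat.prime_two).mpr hx.not_two_dvd_nat)
  obtain ⟨m, hm⟩ := exists_pow_eq_self_of_coprime hcop
  rw [← hm]
  exact K.pow_mem (K.pow_index_mem x) m

theorem odd_card_normal_two_complement {C : Type*} [Group C] [Finite C] (P : Sylow 2 C)
    (K : Subgroup C) (hK : K.IsComplement' (P : Subgroup C)) : Odd (Nat.card K) := by
  have hcard := hK.card_mul_card
  rw [P.card_eq_multiplicity] at hcard
  rw [← Nat.not_even_iff_odd]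
  intro heven
  obtain ⟨j, hj⟩ := heven.two_dvd
  set e := (Nat.card C).factorization 2 with he
  have h3 : 2 ^ (e + 1) ∣ Nat.card C := by
    refine ⟨j, ?_⟩
    rw [← hcard, hj, pow_succ]; ring
  have := (Nat.Prime.pow_dvd_iff_le_factorization Nat.prime_two Nat.card_pos.ne').mp h3
  omega

/-- An element that has both odd order and 2-power order is trivial. -/
theorem eq_one_of_odd_of_isPGroup_two {G : Type*} [Group G] {c : G} {Y : Subgroup G}
    (hY : IsPGroup 2 Y) (hc : c ∈ Y) (hodd : Odd (orderOf c)) : c = 1 := by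
  obtain ⟨k, hk⟩ := hY ⟨c, hc⟩
  have hk' : c ^ 2 ^ k = 1 := by
    have := congrArg Subtype.val hk
    simpa using this
  have h1 : orderOf c ∣ 2 ^ k := orderOf_dvd_of_pow_eq_one hk'
  have h2 : (orderOf c).Coprime (2 ^ k) :=
    Nat.Coprime.pow_right _ (Nat.Coprime.symm
      ((Nat.Prime.coprime_iff_not_dvd Nat.prime_two).mpr hodd.not_two_dvd_nat))
  have h3 : orderOf c = 1 := Nat.eq_one_of_dvd_coprimes h2 (dvd_refl _) h1
  exact orderOf_eq_one_iff.mp h3

/-- In a group whose involution centralizers are 2-nilpotent, an odd-order element `x` commuting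
with an involution `t` commutes with `C_Y(t)` for every normal 2-subgroup `Y`. -/
theorem commute_of_two_nilpotent_centralizer
    (hI : ∀ t : H, orderOf t = 2 →
      Cfsg.HasNormalPComplement 2 ↥(Subgroup.centralizer ({t} : Set H)))
    (Y : Subgroup H) [Y.Normal] (hY : IsPGroup 2 Y)
    {t x u : H} (ht : orderOf t = 2) (hxt : x * t = t * x) (hx : Odd (orderOf x))
    (hu : u ∈ Y) (hut : u * t = t * u) : x * u = u * x := by
  set C := Subgroup.centralizer ({t} : Set H) with hC
  obtain ⟨P, K, hKn, hKc⟩ := hI t ht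
  haveI := hKn
  have hxC : x ∈ C := by
    rw [hC, mem_centralizer_iff]
    intro h hh
    rw [Set.mem_singleton_iff] at hh
    rw [hh, hxt]
  have huC : u ∈ C := by
    rw [hC, mem_centralizer_iff]
    intro h hh
    rw [Set.mem_singleton_iff] at hh
    rw [hh, hut]
  have hx' : Odd (orderOf (⟨x, hxC⟩ : C)) := by
    rwa [← Subgroup.orderOf_coe]
  have hxK : (⟨x, hxC⟩ : C) ∈ K := mem_normal_two_complement P K hKc hx'
  have hKodd := odd_card_normal_two_complement P K hKc
  -- the commutator lies in `K` and in `Y`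
  set c' : C := (⟨x, hxC⟩ : C) * ⟨u, huC⟩ * (⟨x, hxC⟩ : C)⁻¹ * (⟨u, huC⟩ : C)⁻¹ with hc'
  have hc'K : c' ∈ K := by
    have h1 : (⟨u, huC⟩ : C) * (⟨x, hxC⟩ : C)⁻¹ * (⟨u, huC⟩ : C)⁻¹ ∈ K :=
      hKn.conj_mem _ (K.inv_mem hxK) _
    have h2 : c' = (⟨x, hxC⟩ : C) * ((⟨u, huC⟩ : C) * (⟨x, hxC⟩ : C)⁻¹ * (⟨u, huC⟩ : C)⁻¹) := by
      rw [hc']; group
    rw [h2]
    exact K.mul_mem hxK h1
  have hc'odd : Odd (orderOf c') := by
    have h1 : orderOf (⟨c', hc'K⟩ : K) ∣ Nat.card K := orderOf_dvd_natCard _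
    rw [Subgroup.orderOf_mk] at h1
    exact Odd.of_dvd_nat hKodd h1
  have hcY : (c' : H) ∈ Y := by
    have h1 : x * u * x⁻¹ ∈ Y := (inferInstance : Y.Normal).conj_mem u hu x
    have h2 : (c' : H) = x * u * x⁻¹ * u⁻¹ := by rw [hc']; rfl
    rw [h2]
    exact Y.mul_mem h1 (Y.inv_mem hu)
  have hcodd : Odd (orderOf (c' : H)) := by rwa [Subgroup.orderOf_coe]
  have hc1 : (c' : H) = 1 := eq_one_of_odd_of_isPGroup_two hY hcY hcodd
  have h3 : x * u * x⁻¹ * u⁻¹ = 1 := by
    have h2 : (c' : H) = x * u * x⁻¹ * u⁻¹ := by rw [hc']; rfl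
    rw [← h2, hc1]
  calc x * u = (x * u * x⁻¹ * u⁻¹) * (u * x) := by group
    _ = u * x := by rw [h3, one_mul]

/-- Step 1: odd-order elements act fixed-point-freely on `O_2(H)`. -/
theorem fpf_on_pCore_two [hsol : Group.IsSolvable H]
    (hO : Cfsg.pPrimeCore 2 H = ⊥)
    (hI : ∀ t : H, orderOf t = 2 →
      Cfsg.HasNormalPComplement 2 ↥(Subgroup.centralizer ({t} : Set H)))
    {x y : H} (hx : Odd (orderOf x)) (hx1 : x ≠ 1) (hy : y ∈ Cfsg.pCore 2 H) (hy1 : y ≠ 1) :
    x * y ≠ y * x := by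
  intro hxy
  haveI : Fact (Nat.Prime 2) := ⟨Nat.prime_two⟩
  set Y := Cfsg.pCore 2 H with hYdef
  have hY : IsPGroup 2 Y := Cfsg.Agent.Lib.isPGroup_pCore 2
  have hCY : Subgroup.centralizer (Y : Set H) ≤ Y := Cfsg.Agent.Helper55.centralizer_pCore_le 2 hO
  -- an involution `t ∈ Y` commuting with `x`
  obtain ⟨k, hk⟩ := (IsPGroup.iff_orderOf.mp hY) ⟨y, hy⟩
  rw [Subgroup.orderOf_mk] at hk
  have hk0 : k ≠ 0 := by
    rintro rfl
    rw [pow_zero, orderOf_eq_one_iff] at hk
    exact hy1 hk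
  obtain ⟨j, rfl⟩ := Nat.exists_eq_succ_of_ne_zero hk0
  set t := y ^ 2 ^ j with ht
  have htY : t ∈ Y := Y.pow_mem hy _
  have hto : orderOf t = 2 := by
    rw [ht, orderOf_pow, hk, Nat.gcd_eq_right (pow_dvd_pow 2 (Nat.le_succ j)), pow_succ,
      Nat.mul_div_cancel_left _ (pow_pos (by norm_num) j)]
  have hxt : x * t = t * x := by
    rw [ht]
    exact (Commute.pow_right (show Commute x y from hxy) _)
  -- Thompson `P × Q`
  have hcent : ∀ u ∈ Y, x * u = u * x := by
    apply Cfsg.Agent.Helper24.thompson_PxQ (p := 2) (U := Y) (P := Subgroup.zpowers t) hY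
    · rw [IsPGroup.iff_card]
      refine ⟨1, ?_⟩
      rw [Nat.card_zpowers, hto, pow_one]
    · rw [normalizer_eq_top_iff.mpr inferInstance]; exact le_top
    · rw [normalizer_eq_top_iff.mpr inferInstance]; trivial
    · exact Nat.Coprime.symm ((Nat.Prime.coprime_iff_not_dvd Nat.prime_two).mpr hx.not_two_dvd_nat)
    · intro b hb
      obtain ⟨i, rfl⟩ := Subgroup.mem_zpowers_iff.mp hb
      exact (Commute.zpow_right (show Commute x t from hxt) i)
    · intro u hu hb
      have hut : u * t = t * u := (hb t (Subgroup.mem_zpowers t)).symm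
      exact commute_of_two_nilpotent_centralizer hI Y hY hto hxt hx hu hut
  have hxC : x ∈ Subgroup.centralizer (Y : Set H) := by
    rw [mem_centralizer_iff]
    intro u hu
    exact (hcent u hu).symm
  exact hx1 (eq_one_of_odd_of_isPGroup_two hY (hCY hxC) hx)

end

end Cfsg.Agent.Helper71
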