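import Mathlib
import Cfsg.Agent.Helper71.OddHall
import Cfsg.Agent.Helper71.PronormalExt
import Cfsg.Agent.Helper10.Card

/-!
Solvable groups with `O(H) = 1` and 2-nilpotent involution centralizers: an involution of
`H / O_2(H)` commutes with no nontrivial element of odd order.
-/

set_option autoImplicit false

namespace Cfsg.Agent.Helper71

open Subgroup
open Cfsg.Agent.S4269 (cj mem_cj cj_mul cj_of_mem cj_of_mem_normalizer)

section
variable {H : Type*} [Group H] [Finite H]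

/-- A nontrivial normal 2-subgroup contains a nontrivial element centralized by a given
involution. -/
theorem exists_fixed_of_involution {Y : Subgroup H} [Y.Normal] (hY : IsPGroup 2 Y) (hY1 : Y ≠ ⊥)
    {s : H} (hs : s * s = 1) : ∃ u ∈ Y, u ≠ 1 ∧ u * s = s * u := by
  haveI : Fact (Nat.Prime 2) := ⟨Nat.prime_two⟩
  haveI : Nontrivial Y := (Subgroup.nontrivial_iff_ne_bot Y).mpr hY1
  haveI : Nontrivial (center Y) := hY.center_nontrivial
  have hZ : IsPGroup 2 (center Y) := hY.to_subgroup _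
  have h2 : 2 ∣ Nat.card (center Y) := by
    obtain ⟨a, ha⟩ := IsPGroup.iff_card.mp hZ
    have h1 := Finite.one_lt_card (α := center Y)
    rw [ha] at h1 ⊢
    have ha0 : a ≠ 0 := by rintro rfl; simp at h1
    exact dvd_pow_self 2 ha0
  obtain ⟨z, hz⟩ := exists_prime_orderOf_dvd_card' 2 h2
  have hz1 : z ≠ 1 := by
    intro h; rw [h, orderOf_one] at hz; omega
  have hz2 : z ^ 2 = 1 := by
    have := pow_orderOf_eq_one z
    rwa [hz] at this
  set z0 : H := ((z : Y) : H) with hz0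
  have hz0Y : z0 ∈ Y := (z : Y).2
  have hz01 : z0 ≠ 1 := by
    intro h
    exact hz1 (Subtype.ext (Subtype.ext h))
  have hz02 : z0 * z0 = 1 := by
    have := congrArg (fun w : center Y => ((w : Y) : H)) hz2
    simpa [pow_two] using this
  have hz0c : ∀ y ∈ Y, z0 * y = y * z0 := by
    intro y hy
    have h1 := (Subgroup.mem_center_iff.mp z.2) ⟨y, hy⟩
    have := congrArg (Subtype.val) h1
    simpa using this.symm
  have hsinv : s⁻¹ = s := inv_eq_of_mul_eq_one_left hs
  set z1 : H := s * z0 * s⁻¹ with hz1def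
  have hz1Y : z1 ∈ Y := ‹Y.Normal›.conj_mem z0 hz0Y s
  have hsz1 : s * z1 * s⁻¹ = z0 := by
    rw [hz1def]
    calc s * (s * z0 * s⁻¹) * s⁻¹ = (s * s) * z0 * (s * s)⁻¹ := by group
      _ = z0 := by rw [hs]; simp
  by_cases h : z1 = z0
  · refine ⟨z0, hz0Y, hz01, ?_⟩
    calc z0 * s = (s * z0 * s⁻¹) * s := by rw [← hz1def, h]
      _ = s * z0 := by group
  · refine ⟨z0 * z1, Y.mul_mem hz0Y hz1Y, ?_, ?_⟩
    · intro h1
      apply h
      have : z1 = z0⁻¹ := (inv_eq_of_mul_eq_one_right h1).symm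
      rw [this]
      exact inv_eq_of_mul_eq_one_left hz02
    · have h1 : s * (z0 * z1) * s⁻¹ = z0 * z1 := by
        calc s * (z0 * z1) * s⁻¹ = (s * z0 * s⁻¹) * (s * z1 * s⁻¹) := by group
          _ = z1 * z0 := by rw [hsz1]
          _ = z0 * z1 := (hz0c z1 hz1Y).symm
      calc z0 * z1 * s = (s * (z0 * z1) * s⁻¹) * s := by rw [h1]
        _ = s * (z0 * z1) := by group

/-- An involution modulo `O_2(H)` cannot commute, modulo `O_2(H)`, with a nontrivial element of
odd order. -/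
theorem involution_mod_pCore_not_commute [hsol : Group.IsSolvable H]
    (hO : Cfsg.pPrimeCore 2 H = ⊥)
    (hI : ∀ t : H, orderOf t = 2 →
      Cfsg.HasNormalPComplement 2 ↥(Subgroup.centralizer ({t} : Set H)))
    {s x : H} (hs : s ∉ Cfsg.pCore 2 H) (hs2 : s * s ∈ Cfsg.pCore 2 H)
    (hx : Odd (orderOf x)) (hx1 : x ≠ 1)
    (hsx : ∀ k : ℕ, s * x ^ k * s⁻¹ * (x ^ k)⁻¹ ∈ Cfsg.pCore 2 H) : False := by
  haveI : Fact (Nat.Prime 2) := ⟨Nat.prime_two⟩
  set Y := Cfsg.pCore 2 H with hYdef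
  haveI hYn : Y.Normal := Cfsg.pCore_normal 2 H
  have hY : IsPGroup 2 Y := Cfsg.Agent.Lib.isPGroup_pCore 2
  -- reduce to prime order
  have hox1 : orderOf x ≠ 1 := fun h => hx1 (orderOf_eq_one_iff.mp h)
  set r := (orderOf x).minFac with hrdef
  have hr : r.Prime := Nat.minFac_prime hox1
  have hrdvd : r ∣ orderOf x := Nat.minFac_dvd _
  have hrodd : Odd r := Odd.of_dvd_nat hx hrdvd
  haveI : Fact r.Prime := ⟨hr⟩
  set k := orderOf x / r with hk
  set w := x ^ k with hw
  have how : orderOf w = r := orderOf_pow_orderOf_div (orderOf_pos x).ne' hrdvd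
  have hw1 : w ≠ 1 := by
    intro h; rw [h, orderOf_one] at how; exact hr.ne_one how.symm
  have hwodd : Odd (orderOf w) := how ▸ hrodd
  have hsw : s * w * s⁻¹ * w⁻¹ ∈ Y := hsx k
  -- `Y ≠ ⊥`
  have hY1 : Y ≠ ⊥ := by
    intro hbot
    have h1 := Cfsg.Agent.Helper55.centralizer_pCore_le (G := H) 2 hO
    have h2 : w ∈ Subgroup.centralizer ((Cfsg.pCore 2 H : Subgroup H) : Set H) := by
      rw [← hYdef, hbot, mem_centralizer_iff]
      intro z hz
      rw [coe_bot, Set.mem_singleton_iff] at hz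
      rw [hz, one_mul, mul_one]
    have h3 := h1 h2
    rw [← hYdef, hbot, mem_bot] at h3
    exact hw1 h3
  set T := zpowers w with hT
  have hTcard : Nat.card T = r := by rw [Nat.card_zpowers, how]
  have hTp : IsPGroup r T := IsPGroup.of_card (n := 1) (by rw [hTcard, pow_one])
  have hTY : T ⊓ Y = ⊥ := by
    obtain ⟨a, ha⟩ := IsPGroup.iff_card.mp hY
    apply (Subgroup.disjoint_of_coprime_natCard _).eq_bot
    rw [hTcard, ha]
    exact Nat.Coprime.pow_right _ (Nat.Coprime.symm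
      ((Nat.Prime.coprime_iff_not_dvd Nat.prime_two).mpr hrodd.not_two_dvd_nat))
  set M := T ⊔ Y with hM
  have hTM : T ≤ M := le_sup_left
  have hYM : Y ≤ M := le_sup_right
  have hswM : s * w * s⁻¹ ∈ M := by
    have : s * w * s⁻¹ = (s * w * s⁻¹ * w⁻¹) * w := by group
    rw [this]
    exact M.mul_mem (hYM hsw) (hTM (mem_zpowers w))
  have hT'M : cj s T ≤ M := by
    intro g hg
    obtain ⟨t, ht, rfl⟩ := mem_cj.mp hg
    obtain ⟨n, rfl⟩ := mem_zpowers_iff.mp ht
    have : s * w ^ n * s⁻¹ = (s * w * s⁻¹) ^ n := by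
      have := map_zpow (MulAut.conj s) w n
      simpa [MulAut.conj_apply] using this
    rw [this]
    exact M.zpow_mem hswM n
  have hidx : ¬ r ∣ T.relIndex M := by
    have h1 := Cfsg.Agent.Helper10.card_sup_mul_card_inf T Y
      (by rw [normalizer_eq_top_iff.mpr inferInstance]; exact le_top)
    rw [hTY, Subgroup.card_bot, mul_one] at h1
    have h2 : Nat.card T * T.relIndex M = Nat.card M := by
      rw [← relIndex_bot_left, ← relIndex_bot_left]
      exact relIndex_mul_relIndex _ _ _ bot_le hTM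
    have h3 : T.relIndex M = Nat.card Y := by
      rw [← hM, ← h2] at h1
      exact Nat.eq_of_mul_eq_mul_left Nat.card_pos h1
    rw [h3]
    obtain ⟨a, ha⟩ := IsPGroup.iff_card.mp hY
    rw [ha]
    intro hdvd
    have h4 := (Nat.prime_dvd_prime_iff_eq hr Nat.prime_two).mp (hr.dvd_of_dvd_pow hdvd)
    rw [h4] at hrodd
    exact absurd hrodd (by decide)
  obtain ⟨b, hbM, hb⟩ := exists_cj_eq_of_sylow_le (p := r) hTM hT'M hTp hidx (card_cj s T)
  -- write `b = y * t`
  have hbM' : b ∈ Y ⊔ T := by rw [sup_comm]; exact hbM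
  rw [← SetLike.mem_coe, normal_mul, Set.mem_mul] at hbM'
  obtain ⟨y, hy, t, ht, rfl⟩ := hbM'
  have hyT : cj y T = cj s T := by
    rw [← hb, cj_mul, cj_of_mem ht]
  set s' := y⁻¹ * s with hs'
  have hs'N : cj s' T = T := by
    rw [hs', cj_mul, ← hyT, cj_inv_cj]
  have hs'Y : s' ∉ Y := by
    intro h
    apply hs
    have : s = y * s' := by rw [hs']; group
    rw [this]
    exact Y.mul_mem hy h
  have hs'2 : s' * s' ∈ Y := by
    have : s' * s' = y⁻¹ * (s * y⁻¹ * s⁻¹) * (s * s) := by rw [hs']; group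
    rw [this]
    exact Y.mul_mem (Y.mul_mem (Y.inv_mem hy) (hYn.conj_mem _ (Y.inv_mem hy) s)) hs2
  -- `s'` commutes with `w`
  have hc : s' * w * s'⁻¹ * w⁻¹ = 1 := by
    have h1 : s' * w * s'⁻¹ * w⁻¹ ∈ T ⊓ Y := by
      refine Subgroup.mem_inf.mpr ⟨?_, ?_⟩
      · have h2 : s' * w * s'⁻¹ ∈ cj s' T := mem_cj.mpr ⟨w, mem_zpowers w, rfl⟩
        rw [hs'N] at h2
        exact T.mul_mem h2 (T.inv_mem (mem_zpowers w))
      · have : s' * w * s'⁻¹ * w⁻¹ = y⁻¹ * (s * w * s⁻¹ * w⁻¹) * (w * y * w⁻¹) := by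
          rw [hs']; group
        rw [this]
        exact Y.mul_mem (Y.mul_mem (Y.inv_mem hy) hsw) (hYn.conj_mem _ hy w)
    rwa [hTY, mem_bot] at h1
  have hcomm : s' * w = w * s' := by
    calc s' * w = (s' * w * s'⁻¹ * w⁻¹) * (w * s') := by group
      _ = w * s' := by rw [hc, one_mul]
  have hs'sq : s' * s' = 1 := by
    by_contra hne
    refine fpf_on_pCore_two hO hI hwodd hw1 hs'2 hne ?_
    calc w * (s' * s') = (w * s') * s' := (mul_assoc _ _ _).symm
      _ = (s' * w) * s' := congrArg (· * s') hcomm.symm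
      _ = s' * (w * s') := mul_assoc _ _ _
      _ = s' * (s' * w) := congrArg (s' * ·) hcomm.symm
      _ = s' * s' * w := (mul_assoc _ _ _).symm
  have hs'1 : s' ≠ 1 := fun h => hs'Y (h ▸ Y.one_mem)
  have hos' : orderOf s' = 2 := orderOf_eq_prime (by rw [pow_two]; exact hs'sq) hs'1
  obtain ⟨u, huY, hu1, hus⟩ := exists_fixed_of_involution hY hY1 hs'sq
  have hwu : w * u = u * w :=
    commute_of_two_nilpotent_centralizer hI Y hY hos' hcomm.symm hwodd huY hus
  exact fpf_on_pCore_two hO hI hwodd hw1 huY hu1 hwu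

end

end Cfsg.Agent.Helper71
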