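import Mathlib
import Cfsg.Prelude.Def_Solvable
import Cfsg.Prelude.Def_CaseTheorems
import Cfsg.Agent.Lib.Cores
import Cfsg.Agent.S0044
import Cfsg.Agent.S0058
import Cfsg.Agent.Helper10.Card
import Cfsg.Agent.Helper71.UniqueOrderP

/-!
Solvable groups with `O_2 = 1` whose Hall `2'`-subgroup has cyclic Sylow subgroups.
-/

set_option autoImplicit false

namespace Cfsg.Agent.Helper71

open Subgroup

section
variable {G : Type*} [Group G] [Finite G]

/-- A normal subgroup of odd order lies in every subgroup of odd order and 2-power index. -/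
theorem le_of_odd_of_index_two_pow {N X : Subgroup G} [N.Normal] (hN : Odd (Nat.card N))
    (hX : Odd (Nat.card X)) (hidx : ∃ k : ℕ, X.index = 2 ^ k) : N ≤ X := by
  have h1 := Cfsg.Agent.Helper10.card_sup_mul_card_inf X N
    (by rw [normalizer_eq_top_iff.mpr inferInstance]; exact le_top)
  have hodd : Odd (Nat.card ↥(X ⊔ N)) := by
    have h2 : Odd (Nat.card X * Nat.card N) := hX.mul hN
    rw [← h1] at h2
    exact (Nat.odd_mul.mp h2).1
  obtain ⟨k, hk⟩ := hidx
  have h3 : X.relIndex (X ⊔ N) ∣ 2 ^ k := hk ▸ relIndex_dvd_index_of_le le_sup_left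
  have h4 : X.relIndex (X ⊔ N) ∣ Nat.card ↥(X ⊔ N) := relIndex_dvd_card _ _
  have h5 : X.relIndex (X ⊔ N) = 1 := by
    have hc : (Nat.card ↥(X ⊔ N)).Coprime (2 ^ k) :=
      Nat.Coprime.pow_right _ (Nat.Coprime.symm
        ((Nat.Prime.coprime_iff_not_dvd Nat.prime_two).mpr hodd.not_two_dvd_nat))
    exact Nat.eq_one_of_dvd_coprimes hc h4 h3
  have h6 : X ⊔ N ≤ X := relIndex_eq_one.mp h5
  exact le_sup_right.trans h6

/-- Structure of a solvable group with `O_2 = 1` whose Hall `2'`-subgroup is a `Z`-group. -/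
theorem fitting_cyclic_of_oddHall_isZGroup [Group.IsSolvable G] (hO2 : Cfsg.pCore 2 G = ⊥)
    (X : Subgroup G) (hodd : Odd (Nat.card X)) (hidx : ∃ k : ℕ, X.index = 2 ^ k) [IsZGroup X] :
    Cfsg.fittingSubgroup G ≤ X ∧ IsCyclic (Cfsg.fittingSubgroup G) ∧
      commutator G ≤ Cfsg.fittingSubgroup G := by
  haveI : Fact (Nat.Prime 2) := ⟨Nat.prime_two⟩
  set F := Cfsg.fittingSubgroup G with hF
  haveI hFchar : F.Characteristic := Cfsg.Agent.Lib.fittingSubgroup_characteristic
  haveI hFn : F.Normal := inferInstance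
  haveI hFnil : Group.IsNilpotent F := Cfsg.Agent.Lib.isNilpotent_fittingSubgroup
  have hFodd : Odd (Nat.card F) := by
    have h1 := Cfsg.Agent.Lib.relIndex_pCore_fittingSubgroup_coprime (G := G) 2
    rw [hO2, relIndex_bot_left] at h1
    rw [← Nat.not_even_iff_odd]
    intro he
    have := Nat.Coprime.eq_one_of_dvd h1.symm he.two_dvd
    omega
  have hFX : F ≤ X := le_of_odd_of_index_two_pow hFodd hodd hidx
  haveI : IsZGroup F := IsZGroup.of_injective (f := Subgroup.inclusion hFX)
    (Subgroup.inclusion_injective hFX)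
  have hFcyc : IsCyclic F := inferInstance
  refine ⟨hFX, hFcyc, ?_⟩
  -- the conjugation action on `F` has abelian image
  have hcomm : ∀ a b : MulAut F, a * b = b * a := by
    intro a b
    apply (IsCyclic.mulAutMulEquiv F).injective
    rw [map_mul, map_mul, mul_comm]
  letI : CommGroup (MulAut F) := { (inferInstance : Group (MulAut F)) with mul_comm := hcomm }
  have h1 : commutator G ≤ (MulAut.conjNormal (H := F)).ker :=
    Abelianization.commutator_subset_ker _
  have h2 : (MulAut.conjNormal (H := F)).ker ≤ centralizer (F : Set G) := by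
    intro g hg
    rw [MonoidHom.mem_ker] at hg
    rw [mem_centralizer_iff]
    intro z hz
    have h3 := congrArg (fun φ : MulAut F => ((φ ⟨z, hz⟩ : F) : G)) hg
    simp only [MulAut.conjNormal_apply, MulAut.one_apply] at h3
    calc z * g = (g * z * g⁻¹) * g := by rw [h3]
      _ = g * z := by group
  exact h1.trans (h2.trans Cfsg.Agent.S0044.result)

/-- If moreover every involution acts fixed-point-freely on the Fitting subgroup, the group is
cyclic modulo the Hall `2'`-subgroup. -/
theorem exists_generator_mod_oddHall [Group.IsSolvable G] (hO2 : Cfsg.pCore 2 G = ⊥)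
    (X : Subgroup G) (hodd : Odd (Nat.card X)) (hidx : ∃ k : ℕ, X.index = 2 ^ k) [IsZGroup X]
    (hinv : ∀ v : G, orderOf v = 2 → ∀ x ∈ Cfsg.fittingSubgroup G, x ≠ 1 → v * x ≠ x * v) :
    ∃ s : G, ∀ g : G, ∃ n : ℤ, ∃ x ∈ X, g = s ^ n * x := by
  haveI : Fact (Nat.Prime 2) := ⟨Nat.prime_two⟩
  obtain ⟨hFX, hFcyc, hcomm⟩ := fitting_cyclic_of_oddHall_isZGroup hO2 X hodd hidx
  set F := Cfsg.fittingSubgroup G with hF
  haveI hFchar : F.Characteristic := Cfsg.Agent.Lib.fittingSubgroup_characteristic
  haveI hFn : F.Normal := inferInstance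
  have hFodd : Odd (Nat.card F) := Odd.of_dvd_nat hodd (card_dvd_of_le hFX)
  by_cases hFbot : F = ⊥
  · refine ⟨1, fun g => ⟨0, 1, X.one_mem, ?_⟩⟩
    have h1 : g ∈ centralizer (F : Set G) := by
      rw [hFbot, mem_centralizer_iff]
      intro z hz
      rw [coe_bot, Set.mem_singleton_iff] at hz
      rw [hz, one_mul, mul_one]
    have h2 : g ∈ F := Cfsg.Agent.S0044.result h1
    rw [hFbot, mem_bot] at h2
    rw [h2]; simp
  obtain ⟨S⟩ : Nonempty (Sylow 2 G) := inferInstance
  have hcomX : commutator G ≤ X := hcomm.trans hFX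
  have hSX : (S : Subgroup G) ⊓ X = ⊥ := by
    obtain ⟨a, ha⟩ := IsPGroup.iff_card.mp S.2
    apply inf_eq_bot_of_coprime
    rw [ha]
    exact Nat.Coprime.pow_left _ ((Nat.Prime.coprime_iff_not_dvd Nat.prime_two).mpr
      hodd.not_two_dvd_nat)
  have hSab : ∀ a ∈ (S : Subgroup G), ∀ b ∈ (S : Subgroup G), a * b = b * a := by
    intro a ha b hb
    have h1 : a * b * a⁻¹ * b⁻¹ ∈ (S : Subgroup G) ⊓ X := by
      refine Subgroup.mem_inf.mpr ⟨(S : Subgroup G).mul_mem ((S : Subgroup G).mul_mem
        ((S : Subgroup G).mul_mem ha hb) ((S : Subgroup G).inv_mem ha))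
        ((S : Subgroup G).inv_mem hb), hcomX ?_⟩
      rw [_root_.commutator_def]
      have := commutator_mem_commutator (H₁ := (⊤ : Subgroup G)) (H₂ := ⊤) (mem_top a) (mem_top b)
      rwa [commutatorElement_def] at this
    rw [hSX, mem_bot] at h1
    calc a * b = (a * b * a⁻¹ * b⁻¹) * (b * a) := by group
      _ = b * a := by rw [h1, one_mul]
  -- the Sylow 2-subgroup is cyclic
  have hScyc : IsCyclic (S : Subgroup G) := by
    by_contra hnc
    have hnt : Nontrivial (S : Subgroup G) := by
      by_contra h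
      rw [not_nontrivial_iff_subsingleton] at h
      exact hnc isCyclic_of_subsingleton
    have h2S : 2 ∣ Nat.card (S : Subgroup G) := by
      obtain ⟨a, ha⟩ := IsPGroup.iff_card.mp S.2
      have h1 := Finite.one_lt_card (α := (S : Subgroup G))
      rw [ha] at h1 ⊢
      have ha0 : a ≠ 0 := by rintro rfl; simp at h1
      exact dvd_pow_self 2 ha0
    obtain ⟨u', hu'⟩ := exists_prime_orderOf_dvd_card' 2 h2S
    have hu'1 : u' ≠ 1 := by
      intro h; rw [h, orderOf_one] at hu'; omega
    have hu'2 : u' ^ 2 = 1 := by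
      have := pow_orderOf_eq_one u'
      rwa [hu'] at this
    have hU : UniqueOrderP 2 (S : Subgroup G) := by
      refine ⟨u', hu'1, hu'2, ?_⟩
      intro v' hv'
      by_cases hv1 : v' = 1
      · rw [hv1]; exact one_mem _
      by_cases hvu : v' = u'
      · rw [hvu]; exact mem_zpowers u'
      exfalso
      -- the subgroup of elements of `S` squaring to one
      let Ω : Subgroup G :=
        { carrier := {g | g ∈ (S : Subgroup G) ∧ g * g = 1}
          mul_mem' := by
            rintro a b ⟨ha, ha2⟩ ⟨hb, hb2⟩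
            refine ⟨mul_mem ha hb, ?_⟩
            calc a * b * (a * b) = a * (b * a) * b := by group
              _ = a * (a * b) * b := by rw [hSab b hb a ha]
              _ = (a * a) * (b * b) := by group
              _ = 1 := by rw [ha2, hb2, one_mul]
          one_mem' := ⟨one_mem _, by simp⟩
          inv_mem' := by
            rintro a ⟨ha, ha2⟩
            refine ⟨inv_mem ha, ?_⟩
            rw [← mul_inv_rev, ha2, inv_one] }
      have hΩS : Ω ≤ (S : Subgroup G) := fun g hg => hg.1
      haveI : IsMulCommutative Ω :=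
        ⟨⟨fun a b => Subtype.ext (hSab a a.2.1 b b.2.1)⟩⟩
      have huΩ : (u' : G) ∈ Ω := ⟨u'.2, by
        have := congrArg Subtype.val hu'2
        simpa [pow_two] using this⟩
      have hvΩ : (v' : G) ∈ Ω := ⟨v'.2, by
        have := congrArg Subtype.val hv'
        simpa [pow_two] using this⟩
      have hΩnc : ¬ IsCyclic Ω := by
        intro hc
        obtain ⟨g, hg⟩ := hc.exists_generator
        have hg2 : g * g = 1 := Subtype.ext g.2.2
        have key : ∀ a : Ω, a = 1 ∨ a = g := by
          intro a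
          obtain ⟨n, rfl⟩ := mem_zpowers_iff.mp (hg a)
          rcases Int.even_or_odd' n with ⟨m, rfl | rfl⟩
          · left
            rw [zpow_mul, zpow_two, hg2, one_zpow]
          · right
            rw [zpow_add, zpow_mul, zpow_two, hg2, one_zpow, one_mul, zpow_one]
        have h1 := key ⟨u', huΩ⟩
        have h2 := key ⟨v', hvΩ⟩
        have hu1' : (⟨(u' : G), huΩ⟩ : Ω) ≠ 1 := fun h =>
          hu'1 (Subtype.ext (congrArg (Subtype.val (p := fun g => g ∈ Ω)) h))
        have hv1' : (⟨(v' : G), hvΩ⟩ : Ω) ≠ 1 := fun h =>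
          hv1 (Subtype.ext (congrArg (Subtype.val (p := fun g => g ∈ Ω)) h))
        have h3 : (⟨(u' : G), huΩ⟩ : Ω) = ⟨(v' : G), hvΩ⟩ :=
          (h1.resolve_left hu1').trans (h2.resolve_left hv1').symm
        exact hvu (Subtype.ext (congrArg (Subtype.val (p := fun g => g ∈ Ω)) h3).symm)
      have hcop : (Nat.card Ω).Coprime (Nat.card F) := by
        obtain ⟨a, ha⟩ := IsPGroup.iff_card.mp (S.2.to_le hΩS)
        rw [ha]
        exact Nat.Coprime.pow_left _ ((Nat.Prime.coprime_iff_not_dvd Nat.prime_two).mpr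
          hFodd.not_two_dvd_nat)
      have h58 := Cfsg.Agent.S0058.result Ω F hΩnc
        (by rw [normalizer_eq_top_iff.mpr inferInstance]; exact le_top) hcop
      apply hFbot
      rw [← h58, eq_bot_iff]
      apply iSup₂_le
      rintro a ⟨haΩ, ha1⟩
      intro x hx
      rw [mem_bot]
      by_contra hx1
      have hao : orderOf a = 2 := orderOf_eq_prime (by rw [pow_two]; exact haΩ.2) ha1
      obtain ⟨hxF, hxC⟩ := mem_inf.mp hx
      have := (mem_centralizer_iff.mp hxC) a (Set.mem_singleton a)
      exact hinv a hao x hxF hx1 this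
    obtain ⟨-, x, y, -, hxx, -, hyx⟩ := quat_pair_of_uniqueOrderP S.2 hU hnc
    apply hxx
    have h1 : y * x = x * y := Subtype.ext (hSab y y.2 x x.2)
    have h2 : y * x * y⁻¹ = x := by rw [h1, mul_inv_cancel_right]
    rw [h2] at hyx
    calc x * x = x * x⁻¹ := by rw [← hyx]
      _ = 1 := mul_inv_cancel x
  obtain ⟨s', hs'⟩ := hScyc.exists_generator
  refine ⟨(s' : G), ?_⟩
  -- `G = S X`
  have hXn : X.Normal := by
    constructor
    intro x hx g
    have h1 : g * x * g⁻¹ * x⁻¹ ∈ X := by
      apply hcomX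
      rw [_root_.commutator_def]
      have := commutator_mem_commutator (H₁ := (⊤ : Subgroup G)) (H₂ := ⊤) (mem_top g) (mem_top x)
      rwa [commutatorElement_def] at this
    have : g * x * g⁻¹ = (g * x * g⁻¹ * x⁻¹) * x := by group
    rw [this]
    exact X.mul_mem h1 hx
  have htop : (S : Subgroup G) ⊔ X = ⊤ := by
    apply eq_top_of_card_eq
    have h1 := Cfsg.Agent.Helper10.card_sup_mul_card_inf (S : Subgroup G) X
      (by rw [normalizer_eq_top_iff.mpr inferInstance]; exact le_top)
    rw [hSX, Subgroup.card_bot, mul_one] at h1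
    rw [h1]
    obtain ⟨k, hk⟩ := hidx
    have h2 := X.card_mul_index
    rw [hk] at h2
    have h3 : (Nat.card G).factorization 2 = k := by
      rw [← h2, Nat.factorization_mul Nat.card_pos.ne' (pow_pos (by norm_num) k).ne']
      simp only [Finsupp.coe_add, Pi.add_apply]
      rw [Nat.factorization_eq_zero_of_not_dvd hodd.not_two_dvd_nat,
        Nat.Prime.factorization_pow Nat.prime_two]
      simp
    rw [S.card_eq_multiplicity, h3, ← h2, mul_comm]
  intro g
  have hg : g ∈ (S : Subgroup G) ⊔ X := htop ▸ mem_top g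
  rw [← SetLike.mem_coe, mul_normal, Set.mem_mul] at hg
  obtain ⟨a, ha, x, hx, rfl⟩ := hg
  obtain ⟨n, hn⟩ := mem_zpowers_iff.mp (hs' ⟨a, ha⟩)
  refine ⟨n, x, hx, ?_⟩
  have : (a : G) = (s' : G) ^ n := by
    have := congrArg Subtype.val hn
    simpa using this.symm
  rw [this]

end

end Cfsg.Agent.Helper71
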