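import Cfsg.Agent.Helper71.FrobConstruct

set_option autoImplicit false

namespace Cfsg.Agent.Helper71

/-- Table of an embedding `SL(2,3) → SL(2,5)` (entries `a b c d ↦ p q r s`). -/
def sl23Tbl : Fin 3 → Fin 3 → Fin 3 → Fin 3 → ZMod 5 × ZMod 5 × ZMod 5 × ZMod 5
  | 0, 1, 2, 0 => (0, 4, 1, 0)
  | 0, 1, 2, 1 => (2, 4, 3, 4)
  | 0, 1, 2, 2 => (3, 2, 1, 1)
  | 0, 2, 1, 0 => (0, 1, 4, 0)
  | 0, 2, 1, 1 => (2, 3, 4, 4)
  | 0, 2, 1, 2 => (3, 1, 2, 1)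
  | 1, 0, 0, 1 => (1, 0, 0, 1)
  | 1, 0, 1, 1 => (1, 2, 1, 3)
  | 1, 0, 2, 1 => (3, 3, 4, 1)
  | 1, 1, 0, 1 => (1, 1, 2, 3)
  | 1, 1, 1, 2 => (0, 2, 2, 0)
  | 1, 1, 2, 0 => (4, 2, 1, 2)
  | 1, 2, 0, 1 => (3, 4, 3, 1)
  | 1, 2, 1, 0 => (4, 1, 2, 2)
  | 1, 2, 2, 2 => (3, 0, 0, 2)
  | 2, 0, 0, 2 => (4, 0, 0, 4)
  | 2, 0, 1, 2 => (2, 2, 1, 4)
  | 2, 0, 2, 2 => (4, 3, 4, 2)
  | 2, 1, 0, 2 => (2, 1, 2, 4)
  | 2, 1, 1, 1 => (2, 0, 0, 3)
  | 2, 1, 2, 0 => (1, 4, 3, 3)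
  | 2, 2, 0, 2 => (4, 4, 3, 2)
  | 2, 2, 1, 0 => (1, 3, 4, 3)
  | 2, 2, 2, 1 => (0, 3, 3, 0)
  | _, _, _, _ => (1, 0, 0, 1)

/-- The same table on `ZMod 3`. -/
def sl23TblZ (a b c d : ZMod 3) : ZMod 5 × ZMod 5 × ZMod 5 × ZMod 5 :=
  sl23Tbl a b c d

set_option maxRecDepth 100000 in
theorem sl23Tbl_mul : ∀ a b c d a' b' c' d' : ZMod 3, a * d - b * c = 1 → a' * d' - b' * c' = 1 →
    sl23TblZ (a * a' + b * c') (a * b' + b * d') (c * a' + d * c') (c * b' + d * d') =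
      ((sl23TblZ a b c d).1 * (sl23TblZ a' b' c' d').1 +
          (sl23TblZ a b c d).2.1 * (sl23TblZ a' b' c' d').2.2.1,
        (sl23TblZ a b c d).1 * (sl23TblZ a' b' c' d').2.1 +
          (sl23TblZ a b c d).2.1 * (sl23TblZ a' b' c' d').2.2.2,
        (sl23TblZ a b c d).2.2.1 * (sl23TblZ a' b' c' d').1 +
          (sl23TblZ a b c d).2.2.2 * (sl23TblZ a' b' c' d').2.2.1,
        (sl23TblZ a b c d).2.2.1 * (sl23TblZ a' b' c' d').2.1 +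
          (sl23TblZ a b c d).2.2.2 * (sl23TblZ a' b' c' d').2.2.2) := by
  decide

theorem sl23Tbl_one : sl23TblZ 1 0 0 1 = (1, 0, 0, 1) := by decide

set_option maxRecDepth 100000 in
theorem sl23Tbl_fpf : ∀ a b c d : ZMod 3, a * d - b * c = 1 →
    ¬ (a = 1 ∧ b = 0 ∧ c = 0 ∧ d = 1) → ∀ x y : ZMod 5,
    (sl23TblZ a b c d).1 * x + (sl23TblZ a b c d).2.1 * y = x →
    (sl23TblZ a b c d).2.2.1 * x + (sl23TblZ a b c d).2.2.2 * y = y → x = 0 ∧ y = 0 := by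
  decide

open Matrix in
/-- The action of `SL(2,3)` on `(ZMod 5)²`. -/
def sl23Act (M : Matrix.SpecialLinearGroup (Fin 2) (ZMod 3)) (w : ZMod 5 × ZMod 5) :
    ZMod 5 × ZMod 5 :=
  ((sl23TblZ (M 0 0) (M 0 1) (M 1 0) (M 1 1)).1 * w.1 +
      (sl23TblZ (M 0 0) (M 0 1) (M 1 0) (M 1 1)).2.1 * w.2,
    (sl23TblZ (M 0 0) (M 0 1) (M 1 0) (M 1 1)).2.2.1 * w.1 +
      (sl23TblZ (M 0 0) (M 0 1) (M 1 0) (M 1 1)).2.2.2 * w.2)

theorem sl23_det (M : Matrix.SpecialLinearGroup (Fin 2) (ZMod 3)) :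
    M 0 0 * M 1 1 - M 0 1 * M 1 0 = 1 := by
  have := M.2
  rwa [Matrix.det_fin_two] at this

theorem sl23Act_mul (M N : Matrix.SpecialLinearGroup (Fin 2) (ZMod 3)) (w : ZMod 5 × ZMod 5) :
    sl23Act (M * N) w = sl23Act M (sl23Act N w) := by
  have h := sl23Tbl_mul (M 0 0) (M 0 1) (M 1 0) (M 1 1) (N 0 0) (N 0 1) (N 1 0) (N 1 1)
    (sl23_det M) (sl23_det N)
  unfold sl23Act
  simp only [Matrix.SpecialLinearGroup.coe_mul, Matrix.mul_apply, Fin.sum_univ_two]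
  rw [h]
  ext <;> simp only <;> ring

theorem sl23Act_one (w : ZMod 5 × ZMod 5) : sl23Act 1 w = w := by
  unfold sl23Act
  simp only [Matrix.SpecialLinearGroup.coe_one, Matrix.one_apply_eq, ne_eq, zero_ne_one,
    not_false_eq_true, Matrix.one_apply_ne, one_ne_zero]
  rw [sl23Tbl_one]
  ext <;> simp

theorem sl23Act_zero (M : Matrix.SpecialLinearGroup (Fin 2) (ZMod 3)) : sl23Act M 0 = 0 := by
  unfold sl23Act
  ext <;> simp

theorem sl23Act_add (M : Matrix.SpecialLinearGroup (Fin 2) (ZMod 3)) (w w' : ZMod 5 × ZMod 5) :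
    sl23Act M (w + w') = sl23Act M w + sl23Act M w' := by
  unfold sl23Act
  ext <;> simp only [Prod.fst_add, Prod.snd_add] <;> ring

theorem sl23Act_fpf (M : Matrix.SpecialLinearGroup (Fin 2) (ZMod 3)) (hM : M ≠ 1)
    (w : ZMod 5 × ZMod 5) (hw : sl23Act M w = w) : w = 0 := by
  have hne : ¬ (M 0 0 = 1 ∧ M 0 1 = 0 ∧ M 1 0 = 0 ∧ M 1 1 = 1) := by
    rintro ⟨h1, h2, h3, h4⟩
    apply hM
    ext i j
    fin_cases i <;> fin_cases j <;> simp [h1, h2, h3, h4]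
  have e1 := congrArg Prod.fst hw
  have e2 := congrArg Prod.snd hw
  obtain ⟨hx, hy⟩ := sl23Tbl_fpf _ _ _ _ (sl23_det M) hne w.1 w.2 e1 e2
  ext <;> simp [hx, hy]

/-- The resulting distributive action. -/
@[instance_reducible]
def sl23DistribMulAction :
    DistribMulAction (Matrix.SpecialLinearGroup (Fin 2) (ZMod 3)) (ZMod 5 × ZMod 5) where
  smul M w := sl23Act M w
  one_smul w := sl23Act_one w
  mul_smul M N w := sl23Act_mul M N w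
  smul_zero M := sl23Act_zero M
  smul_add M w w' := sl23Act_add M w w'

theorem exists_frobenius_sl23 :
    ∃ (L : Type) (_ : Group L) (_ : Finite L) (C : Subgroup L),
      Cfsg.IsFrobeniusComplement C ∧
        Nonempty (Matrix.SpecialLinearGroup (Fin 2) (ZMod 3) ≃* C) := by
  let _ : DistribMulAction (Matrix.SpecialLinearGroup (Fin 2) (ZMod 3)) (ZMod 5 × ZMod 5) :=
    sl23DistribMulAction
  have hnt : Nontrivial (Matrix.SpecialLinearGroup (Fin 2) (ZMod 3)) := by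
    refine ⟨⟨1, ⟨!![1, 1; 0, 1], by simp [Matrix.det_fin_two]⟩, ?_⟩⟩
    intro h
    have := congrArg (fun M : Matrix.SpecialLinearGroup (Fin 2) (ZMod 3) => M 0 1) h
    simp at this
  have : Fact (Nat.Prime 5) := ⟨by norm_num⟩
  have hnt' : Nontrivial (ZMod 5 × ZMod 5) := inferInstance
  exact exists_frobenius_of_fpf_add (V := ZMod 5 × ZMod 5)
    (H := Matrix.SpecialLinearGroup (Fin 2) (ZMod 3)) (fun g hg w hw => sl23Act_fpf g hg w hw)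

end Cfsg.Agent.Helper71
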