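import Mathlib
import Cfsg.Agent.Helper71.SchDefs
import Cfsg.Agent.Helper37.SchA2a

/-!
# Piece (A2b) of S4394: noncentral elements have the whole centre as commutators
-/

set_option autoImplicit false

namespace Cfsg.Agent.Helper71.Sch

open scoped commutatorElement

variable {P₀ : Type*} [Group P₀]

theorem comm_mul_right_of_central (hcomm : ∀ x y : P₀, ⁅x, y⁆ ∈ Subgroup.center P₀) (u v w : P₀) :
    ⁅u, v * w⁆ = ⁅u, v⁆ * ⁅u, w⁆ := by
  have h := Subgroup.mem_center_iff.mp (hcomm u w)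
  have h1 : ⁅u, v * w⁆ = u * v * u⁻¹ * ⁅u, w⁆ * v⁻¹ := by
    simp only [commutatorElement_def]; group
  rw [h1, mul_assoc (u * v * u⁻¹), ← h v⁻¹, ← mul_assoc]
  simp only [commutatorElement_def]

theorem comm_mul_left_of_central (hcomm : ∀ x y : P₀, ⁅x, y⁆ ∈ Subgroup.center P₀) (u w v : P₀) :
    ⁅u * w, v⁆ = ⁅u, v⁆ * ⁅w, v⁆ := by
  have h := Subgroup.mem_center_iff.mp (hcomm w v)
  have h1 : ⁅u * w, v⁆ = u * ⁅w, v⁆ * v * u⁻¹ * v⁻¹ := by
    simp only [commutatorElement_def]; group
  rw [h1, h u, h ⁅u, v⁆]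
  simp only [commutatorElement_def]; group

theorem comm_inv_left_of_central (hcomm : ∀ x y : P₀, ⁅x, y⁆ ∈ Subgroup.center P₀) (w v : P₀) :
    ⁅w⁻¹, v⁆ = ⁅w, v⁆⁻¹ := by
  have h := comm_mul_left_of_central hcomm w⁻¹ w v
  rw [inv_mul_cancel, commutatorElement_one_left] at h
  exact eq_inv_of_mul_eq_one_left h.symm

theorem comm_one_right' (u : P₀) : ⁅u, (1 : P₀)⁆ = 1 := commutatorElement_one_right u

theorem comm_inv_right_of_central (hcomm : ∀ x y : P₀, ⁅x, y⁆ ∈ Subgroup.center P₀) (u v : P₀) :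
    ⁅u, v⁻¹⁆ = ⁅u, v⁆⁻¹ := by
  have h := comm_mul_right_of_central hcomm u v⁻¹ v
  rw [inv_mul_cancel, commutatorElement_one_right] at h
  exact eq_inv_of_mul_eq_one_left h.symm

/-- the subgroup of commutators `⁅u, v⁆`, `v ∈ P₀` -/
def commSub (hcomm : ∀ x y : P₀, ⁅x, y⁆ ∈ Subgroup.center P₀) (u : P₀) : Subgroup P₀ where
  carrier := {z | ∃ v : P₀, ⁅u, v⁆ = z}
  mul_mem' := by
    rintro a b ⟨v, rfl⟩ ⟨w, rfl⟩
    exact ⟨v * w, comm_mul_right_of_central hcomm u v w⟩
  one_mem' := ⟨1, commutatorElement_one_right u⟩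
  inv_mem' := by
    rintro a ⟨v, rfl⟩
    exact ⟨v⁻¹, comm_inv_right_of_central hcomm u v⟩

/-- the elements all of whose commutators lie in `commSub u` -/
def commPre (hcomm : ∀ x y : P₀, ⁅x, y⁆ ∈ Subgroup.center P₀) (u : P₀) : Subgroup P₀ where
  carrier := {w | ∀ v : P₀, ⁅w, v⁆ ∈ commSub hcomm u}
  mul_mem' := by
    intro a b ha hb v
    rw [comm_mul_left_of_central hcomm]
    exact mul_mem (ha v) (hb v)
  one_mem' := by
    intro v
    rw [commutatorElement_one_left]
    exact one_mem _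
  inv_mem' := by
    intro a ha v
    rw [comm_inv_left_of_central hcomm]
    exact inv_mem (ha v)

/-- fixed elements lie in the commutator subgroup -/
theorem mem_commutator_of_fixed [Finite P₀] {p q : ℕ} [Fact p.Prime] (hP : IsPGroup p P₀)
    (φ : MulAut P₀) (hφ : SchAut p q φ) (z : P₀) (hz : φ z = z) : z ∈ commutator P₀ := by
  classical
  let A := Abelianization P₀
  let φA : A →* A := Abelianization.map φ.toMonoidHom
  -- the twisted endomorphism
  let τ : A →* A :=
    { toFun := fun a => a⁻¹ * φA a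
      map_one' := by simp
      map_mul' := by
        intro a b
        rw [map_mul, mul_inv]
        exact mul_mul_mul_comm _ _ _ _ }
  have hτ : ∀ a : P₀, τ (Abelianization.of a) = Abelianization.of (a⁻¹ * φ a) := by
    intro a
    show (Abelianization.of a)⁻¹ * φA (Abelianization.of a) = _
    rw [Abelianization.map_of, map_mul, map_inv]
    rfl
  have htop := Cfsg.Agent.Helper37.Sch.twistSub_eq_top hP φ hφ
  have hsurj : Function.Surjective τ := by
    rw [← MonoidHom.range_eq_top]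
    rw [eq_top_iff]
    intro b _
    obtain ⟨g, rfl⟩ := QuotientGroup.mk_surjective b
    have hg : g ∈ Cfsg.Agent.Helper37.Sch.twistSub φ := by rw [htop]; exact Subgroup.mem_top g
    have hle : Cfsg.Agent.Helper37.Sch.twistSub φ ≤
        Subgroup.comap (Abelianization.of : P₀ →* A) τ.range := by
      rw [Cfsg.Agent.Helper37.Sch.twistSub, Subgroup.closure_le]
      rintro x ⟨a, rfl⟩
      show Abelianization.of (a⁻¹ * φ a) ∈ τ.range
      exact ⟨Abelianization.of a, hτ a⟩
    exact hle hg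
  have hinj : Function.Injective τ := Finite.injective_iff_surjective.mpr hsurj
  have h1 : τ (Abelianization.of z) = 1 := by
    rw [hτ, hz, inv_mul_cancel, map_one]
  have h2 : (Abelianization.of z : A) = 1 := hinj (by rw [h1, map_one])
  rw [← Abelianization.ker_of]
  exact h2

/-- (A2b) every noncentral element has all of the centre as its commutators. -/
theorem surj_of_schAut {P₀ : Type*} [Group P₀] [Finite P₀] {p q : ℕ} [Fact p.Prime]
    (hP : IsPGroup p P₀) (φ : MulAut P₀) (hφ : SchAut p q φ)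
    (hfix : ∀ a : P₀, φ a = a ↔ a ∈ Subgroup.center P₀)
    (hcomm : ∀ x y : P₀, ⁅x, y⁆ ∈ Subgroup.center P₀) :
    ∀ u : P₀, u ∉ Subgroup.center P₀ → ∀ z ∈ Subgroup.center P₀, ∃ v : P₀, ⁅u, v⁆ = z := by
  intro u hu z hz
  -- `commPre u` is `φ`-invariant
  have hinv : ∀ a ∈ commPre hcomm u, φ a ∈ commPre hcomm u := by
    intro a ha v
    have h1 : ⁅φ a, v⁆ = φ ⁅a, φ⁻¹ v⁆ := by
      rw [map_commutatorElement]
      simp
    rw [h1, (hfix _).mpr (hcomm a (φ⁻¹ v))]
    exact ha _
  have hu' : u ∈ commPre hcomm u := fun v => ⟨v, rfl⟩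
  have htop : commPre hcomm u = ⊤ := by
    by_contra hne
    exact hu ((hfix u).mp (hφ.min _ hne hinv u hu'))
  have hle : commutator P₀ ≤ commSub hcomm u := by
    rw [commutator_def, Subgroup.commutator_le]
    intro a _ b _
    have : a ∈ commPre hcomm u := by rw [htop]; exact Subgroup.mem_top a
    exact this b
  exact hle (mem_commutator_of_fixed hP φ hφ z ((hfix z).mpr hz))

end Cfsg.Agent.Helper71.Sch
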