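import Mathlib
import Cfsg.Prelude.Def_Local
import Cfsg.Agent.Helper71.SchDefs
import Cfsg.Agent.Lib.Cores

set_option autoImplicit false

namespace Cfsg.Agent.Helper71.Sch

open scoped commutatorElement
open Cfsg

universe u v

/-- (B4c) the case `|S : Z(S)| = p ^ 2`, from the three pieces (B3a), (B4a), (B4b) as hypotheses. -/
theorem false_of_small_aux {Γ : Type u} [Group Γ] [Finite Γ] {p : ℕ} [hp : Fact p.Prime]
    (S : Sylow p Γ) (hS : SchIn p (S : Subgroup Γ))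
    (hidx : Nat.card (S : Subgroup Γ) = p * Nat.card (Cfsg.pCore p Γ))
    (hsmall : Nat.card (S : Subgroup Γ) =
      p ^ 2 * Nat.card ↥((S : Subgroup Γ) ⊓ Subgroup.centralizer ((S : Subgroup Γ) : Set Γ)))
    (hB3a : Nat.card ↥((S : Subgroup Γ) ⊓ Subgroup.centralizer ((S : Subgroup Γ) : Set Γ)) = p ∧
      ∃ u ∈ Cfsg.pCore p Γ, u ∈ Subgroup.centralizer (Cfsg.pCore p Γ : Set Γ) ∧
        u ∉ Subgroup.centralizer ((S : Subgroup Γ) : Set Γ))
    (hB4a : IsCyclic ↥(Cfsg.pCore p Γ) → (S : Subgroup Γ) ≤ Cfsg.pCore p Γ)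
    (hB4b : 5 ≤ p → Cfsg.IsElementaryAbelian p (Cfsg.pCore p Γ) → ∀ x : Γ,
      (∀ r ∈ Cfsg.pCore p Γ, ∀ i j : ℤ, ⁅⁅r, x ^ i⁆, x ^ j⁆ = 1) → x ∈ Cfsg.pCore p Γ) :
    False := by
  obtain ⟨hZ, u, huR, -, huS⟩ := hB3a
  have hp1 := hp.out.one_lt
  have hppos : 0 < p := hp.out.pos
  have hRS : Cfsg.pCore p Γ ≤ (S : Subgroup Γ) := Cfsg.Agent.Lib.pCore_le_sylow S
  -- |R| = p^2
  have hRcard : Nat.card (Cfsg.pCore p Γ) = p ^ 2 := by
    rw [hZ] at hsmall
    rw [hsmall] at hidx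
    have : p * (p ^ 2) = p * Nat.card (Cfsg.pCore p Γ) := by rw [← hidx]; ring
    exact (Nat.eq_of_mul_eq_mul_left hppos this).symm
  -- S is not contained in R
  have hne : ¬ (S : Subgroup Γ) ≤ Cfsg.pCore p Γ := by
    intro hle
    have h1 := Subgroup.card_le_of_le hle
    rw [hidx] at h1
    have hpos : 0 < Nat.card (Cfsg.pCore p Γ) := Nat.card_pos
    nlinarith
  -- R is not cyclic
  have hncyc : ¬ IsCyclic ↥(Cfsg.pCore p Γ) := fun h => hne (hB4a h)
  -- R is commutative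
  have hRcomm : IsMulCommutative ↥(Cfsg.pCore p Γ) :=
    IsPGroup.isMulCommutative_of_card_eq_prime_sq hRcard
  -- exponent p
  have hexp : ∀ r ∈ Cfsg.pCore p Γ, r ^ p = 1 := by
    intro r hr
    have hdvd : orderOf (⟨r, hr⟩ : ↥(Cfsg.pCore p Γ)) ∣ p ^ 2 := by
      rw [← hRcard]; exact orderOf_dvd_natCard _
    obtain ⟨k, hk2, hk⟩ := (Nat.dvd_prime_pow hp.out).mp hdvd
    have hk1 : k ≤ 1 := by
      by_contra hgt
      have hk' : k = 2 := by omega
      apply hncyc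
      apply isCyclic_of_orderOf_eq_card (⟨r, hr⟩ : ↥(Cfsg.pCore p Γ))
      rw [hk, hk', hRcard]
    have h1 : (⟨r, hr⟩ : ↥(Cfsg.pCore p Γ)) ^ p = 1 := by
      apply orderOf_dvd_iff_pow_eq_one.mp
      rw [hk]
      exact (pow_dvd_pow p hk1).trans (by rw [pow_one])
    have := congrArg Subtype.val h1
    simpa using this
  have hR : Cfsg.IsElementaryAbelian p (Cfsg.pCore p Γ) := ⟨hRcomm, hexp⟩
  obtain ⟨hp3, hp2⟩ := hS.small hsmall
  have hp2' : p ≠ 2 := by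
    intro h2
    have := hp2 h2 u (hRS huR) huS
    apply this
    have := hexp u huR
    rwa [h2] at this
  have hp5 : 5 ≤ p := by
    by_contra hlt
    have hlt' : p < 5 := by omega
    have h4 : p ≠ 4 := by
      intro h4
      have := hp.out
      rw [h4] at this
      exact absurd this (by norm_num)
    omega
  obtain ⟨x, hxS, hxR⟩ := SetLike.not_le_iff_exists.mp hne
  apply hxR
  apply hB4b hp5 hR x
  intro r hr i j
  have h1 : ⁅r, x ^ i⁆ ∈ Subgroup.centralizer ((S : Subgroup Γ) : Set Γ) :=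
    hS.comm_mem r (hRS hr) (x ^ i) (Subgroup.zpow_mem _ hxS i)
  have h2 := Subgroup.mem_centralizer_iff.mp h1 (x ^ j) (Subgroup.zpow_mem _ hxS j)
  rw [commutatorElement_def]
  rw [← h2]
  group

end Cfsg.Agent.Helper71.Sch
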