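import Mathlib
import Cfsg.Prelude.Def_Local
import Cfsg.Prelude.Def_SolvableStructure
import Cfsg.Agent.Helper71.SchDefs
import Cfsg.Agent.Helper71.SchSmall
import Cfsg.Agent.Helper11.PSolvable
import Cfsg.Agent.Helper54.PConstrained
import Cfsg.Agent.Helper54.PLength
import Cfsg.Agent.Helper54.BG36Plumb
import Cfsg.Agent.Helper63.PSeriesTools
import Cfsg.Agent.Lib.Cores
import Cfsg.Agent.Helper14.SchB0
import Cfsg.Agent.Helper50.SchB2
import Cfsg.Agent.Helper50.SchB3a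
import Cfsg.Agent.Helper60.SchB4a
import Cfsg.Agent.Helper60.SchC1
import Cfsg.Agent.Helper35.SchB4b
import Cfsg.Agent.Helper35.SchB5
import Cfsg.Agent.Helper62.SchB1b
import Cfsg.Agent.Helper50.SchB3b

/-!
# S4394: assembly

A `p`-solvable group whose Sylow `p`-subgroups are of Schmidt type (`SchType`) has `p`-length at
most one.  The pieces come from helper14, helper31, helper35, helper37, helper50, helper60,
helper62, helper65, helper67, helper89 (board #5897).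
-/

set_option autoImplicit false

namespace Cfsg.Agent.Helper71.Sch

open scoped commutatorElement
open Cfsg

universe u v

/-- (B4c) the case `|S : Z(S)| = p ^ 2`. -/
theorem false_of_small {Γ : Type u} [Group Γ] [Finite Γ] {p : ℕ} [Fact p.Prime]
    (hΓ : Cfsg.IsPSolvable p Γ)
    (hC : Subgroup.centralizer (Cfsg.pCore p Γ : Set Γ) ≤ Cfsg.pCore p Γ)
    (S : Sylow p Γ) (hS : SchIn p (S : Subgroup Γ))
    (hidx : Nat.card (S : Subgroup Γ) = p * Nat.card (Cfsg.pCore p Γ))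
    (hsmall : Nat.card (S : Subgroup Γ) =
      p ^ 2 * Nat.card ↥((S : Subgroup Γ) ⊓ Subgroup.centralizer ((S : Subgroup Γ) : Set Γ))) :
    False :=
  false_of_small_aux S hS hidx hsmall (Cfsg.Agent.Helper50.Sch.card_center_eq hC S hS hidx)
    (fun hcyc => Cfsg.Agent.Helper60.Sch.le_pCore_of_isCyclic hC hcyc S)
    (fun hp5 hR x hquad => Cfsg.Agent.Helper35.Sch.mem_pCore_of_quadratic hp5 hΓ hC hR x hquad)

/-- the core: in a minimal configuration the Sylow subgroup is normal. -/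
theorem core {Γ : Type u} [Group Γ] [Finite Γ] {p : ℕ} [Fact p.Prime]
    (hΓ : Cfsg.IsPSolvable p Γ) (hO : Cfsg.pPrimeCore p Γ = ⊥) (S : Sylow p Γ)
    (hS : SchIn p (S : Subgroup Γ))
    (ih : ∀ H : Subgroup Γ, (S : Subgroup Γ) ≤ H → H ≠ ⊤ →
      ∀ h ∈ H, ∀ s ∈ (S : Subgroup Γ), h * s * h⁻¹ ∈ (S : Subgroup Γ)) :
    (S : Subgroup Γ) ≤ Cfsg.pCore p Γ := by
  by_contra hne
  have hC := Cfsg.Agent.Helper11.centralizer_pCore_le_of_isPSolvable hΓ hO
  have hRS : Cfsg.pCore p Γ ≤ (S : Subgroup Γ) := Cfsg.Agent.Lib.pCore_le_sylow S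
  have hZR : ∀ z, z ∈ Subgroup.centralizer ((S : Subgroup Γ) : Set Γ) → z ∈ Cfsg.pCore p Γ :=
    fun z hz => hC (Subgroup.centralizer_le (by exact_mod_cast hRS) hz)
  have hpow : ∀ x ∈ (S : Subgroup Γ), x ^ p ∈ Cfsg.pCore p Γ :=
    fun x hx => hZR _ (hS.pow_mem x hx)
  have hcomm : ∀ x ∈ (S : Subgroup Γ), ∀ y ∈ (S : Subgroup Γ), ⁅x, y⁆ ∈ Cfsg.pCore p Γ :=
    fun x hx y hy => hZR _ (hS.comm_mem x hx y hy)
  have hidx := Cfsg.Agent.Helper62.SchB1b.card_eq_mul_pCore hΓ S hne hpow hcomm ih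
  by_cases hsm : Nat.card (S : Subgroup Γ) =
      p ^ 2 * Nat.card ↥((S : Subgroup Γ) ⊓ Subgroup.centralizer ((S : Subgroup Γ) : Set Γ))
  · exact false_of_small hΓ hC S hS hidx hsm
  · exact Cfsg.Agent.Helper50.Sch.false_of_big hC S hS hidx hsm

/-- main theorem of Part B -/
theorem sylow_le_pCore {p : ℕ} [Fact p.Prime] {P₀ : Type v} [Group P₀] (hP₀ : SchType p P₀) :
    ∀ (n : ℕ) (Γ : Type u) [Group Γ] [Finite Γ], Nat.card Γ = n → Cfsg.IsPSolvable p Γ →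
      Cfsg.pPrimeCore p Γ = ⊥ → ∀ S : Sylow p Γ, Nonempty (↥(S : Subgroup Γ) ≃* P₀) →
        (S : Subgroup Γ) ≤ Cfsg.pCore p Γ := by
  intro n
  induction n using Nat.strong_induction_on with
  | _ n IH =>
  intro Γ _ _ hn hΓ hO S ⟨e⟩
  have hC := Cfsg.Agent.Helper11.centralizer_pCore_le_of_isPSolvable hΓ hO
  refine core hΓ hO S (Cfsg.Agent.Helper14.Sch.schIn_of_equiv hP₀ (S : Subgroup Γ) e) ?_
  intro H hSH hH
  refine Cfsg.Agent.Helper35.Sch.conj_mem_of_ih hΓ hC S e ?_ H hSH hH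
  intro Δ _ _ hlt hΔ hOΔ T hT
  exact IH (Nat.card Δ) (hn ▸ hlt) Δ rfl hΔ hOΔ T hT

/-- A `p`-solvable group with Sylow `p`-subgroups of Schmidt type has `p`-length at most one. -/
theorem pLengthLE_one_of_schType {G : Type u} [Group G] [Finite G] {p : ℕ} [Fact p.Prime]
    {P₀ : Type v} [Group P₀] (hP₀ : SchType p P₀) (hG : Cfsg.IsPSolvable p G) (Q : Sylow p G)
    (e : ↥(Q : Subgroup G) ≃* P₀) : Cfsg.PLengthLE p 1 G := by
  have hQsol : Cfsg.IsPSolvable p (G ⧸ Cfsg.pPrimeCore p G) :=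
    Cfsg.Agent.Helper11.isPSolvable_quotient _ hG
  have hQO : Cfsg.pPrimeCore p (G ⧸ Cfsg.pPrimeCore p G) = ⊥ :=
    Cfsg.Agent.Helper54.pPrimeCore_quotient_eq_bot
  obtain ⟨Q', ⟨e'⟩⟩ := Cfsg.Agent.Helper60.Sch.exists_sylow_quotient_equiv Q
  have hle := sylow_le_pCore hP₀ _ (G ⧸ Cfsg.pPrimeCore p G) rfl hQsol hQO Q' ⟨e'.trans e⟩
  have hidx : ¬ p ∣ (Cfsg.pCore p (G ⧸ Cfsg.pPrimeCore p G)).index := by
    intro hdvd
    exact Q'.not_dvd_index (hdvd.trans (Subgroup.index_dvd_of_le hle))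
  have hQ : Cfsg.PLengthLE p 1 (G ⧸ Cfsg.pPrimeCore p G) :=
    Cfsg.Agent.Helper54.BG36P.pLengthLE_one_of_normal_pGroup
      (Cfsg.pCore p (G ⧸ Cfsg.pPrimeCore p G)) (Cfsg.Agent.Lib.isPGroup_pCore p) hidx
  exact Cfsg.Agent.Helper63.pLengthLE_of_quotient_pPrime (Cfsg.pPrimeCore p G)
    (by rw [Cfsg.Agent.Helper54.upperPSeries_one]) hQ

end Cfsg.Agent.Helper71.Sch
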