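import Cfsg.Agent.Helper71.Wielandt
import Cfsg.Agent.Helper71.FrobSection
import Cfsg.Agent.S4116

/-!
# TI subgroups that are Hall in their normalizer (helper71)
-/

set_option autoImplicit false

namespace Cfsg.Agent.Helper71

open Subgroup

universe u

section

variable {G : Type u} [Group G] [Finite G]

/-- A `p`-element of `N_G(H)`, `p ∣ |H|`, lies in `H` when `H` is Hall in `N_G(H)`. -/
theorem tih_mem_of_pElement (H : Subgroup G)
    (hHall : (Nat.card H).Coprime (H.subgroupOf (normalizer (H : Set G))).index)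
    {p : ℕ} (hp : p.Prime) (hpH : p ∣ Nat.card H) {g : G} (hg : g ∈ normalizer (H : Set G))
    (hgo : ∃ k, orderOf g = p ^ k) : g ∈ H := by
  set M := normalizer (H : Set G) with hM
  haveI : (H.subgroupOf M).Normal := Subgroup.normal_in_normalizer
  have h1 : (⟨g, hg⟩ : M) ^ (H.subgroupOf M).index ∈ H.subgroupOf M :=
    Subgroup.pow_index_mem _ _
  have h2 : g ^ (H.subgroupOf M).index ∈ H := by
    have := Subgroup.mem_subgroupOf.mp h1
    simpa using this
  obtain ⟨k, hk⟩ := hgo
  have h3 : ((H.subgroupOf M).index).Coprime (orderOf g) := by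
    rw [hk]
    apply Nat.Coprime.pow_right
    exact (Nat.Coprime.coprime_dvd_left hpH hHall).symm
  exact S4116.mem_of_pow_mem_of_coprime H g _ h3 h2

/-- TI and Hall in the normalizer imply Hall in the group. -/
theorem tih_coprime_index (H : Subgroup G) (hTI : Cfsg.IsTISubset (H : Set G))
    (hHall : (Nat.card H).Coprime (H.subgroupOf (normalizer (H : Set G))).index) :
    (Nat.card H).Coprime H.index := by
  apply Nat.coprime_of_dvd
  intro p hp hpH hpI
  haveI : Fact p.Prime := ⟨hp⟩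
  obtain ⟨y, hy⟩ := exists_prime_orderOf_dvd_card' p hpH
  have hy1 : (y : G) ≠ 1 := by
    intro hc
    have : y = 1 := Subtype.ext hc
    rw [this, orderOf_one] at hy
    exact hp.one_lt.ne' hy.symm
  have hP₁ : IsPGroup p (zpowers (y : G)) := by
    apply IsPGroup.of_card (n := 1)
    rw [Nat.card_zpowers, Subgroup.orderOf_coe, hy, pow_one]
  obtain ⟨S, hS⟩ := hP₁.exists_le_sylow
  have hyS : (y : G) ∈ (S : Subgroup G) := hS (mem_zpowers _)
  haveI : Nontrivial (S : Subgroup G) := by
    refine ⟨⟨⟨(y : G), hyS⟩, 1, ?_⟩⟩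
    intro hc
    exact hy1 (congrArg Subtype.val hc)
  haveI := IsPGroup.center_nontrivial S.isPGroup'
  obtain ⟨z, hz1⟩ := exists_ne (1 : center (S : Subgroup G))
  have hzc : ∀ s : (S : Subgroup G), s * (z : (S : Subgroup G)) = (z : (S : Subgroup G)) * s :=
    fun s => (mem_center_iff.mp z.2 s)
  have hzG1 : ((z : (S : Subgroup G)) : G) ≠ 1 := by
    intro hc
    apply hz1
    apply Subtype.ext
    apply Subtype.ext
    exact hc
  have hzo : ∃ k, orderOf ((z : (S : Subgroup G)) : G) = p ^ k := by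
    have := (IsPGroup.iff_orderOf.mp S.isPGroup') (z : (S : Subgroup G))
    rwa [Subgroup.orderOf_coe]
  -- z normalizes H
  have hzM : ((z : (S : Subgroup G)) : G) ∈ normalizer (H : Set G) := by
    by_contra hcon
    apply hy1
    apply hTI _ hcon (y : G) y.2
    have h1 := hzc ⟨(y : G), hyS⟩
    have h2 : (y : G) * ((z : (S : Subgroup G)) : G) = ((z : (S : Subgroup G)) : G) * (y : G) :=
      congrArg Subtype.val h1
    have h3 : ((z : (S : Subgroup G)) : G) * (y : G) * ((z : (S : Subgroup G)) : G)⁻¹ = (y : G) := by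
      rw [← h2]; group
    rw [h3]
    exact y.2
  have hzH : ((z : (S : Subgroup G)) : G) ∈ H := tih_mem_of_pElement H hHall hp hpH hzM hzo
  have hSH : (S : Subgroup G) ≤ H := by
    intro s hs
    have hso : ∃ k, orderOf s = p ^ k := by
      have := (IsPGroup.iff_orderOf.mp S.isPGroup') ⟨s, hs⟩
      rwa [Subgroup.orderOf_mk] at this
    have hsM : s ∈ normalizer (H : Set G) := by
      by_contra hcon
      apply hzG1
      apply hTI _ hcon _ hzH
      have h1 := hzc ⟨s, hs⟩
      have h2 : s * ((z : (S : Subgroup G)) : G) = ((z : (S : Subgroup G)) : G) * s :=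
        congrArg Subtype.val h1
      have h3 : s * ((z : (S : Subgroup G)) : G) * s⁻¹ = ((z : (S : Subgroup G)) : G) := by
        rw [h2]; group
      rw [h3]
      exact hzH
    exact tih_mem_of_pElement H hHall hp hpH hsM hso
  have h1 : H.index ∣ (S : Subgroup G).index := index_dvd_of_le hSH
  exact S.not_dvd_index (dvd_trans hpI h1)

/-- Wielandt: a TI subgroup `H`, Hall in `M = N_G(H)`, with a normal complement `K` in `M` has a
normal complement `N` in `G`, and `N ∩ M = K`. -/
theorem tih_exists_normal_complement_aux (H M : Subgroup G) (hM : M = normalizer (H : Set G))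
    (hTI : Cfsg.IsTISubset (H : Set G))
    (hHall : (Nat.card H).Coprime (H.subgroupOf M).index)
    (K : Subgroup M) (hKn : K.Normal) (hK : K.IsComplement' (H.subgroupOf M)) :
    ∃ N : Subgroup G, N.Normal ∧ N.IsComplement' H ∧ N ⊓ M = K.map M.subtype := by
  have hHM : H ≤ M := by rw [hM]; exact le_normalizer
  have hHMn : (H.subgroupOf M).Normal := by subst hM; exact normal_in_normalizer
  have hTIM : ∀ g : G, g ∉ M → ∀ x ∈ H, g * x * g⁻¹ ∈ H → x = 1 := by
    subst hM; exact hTI
  set K' := K.map M.subtype with hK'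
  have hK'M : K' ≤ M := map_subtype_le K
  let π : M →* M ⧸ K := QuotientGroup.mk' K
  have hmemK' : ∀ m : M, (m : G) ∈ K' ↔ m ∈ K := by
    intro m
    constructor
    · rintro ⟨m', hm', he⟩
      have : m' = m := Subtype.ext he
      rwa [← this]
    · intro h
      exact ⟨m, h, rfl⟩
  have hker : ∀ m : M, π m = 1 ↔ (m : G) ∈ K' := by
    intro m
    show QuotientGroup.mk' K m = 1 ↔ _
    rw [QuotientGroup.mk'_apply, QuotientGroup.eq_one_iff, hmemK']
  have hKidx : K.index = Nat.card (H.subgroupOf M) := hK.symm.index_eq_card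
  have hcardHM : Nat.card (H.subgroupOf M) = Nat.card H :=
    Nat.card_congr (subgroupOfEquivOfLe hHM).toEquiv
  have hTI' : ∀ g : G, g ∉ M → ∀ x ∈ M, g * x * g⁻¹ ∈ M → x ∈ K' := by
    intro g hg x hx hgx
    set n := (H.subgroupOf M).index with hn'
    have h1 : x ^ n ∈ H := by
      have := Subgroup.pow_index_mem (H.subgroupOf M) (⟨x, hx⟩ : M)
      have := mem_subgroupOf.mp this
      simpa using this
    have h2 : (g * x * g⁻¹) ^ n ∈ H := by
      have := Subgroup.pow_index_mem (H.subgroupOf M) (⟨g * x * g⁻¹, hgx⟩ : M)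
      have := mem_subgroupOf.mp this
      simpa using this
    have h3 : g * x ^ n * g⁻¹ ∈ H := by rwa [conj_pow] at h2
    have h4 : x ^ n = 1 := hTIM g hg (x ^ n) h1 h3
    have h5 : (⟨x, hx⟩ : M) ∈ K := by
      apply S4116.mem_of_pow_mem_of_coprime K ⟨x, hx⟩ K.index
      · rw [hKidx, hcardHM, Subgroup.orderOf_mk]
        exact Nat.Coprime.coprime_dvd_right (orderOf_dvd_of_pow_eq_one h4) hHall
      · exact Subgroup.pow_index_mem K _
    exact (hmemK' ⟨x, hx⟩).mpr h5
  obtain ⟨N, hNn, hNM, hNsup⟩ := wielandt_normal_complement M K' hK'M π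
    (QuotientGroup.mk'_surjective K) hker hTI'
  refine ⟨N, hNn, ?_, hNM⟩
  have hK'H : K' ⊓ H = ⊥ := by
    rw [eq_bot_iff]
    rintro x ⟨hxK, hxH⟩
    have hxM : x ∈ M := hK'M hxK
    have h1 : (⟨x, hxM⟩ : M) ∈ K := (hmemK' ⟨x, hxM⟩).mp hxK
    have h2 : (⟨x, hxM⟩ : M) ∈ H.subgroupOf M := mem_subgroupOf.mpr hxH
    have h3 : (⟨x, hxM⟩ : M) ∈ K ⊓ H.subgroupOf M := ⟨h1, h2⟩
    rw [hK.disjoint.eq_bot, mem_bot] at h3
    rw [mem_bot]
    exact congrArg Subtype.val h3
  have hK'supH : M ≤ K' ⊔ H := by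
    intro m hm
    obtain ⟨⟨k, h⟩, hkh⟩ := hK.2 ⟨m, hm⟩
    have h1 : (k : M) * (h : M) = ⟨m, hm⟩ := hkh
    have h2 : ((k : M) : G) * ((h : M) : G) = m := congrArg Subtype.val h1
    rw [← h2]
    exact mul_mem_sup ((hmemK' _).mpr k.2) (mem_subgroupOf.mp h.2)
  have hK'N : K' ≤ N := by
    rw [← hNM]; exact inf_le_left
  apply isComplement'_of_disjoint_and_mul_eq_univ
  · rw [disjoint_iff, eq_bot_iff]
    intro x hx
    obtain ⟨hxN, hxH⟩ := mem_inf.mp hx
    have h1 : x ∈ N ⊓ M := ⟨hxN, hHM hxH⟩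
    rw [hNM] at h1
    rw [← hK'H]
    exact ⟨h1, hxH⟩
  · rw [← Subgroup.normal_mul, ← Subgroup.coe_top, SetLike.coe_set_eq, eq_top_iff, ← hNsup]
    apply sup_le le_sup_left
    exact hK'supH.trans (sup_le (hK'N.trans le_sup_left) le_sup_right)

/-- The converse: a normal complement in `G` restricts to a normal complement in any subgroup
`M` containing `H`. -/
theorem tih_normal_complement_restrict (H M : Subgroup G) (hHM : H ≤ M) (N : Subgroup G)
    (hNn : N.Normal) (hN : N.IsComplement' H) :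
    ∃ K : Subgroup M, K.Normal ∧ K.IsComplement' (H.subgroupOf M) := by
  refine ⟨N.subgroupOf M, inferInstance, ?_⟩
  apply isComplement'_of_disjoint_and_mul_eq_univ
  · rw [disjoint_iff, eq_bot_iff]
    intro x hx
    obtain ⟨hxN, hxH⟩ := mem_inf.mp hx
    have h1 : (x : G) ∈ N ⊓ H := ⟨mem_subgroupOf.mp hxN, mem_subgroupOf.mp hxH⟩
    rw [hN.disjoint.eq_bot, mem_bot] at h1
    rw [mem_bot]
    exact Subtype.ext h1
  · rw [Set.eq_univ_iff_forall]
    intro m
    obtain ⟨⟨n, h⟩, hnh⟩ := hN.2 (m : G)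
    have h1 : (n : G) * (h : G) = (m : G) := hnh
    have hhM : (h : G) ∈ M := hHM h.2
    have hnM : (n : G) ∈ M := by
      have : (n : G) = (m : G) * (h : G)⁻¹ := by rw [← h1]; group
      rw [this]
      exact M.mul_mem m.2 (M.inv_mem hhM)
    refine ⟨⟨(n : G), hnM⟩, mem_subgroupOf.mpr n.2, ⟨(h : G), hhM⟩, mem_subgroupOf.mpr h.2, ?_⟩
    exact Subtype.ext h1

omit [Finite G] in
theorem tih_mem_normalizer_inf {X Y : Subgroup G} {h : G} (hX : h ∈ normalizer (X : Set G))
    (hY : h ∈ normalizer (Y : Set G)) : h ∈ normalizer ((X ⊓ Y : Subgroup G) : Set G) := by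
  rw [mem_normalizer_iff] at hX hY ⊢
  intro x
  rw [mem_inf, mem_inf, hX x, hY x]

/-- A non-normal TI subgroup `H`, Hall in `M = N_G(H)`, with a normal complement in `M`, is
(isomorphic to) a Frobenius complement. -/
theorem tih_frobenius_complement_aux (H M : Subgroup G) (hM : M = normalizer (H : Set G))
    (hTI : Cfsg.IsTISubset (H : Set G))
    (hHall : (Nat.card H).Coprime (H.subgroupOf M).index) (hnn : ¬ H.Normal)
    (K : Subgroup M) (hKn : K.Normal) (hK : K.IsComplement' (H.subgroupOf M)) :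
    ∃ (F : Type u) (_ : Group F) (_ : Finite F) (C : Subgroup F),
      Cfsg.IsFrobeniusComplement C ∧ Nonempty (H ≃* C) := by
  obtain ⟨N, hNn, hNc, hNM⟩ := tih_exists_normal_complement_aux H M hM hTI hHall K hKn hK
  have hHM : H ≤ M := by rw [hM]; exact le_normalizer
  have hTIM : ∀ g : G, g ∉ M → ∀ x ∈ H, g * x * g⁻¹ ∈ H → x = 1 := by
    subst hM; exact hTI
  set K' := K.map M.subtype with hK'
  have hK'M : K' ≤ M := map_subtype_le K
  have hK'N : K' ≤ N := by rw [← hNM]; exact inf_le_left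
  have hHallG : (Nat.card H).Coprime H.index :=
    tih_coprime_index H hTI (by subst hM; exact hHall)
  have hNcard : H.index = Nat.card N := hNc.index_eq_card
  have hNidx : N.index = Nat.card H := hNc.symm.index_eq_card
  have hcopNH : (Nat.card N).Coprime (Nat.card H) := by rw [← hNcard]; exact hHallG.symm
  have hH1 : H ≠ ⊥ := by
    rintro rfl
    exact hnn inferInstance
  -- centralizers of non-identity elements of `H` in `N` lie in `K'`
  have hb : ∀ h ∈ H, h ≠ 1 → ∀ n ∈ N, n * h = h * n → n ∈ K' := by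
    intro h hh h1 n hn hc
    have hnM : n ∈ M := by
      by_contra hcon
      apply h1
      apply hTIM n hcon h hh
      rw [hc]
      simpa using hh
    have : n ∈ N ⊓ M := ⟨hn, hnM⟩
    rwa [hNM] at this
  have hK'ne : ¬ N ≤ K' := by
    intro hle
    apply hnn
    have : M = ⊤ := by
      rw [eq_top_iff, ← hNc.sup_eq_top]
      exact sup_le (hle.trans hK'M) hHM
    rw [hM] at this
    exact normalizer_eq_top_iff.mp this
  have hrel : K'.relIndex N ≠ 1 := fun h => hK'ne (relIndex_eq_one.mp h)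
  obtain ⟨r, hr, hrd⟩ := Nat.exists_prime_and_dvd hrel
  haveI : Fact r.Prime := ⟨hr⟩
  haveI := hNn
  obtain ⟨R⟩ := (inferInstance : Nonempty (Sylow r N))
  set R' := (R : Subgroup N).map N.subtype with hR'
  have hFrat : normalizer (R' : Set G) ⊔ N = ⊤ := Sylow.normalizer_sup_eq_top R
  set L := normalizer (R' : Set G) with hL
  have hidx : (N.subgroupOf L).index = Nat.card H := by
    show N.relIndex L = _
    rw [← relIndex_sup_right, hFrat, relIndex_top_right, hNidx]
  have hcardNL : Nat.card (N.subgroupOf L) ∣ Nat.card N :=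
    card_comap_dvd_of_injective N L.subtype (subtype_injective L)
  have hcopL : (Nat.card (N.subgroupOf L)).Coprime (N.subgroupOf L).index := by
    rw [hidx]; exact Nat.Coprime.coprime_dvd_left hcardNL hcopNH
  obtain ⟨H₁', hH₁'⟩ := Subgroup.exists_right_complement'_of_coprime hcopL
  have hcardH₁' : Nat.card H₁' = Nat.card H := by
    rw [← hidx]; exact hH₁'.symm.index_eq_card.symm
  set H₁ := H₁'.map L.subtype with hH₁
  have hcardH₁ : Nat.card H₁ = Nat.card H := by
    rw [hH₁, card_map_of_injective (subtype_injective L), hcardH₁']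
  obtain ⟨g, hg⟩ := S4116.result H hHallG hTI H₁
    (by intro q _ hqd; rwa [hcardH₁] at hqd)
  have hconj_eq : H₁ = H.map (MulAut.conj g).toMonoidHom := by
    apply Subgroup.eq_of_le_of_card_ge hg
    rw [hcardH₁, card_map_of_injective (MulAut.conj g).injective]
  set R₂ := R'.map (MulAut.conj g⁻¹).toMonoidHom with hR₂
  have hR₂mem : ∀ x, x ∈ R₂ ↔ g * x * g⁻¹ ∈ R' := by
    intro x
    rw [hR₂, S4116.mem_conj]
    simp
  have hHR₂ : H ≤ normalizer (R₂ : Set G) := by
    intro h hh
    have h1 : g * h * g⁻¹ ∈ L := by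
      apply map_subtype_le H₁'
      rw [← hH₁, hconj_eq, S4116.mem_conj]
      have : g⁻¹ * (g * h * g⁻¹) * g = h := by group
      rw [this]; exact hh
    rw [mem_normalizer_iff]
    intro x
    rw [hR₂mem, hR₂mem]
    have h2 := mem_normalizer_iff.mp h1 (g * x * g⁻¹)
    rw [h2]
    have e : g * h * g⁻¹ * (g * x * g⁻¹) * (g * h * g⁻¹)⁻¹ = g * (h * x * h⁻¹) * g⁻¹ := by group
    rw [e]
  have hR₂N : R₂ ≤ N := by
    intro x hx
    rw [hR₂mem] at hx
    have h1 : g * x * g⁻¹ ∈ N := map_subtype_le _ hx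
    have h2 := hNn.conj_mem _ h1 g⁻¹
    have e : g⁻¹ * (g * x * g⁻¹) * g⁻¹⁻¹ = x := by group
    rwa [e] at h2
  have hR₂card : Nat.card R₂ = r ^ (Nat.card N).factorization r := by
    rw [hR₂, card_map_of_injective (MulAut.conj g⁻¹).injective, hR',
      card_map_of_injective (subtype_injective N)]
    exact R.card_eq_multiplicity
  have hR₂p : IsPGroup r R₂ := IsPGroup.of_card hR₂card
  have hR₂K' : ¬ R₂ ≤ K' := by
    intro hle
    have h1 : Nat.card R₂ ∣ Nat.card K' := card_dvd_of_le hle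
    have h2 : Nat.card K' * K'.relIndex N = Nat.card N := by
      have := (K'.subgroupOf N).card_mul_index
      rwa [Nat.card_congr (subgroupOfEquivOfLe hK'N).toEquiv] at this
    have h3 : r ^ ((Nat.card N).factorization r + 1) ∣ Nat.card N := by
      rw [pow_succ, ← hR₂card]
      rw [← h2]
      exact Nat.mul_dvd_mul h1 hrd
    exact Nat.pow_succ_factorization_not_dvd Nat.card_pos.ne' hr h3
  set R₀ := R₂ ⊓ K' with hR₀
  have hR₀R₂ : R₀ ≤ R₂ := inf_le_left
  -- normalizer condition
  haveI : Group.IsNilpotent R₂ := hR₂p.isNilpotent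
  have hlt : R₀.subgroupOf R₂ < ⊤ := by
    rw [lt_top_iff_ne_top]
    intro htop
    apply hR₂K'
    intro x hx
    have h1 : (⟨x, hx⟩ : R₂) ∈ R₀.subgroupOf R₂ := by rw [htop]; exact mem_top _
    exact (mem_inf.mp (mem_subgroupOf.mp h1)).2
  have hnc := normalizerCondition_of_isNilpotent (G := R₂) (R₀.subgroupOf R₂) hlt
  obtain ⟨s, hsn, hsR₀⟩ := SetLike.exists_of_lt hnc
  rw [← subgroupOf_normalizer_eq hR₀R₂] at hsn
  have hsn' : (s : G) ∈ normalizer (R₀ : Set G) := mem_subgroupOf.mp hsn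
  have hsR₀' : (s : G) ∉ R₀ := fun h => hsR₀ (mem_subgroupOf.mpr h)
  -- `H` normalizes everything
  have hMK' : M ≤ normalizer (K' : Set G) := by
    have h1 : K'.subgroupOf M = K := by
      rw [hK']
      exact comap_map_eq_self_of_injective (subtype_injective M) K
    have h2 : (K'.subgroupOf M).Normal := by rw [h1]; exact hKn
    exact (normal_subgroupOf_iff_le_normalizer hK'M).mp h2
  have hHR₀ : H ≤ normalizer (R₀ : Set G) := fun h hh =>
    tih_mem_normalizer_inf (hHR₂ hh) (hMK' (hHM hh))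
  set A := R₂ ⊓ normalizer (R₀ : Set G) with hA
  have hHA : H ≤ normalizer (A : Set G) := fun h hh =>
    tih_mem_normalizer_inf (hHR₂ hh) (le_normalizer (hHR₀ hh))
  have hR₀A : R₀ ≤ A := le_inf hR₀R₂ le_normalizer
  have hAN : A ≤ N := inf_le_left.trans hR₂N
  apply frobenius_section H A R₀ hH1 hR₀A ⟨(s : G), ⟨s.2, hsn'⟩, hsR₀'⟩ inf_le_right hHA hHR₀
  · exact Nat.Coprime.coprime_dvd_left (card_dvd_of_le hAN) hcopNH
  · intro h hh h1 a ha hc
    exact ⟨ha.1, hb h hh h1 a (hAN ha) hc⟩

end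

end Cfsg.Agent.Helper71
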