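import Cfsg.Agent.Helper75.FrobeniusKernel
import Cfsg.Agent.Helper80.Pullback

/-!
# Wielandt's generalization of Frobenius' theorem (helper71)

If `K ⊴ M ≤ G` and `M ∩ M^g ≤ K` for all `g ∉ M`, then there is a normal subgroup `N` of `G`
with `N ⊓ M = K` and `N ⊔ M = ⊤`.  The proof follows Helper75's proof of Frobenius' theorem
through induced class functions, with `K` in the role of the trivial subgroup.
-/

set_option autoImplicit false

namespace Cfsg.Agent.Helper71

open Cfsg
open Cfsg.Agent
open scoped ComplexConjugate Pointwise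

universe u

section Ind

variable {G : Type u} [Group G] [Fintype G]

/-- Inducing a class function of `M` that vanishes on `K` and restricting back to `M` gives the
function back. -/
theorem wl_indFun_apply_mem {M K : Subgroup G}
    (hKn : ∀ m ∈ M, ∀ k ∈ K, m * k * m⁻¹ ∈ K)
    (hTI : ∀ g : G, g ∉ M → ∀ x ∈ M, g * x * g⁻¹ ∈ M → x ∈ K)
    {θ : M → ℂ} (hθ : IsClassFunction M θ) (h0 : ∀ m : M, (m : G) ∈ K → θ m = 0) (m : M) :
    indFun M θ (m : G) = θ m := by
  classical
  let _ : Fintype M := Fintype.ofFinite M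
  have hcard : (Nat.card M : ℂ) ≠ 0 := by
    have : Nat.card M ≠ 0 := Nat.card_pos.ne'
    exact_mod_cast this
  rw [Helper15.indFun_apply]
  by_cases hmK : (m : G) ∈ K
  · rw [h0 m hmK, Finset.sum_eq_zero, mul_zero]
    intro x _
    by_cases hxm : x⁻¹ * (m : G) * x ∈ M
    · rw [Helper15.extendByZero_of_mem M θ hxm]
      apply h0
      show x⁻¹ * (m : G) * x ∈ K
      by_cases hx : x ∈ M
      · have := hKn x⁻¹ (M.inv_mem hx) (m : G) hmK
        simpa using this
      · apply hTI x hx _ hxm
        have : x * (x⁻¹ * (m : G) * x) * x⁻¹ = (m : G) := by group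
        rw [this]; exact m.2
    · exact Helper15.extendByZero_of_not_mem M θ hxm
  · have hterm : ∀ x : G, extendByZero M θ (x⁻¹ * (m : G) * x)
        = extendByZero M (fun _ : M => θ m) x := by
      intro x
      by_cases hx : x ∈ M
      · have hmem : x⁻¹ * (m : G) * x ∈ M := M.mul_mem (M.mul_mem (M.inv_mem hx) m.2) hx
        rw [Helper15.extendByZero_of_mem M θ hmem, Helper15.extendByZero_of_mem M _ hx]
        have := hθ m (⟨x, hx⟩ : M)⁻¹
        rw [inv_inv] at this
        rw [← this]
        rfl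
      · have hnm : x⁻¹ * (m : G) * x ∉ M := by
          intro hc
          apply hmK
          have hx' : x⁻¹ ∉ M := fun h => hx (by simpa using M.inv_mem h)
          apply hTI x⁻¹ hx' (m : G) m.2
          simpa using hc
        rw [Helper15.extendByZero_of_not_mem M θ hnm, Helper15.extendByZero_of_not_mem M _ hx]
    rw [Finset.sum_congr rfl (fun x _ => hterm x), Helper15.sum_extendByZero]
    rw [Finset.sum_const, Finset.card_univ, nsmul_eq_mul, ← Nat.card_eq_fintype_card]
    field_simp

/-- Off the conjugates of `M ∖ K` an induced function of a function vanishing on `K`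
vanishes. -/
theorem wl_indFun_apply_of_not_conj {M K : Subgroup G} {θ : M → ℂ}
    (h0 : ∀ m : M, (m : G) ∈ K → θ m = 0) {g : G}
    (hg : ∀ x : G, x⁻¹ * g * x ∈ M → x⁻¹ * g * x ∈ K) : indFun M θ g = 0 := by
  rw [Helper15.indFun_apply]
  rw [Finset.sum_eq_zero, mul_zero]
  intro x _
  by_cases hxm : x⁻¹ * g * x ∈ M
  · rw [Helper15.extendByZero_of_mem M θ hxm]
    exact h0 _ (hg x hxm)
  · exact Helper15.extendByZero_of_not_mem M θ hxm

/-- The extension is an isometry (only the norm), given that induction followed by restriction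
is the identity on `φ - φ 1`. -/
theorem wl_fkStar_inner_self {H : Subgroup G} {φ : H → ℂ}
    (hres : ∀ h : H, indFun H (φ - fun _ => φ 1) (h : G) = (φ - fun _ => φ 1 : H → ℂ) h)
    (hreal : conj (φ 1) = φ 1) [Fintype H] :
    classInner (Helper75.fkStar H φ) (Helper75.fkStar H φ) = classInner φ φ := by
  have hres' : (fun h : H => indFun H (φ - fun _ => φ 1) (h : G)) = (φ - fun _ => φ 1) :=
    funext hres
  have hone : (fun _ : G => φ 1) = φ 1 • (fun _ : G => (1 : ℂ)) := by funext; simp
  have honeH : (fun _ : H => φ 1) = φ 1 • (fun _ : H => (1 : ℂ)) := by funext; simp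
  have e1 : classInner (indFun H (φ - fun _ => φ 1)) (indFun H (φ - fun _ => φ 1))
      = classInner (φ - fun _ => φ 1) (φ - fun _ => φ 1) := by
    rw [Helper15.frobenius_reciprocity H _ _ (Helper15.isClassFunction_indFun H _), hres']
  have e2 : classInner (indFun H (φ - fun _ => φ 1)) (fun _ : G => (1 : ℂ))
      = classInner (φ - fun _ => φ 1) (fun _ : H => (1 : ℂ)) := by
    rw [Helper15.frobenius_reciprocity H _ _ (fun _ _ => rfl)]
  have e3 : classInner (fun _ : G => (1 : ℂ)) (indFun H (φ - fun _ => φ 1))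
      = classInner (fun _ : H => (1 : ℂ)) (φ - fun _ => φ 1) := by
    rw [Helper15.frobenius_reciprocity' H _ _ (fun _ _ => rfl)]
  unfold Helper75.fkStar
  rw [hone]
  simp only [Helper15.classInner_add_left, Helper15.classInner_add_right,
    Helper15.classInner_smul_left, Helper15.classInner_smul_right, e1, e2, e3,
    Helper75.fk_classInner_one_one, hreal]
  rw [honeH]
  simp only [Helper15.classInner_sub_left, Helper15.classInner_sub_right,
    Helper15.classInner_smul_left, Helper15.classInner_smul_right,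
    Helper75.fk_classInner_one_one, hreal]
  ring

/-- The extension of an irreducible character of `M` with `K` in its kernel is an irreducible
character of `G`. -/
theorem wl_fkStar_isIrr {M K : Subgroup G}
    (hKn : ∀ m ∈ M, ∀ k ∈ K, m * k * m⁻¹ ∈ K)
    (hTI : ∀ g : G, g ∉ M → ∀ x ∈ M, g * x * g⁻¹ ∈ M → x ∈ K)
    (φ : IrrCharacter M) (hφK : ∀ m : M, (m : G) ∈ K → (φ : M → ℂ) m = (φ : M → ℂ) 1) :
    IsIrrCharacter G (Helper75.fkStar M (φ : M → ℂ)) := by
  classical
  let _ : Fintype M := Fintype.ofFinite M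
  have hφc : IsCharacter M (φ : M → ℂ) := Helper74.irr_isCharacter φ
  have hφcf : IsClassFunction M (φ : M → ℂ) := Helper74.irr_isClassFunction φ
  obtain ⟨d, hd, hd1⟩ := Helper75.fk_irr_apply_one φ
  have hreal : conj ((φ : M → ℂ) 1) = (φ : M → ℂ) 1 := by rw [hd1]; simp
  have hθcf := Helper75.fk_isClassFunction_sub_const hφcf ((φ : M → ℂ) 1)
  have hθ0 : ∀ m : M, (m : G) ∈ K →
      ((φ : M → ℂ) - fun _ => (φ : M → ℂ) 1 : M → ℂ) m = 0 := by
    intro m hm
    simp [hφK m hm]
  have hres := wl_indFun_apply_mem hKn hTI hθcf hθ0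
  apply Helper75.fk_isIrr_of_int_inner (Helper75.fkStar_isClassFunction M _)
    (Helper75.fkStar_inner_int M hφc)
  · rw [wl_fkStar_inner_self hres hreal]
    exact Helper74.irr_inner_self φ
  · have h1 : Helper75.fkStar M (φ : M → ℂ) 1 = (φ : M → ℂ) 1 := by
      rw [Helper75.fkStar_apply]
      have := hres 1
      simp only [OneMemClass.coe_one] at this
      rw [this]
      simp
    rw [h1, hd1]
    simpa using hd

end Ind

section Count

variable {G : Type u} [Group G]

/-- A set containing every element that is not conjugate into `M ∖ K` has at least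
`|G : M| * |K|` elements. -/
theorem wl_card_ge [Finite G] (M K : Subgroup G) (hKM : K ≤ M)
    (hKn : ∀ m ∈ M, ∀ k ∈ K, m * k * m⁻¹ ∈ K) (S : Set G)
    (hS : ∀ g, g ∉ S → ∃ x : G, x⁻¹ * g * x ∈ M ∧ x⁻¹ * g * x ∉ K) :
    M.index * Nat.card K ≤ Nat.card S := by
  classical
  have := Fintype.ofFinite G
  let U : Finset G := Finset.univ.filter (fun g => g ∉ S)
  let D : Finset M := Finset.univ.filter (fun m : M => (m : G) ∉ K)
  let f : (G ⧸ M) × M → G :=
    fun p => (Quotient.out p.1 : G) * (p.2 : G) * (Quotient.out p.1 : G)⁻¹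
  have hU : U ⊆ (((Finset.univ : Finset (G ⧸ M)) ×ˢ D).image f) := by
    intro g hg
    have hg' : g ∉ S := (Finset.mem_filter.mp hg).2
    obtain ⟨x, hxM, hxK⟩ := hS g hg'
    obtain ⟨k, hk⟩ := QuotientGroup.mk_out_eq_mul M x
    rw [Finset.mem_image]
    refine ⟨((x : G ⧸ M), k⁻¹ * ⟨x⁻¹ * g * x, hxM⟩ * k), ?_, ?_⟩
    · rw [Finset.mem_product]
      refine ⟨Finset.mem_univ _, Finset.mem_filter.mpr ⟨Finset.mem_univ _, ?_⟩⟩
      intro hc
      apply hxK
      have h1 := hKn (k : G) k.2 _ hc
      have h2 : (k : G) * ((k⁻¹ * ⟨x⁻¹ * g * x, hxM⟩ * k : M) : G) * (k : G)⁻¹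
          = x⁻¹ * g * x := by
        push_cast
        group
      rw [h2] at h1
      exact h1
    · show (Quotient.out (x : G ⧸ M) : G) * ((k⁻¹ * ⟨x⁻¹ * g * x, hxM⟩ * k : M) : G)
        * (Quotient.out (x : G ⧸ M) : G)⁻¹ = g
      rw [hk]
      push_cast
      group
  have hD : D.card + Nat.card K = Nat.card M := by
    have h1 : Nat.card K = (Finset.univ.filter (fun m : M => (m : G) ∈ K)).card := by
      rw [← Nat.card_congr (Subgroup.subgroupOfEquivOfLe hKM).toEquiv]
      rw [Nat.card_eq_fintype_card, Fintype.card_subtype]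
      rfl
    rw [h1, Nat.card_eq_fintype_card, ← Finset.card_univ (α := M), add_comm]
    exact Finset.card_filter_add_card_filter_not (s := Finset.univ) (fun m : M => (m : G) ∈ K)
  have hcardU : U.card ≤ M.index * D.card := by
    calc U.card ≤ _ := Finset.card_le_card hU
      _ ≤ ((Finset.univ : Finset (G ⧸ M)) ×ˢ D).card := Finset.card_image_le
      _ = M.index * D.card := by
          rw [Finset.card_product, Finset.card_univ, ← Nat.card_eq_fintype_card]
          rfl
  have hsplit : Nat.card S + U.card = Nat.card G := by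
    have h1 : Nat.card S = (Finset.univ.filter (fun g => g ∈ S)).card := by
      rw [Nat.card_eq_fintype_card, Fintype.card_subtype]
    rw [h1, Nat.card_eq_fintype_card, ← Finset.card_univ (α := G)]
    exact Finset.card_filter_add_card_filter_not (s := Finset.univ) (fun g => g ∈ S)
  have hidx : M.index * Nat.card M = Nat.card G := M.index_mul_card
  have hmul : M.index * Nat.card M = M.index * D.card + M.index * Nat.card K := by
    rw [← hD]; ring
  omega

end Count

section Main

variable {G : Type u} [Group G]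

/-- **Wielandt's theorem** (generalized Frobenius): if `K` is the kernel of a surjection from
`M ≤ G` and `M ∩ M^g ≤ K` for all `g ∉ M`, there is a normal subgroup `N` of `G` with
`N ⊓ M = K` and `N ⊔ M = ⊤`. -/
theorem wielandt_normal_complement [Finite G] (M K : Subgroup G) (hKM : K ≤ M)
    {Q : Type u} [Group Q] (π : M →* Q) (hπ : Function.Surjective π)
    (hker : ∀ m : M, π m = 1 ↔ (m : G) ∈ K)
    (hTI : ∀ g : G, g ∉ M → ∀ x ∈ M, g * x * g⁻¹ ∈ M → x ∈ K) :
    ∃ N : Subgroup G, N.Normal ∧ N ⊓ M = K ∧ N ⊔ M = ⊤ := by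
  classical
  have := Fintype.ofFinite G
  let _ : Fintype M := Fintype.ofFinite M
  haveI : Finite Q := Finite.of_surjective π hπ
  let _ : Fintype Q := Fintype.ofFinite Q
  let _ := Helper74.irrFintype Q
  have hKn : ∀ m ∈ M, ∀ k ∈ K, m * k * m⁻¹ ∈ K := by
    intro m hm k hk
    have h1 : π ⟨k, hKM hk⟩ = 1 := (hker _).mpr hk
    have h2 : π (⟨m, hm⟩ * ⟨k, hKM hk⟩ * ⟨m, hm⟩⁻¹) = 1 := by
      rw [map_mul, map_mul, h1, map_inv]; simp
    exact (hker _).mp h2
  -- inflation
  let infl : IrrCharacter Q → IrrCharacter M := fun φ =>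
    ⟨fun m => (φ : Q → ℂ) (π m), Helper80.IsIrrCharacter.comp_surjective φ.2 π hπ⟩
  have hinfl : ∀ (φ : IrrCharacter Q) (m : M), (infl φ : M → ℂ) m = (φ : Q → ℂ) (π m) :=
    fun _ _ => rfl
  have hinflK : ∀ (φ : IrrCharacter Q) (m : M), (m : G) ∈ K →
      (infl φ : M → ℂ) m = (infl φ : M → ℂ) 1 := by
    intro φ m hm
    show (φ : Q → ℂ) (π m) = (φ : Q → ℂ) (π 1)
    rw [(hker m).mpr hm, map_one]
  have hirr : ∀ φ : IrrCharacter Q, IsIrrCharacter G (Helper75.fkStar M (infl φ : M → ℂ)) :=
    fun φ => wl_fkStar_isIrr hKn hTI (infl φ) (hinflK φ)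
  have hθ0 : ∀ (φ : IrrCharacter Q) (m : M), (m : G) ∈ K →
      ((infl φ : M → ℂ) - fun _ => (infl φ : M → ℂ) 1 : M → ℂ) m = 0 := by
    intro φ m hm
    simp [hinflK φ m hm]
  have hrestr : ∀ (φ : IrrCharacter Q) (m : M),
      Helper75.fkStar M (infl φ : M → ℂ) (m : G) = (φ : Q → ℂ) (π m) := by
    intro φ m
    rw [Helper75.fkStar_apply, wl_indFun_apply_mem hKn hTI
      (Helper75.fk_isClassFunction_sub_const (Helper74.irr_isClassFunction (infl φ)) _)
      (hθ0 φ) m]
    simp [hinfl]
  have hstar1 : ∀ φ : IrrCharacter Q,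
      Helper75.fkStar M (infl φ : M → ℂ) 1 = (φ : Q → ℂ) 1 := by
    intro φ
    have := hrestr φ 1
    simpa using this
  have hker' : ∀ φ : IrrCharacter Q, ∃ N : Subgroup G, N.Normal ∧
      ∀ g, g ∈ N ↔ Helper75.fkStar M (infl φ : M → ℂ) g
        = Helper75.fkStar M (infl φ : M → ℂ) 1 :=
    fun φ => Helper75.fk_exists_normal_kernel (Helper74.isCharacter_of_isIrr (hirr φ))
  choose Nφ hNn hNm using hker'
  let N : Subgroup G := ⨅ φ, Nφ φ
  have hNnormal : N.Normal := Subgroup.normal_iInf_normal hNn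
  have hmemN : ∀ g, g ∈ N ↔
      ∀ φ : IrrCharacter Q, Helper75.fkStar M (infl φ : M → ℂ) g = (φ : Q → ℂ) 1 := by
    intro g
    simp only [N, Subgroup.mem_iInf, hNm, hstar1]
  have hKN : K ≤ N := by
    intro k hk
    rw [hmemN]
    intro φ
    have := hrestr φ ⟨k, hKM hk⟩
    rw [(hker _).mpr hk] at this
    exact this
  have hNM : N ⊓ M ≤ K := by
    intro g hg
    obtain ⟨hgN, hgM⟩ := Subgroup.mem_inf.mp hg
    have hval : ∀ φ : IrrCharacter Q, (φ : Q → ℂ) (π ⟨g, hgM⟩) = (φ : Q → ℂ) 1 := fun φ => by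
      rw [← hrestr φ ⟨g, hgM⟩]
      exact (hmemN g).mp hgN φ
    rw [← hker ⟨g, hgM⟩]
    by_contra hne
    have h1 := Helper74.second_orthogonality (G := Q) (π ⟨g, hgM⟩) 1
    have h2 := Helper74.second_orthogonality (G := Q) 1 1
    rw [if_neg (by rwa [isConj_one_left])] at h1
    rw [if_pos (IsConj.refl 1)] at h2
    simp only [hval] at h1
    rw [h1] at h2
    have hpos : Nat.card (Subgroup.centralizer ({1} : Set Q)) ≠ 0 := Nat.card_pos.ne'
    exact hpos (by exact_mod_cast h2.symm)
  have hinf : N ⊓ M = K := le_antisymm hNM (le_inf hKN hKM)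
  refine ⟨N, hNnormal, hinf, ?_⟩
  -- counting
  have hcount : M.index * Nat.card K ≤ Nat.card N := by
    apply wl_card_ge M K hKM hKn (N : Set G)
    intro g hg
    by_contra hcon
    push Not at hcon
    apply hg
    show g ∈ N
    rw [hmemN]
    intro φ
    rw [Helper75.fkStar_apply, wl_indFun_apply_of_not_conj (K := K) (hθ0 φ) hcon, zero_add]
    rw [hinfl, map_one]
  rw [← Subgroup.index_eq_one]
  have h1 : N.relIndex (N ⊔ M) * (N ⊔ M).index = N.index :=
    Subgroup.relIndex_mul_index le_sup_left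
  have h2 : N.relIndex (N ⊔ M) = K.relIndex M := by
    rw [Subgroup.relIndex_sup_left, ← Subgroup.inf_relIndex_right, hinf]
  have h3 : K.relIndex M * M.index = K.index := Subgroup.relIndex_mul_index hKM
  have h4 : Nat.card N * N.index = Nat.card G := N.card_mul_index
  have h5 : Nat.card K * K.index = Nat.card G := K.card_mul_index
  set a := K.relIndex M with ha
  set t := (N ⊔ M).index with ht
  have ha0 : 0 < a := Nat.pos_of_ne_zero (by
    intro h0
    rw [h0, zero_mul] at h3
    have : K.index ≠ 0 := Subgroup.index_ne_zero_of_finite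
    exact this h3.symm)
  have ht0 : 0 < t := Nat.pos_of_ne_zero Subgroup.index_ne_zero_of_finite
  have hN0 : 0 < Nat.card N := Nat.card_pos
  rw [h2] at h1
  have h6 : Nat.card N * a * t ≤ Nat.card N * a * 1 := by
    calc Nat.card N * a * t = Nat.card N * (a * t) := by ring
      _ = Nat.card N * N.index := by rw [h1]
      _ = Nat.card K * K.index := by rw [h4, h5]
      _ = a * (M.index * Nat.card K) := by rw [← h3]; ring
      _ ≤ a * Nat.card N := Nat.mul_le_mul_left _ hcount
      _ = Nat.card N * a * 1 := by ring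
  have h7 : t ≤ 1 := Nat.le_of_mul_le_mul_left h6 (Nat.mul_pos hN0 ha0)
  omega

end Main

end Cfsg.Agent.Helper71
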