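import Mathlib

/-!
# Presentation of finite Z-groups with the `pq`-property (helper71)

A finite group all of whose Sylow subgroups are cyclic (`IsZGroup`) and in which every element of
prime order normalizing a cyclic subgroup centralizes it has the metacyclic presentation
`⟨x, y | x ^ n, y ^ m, x⁻¹ y x = y ^ r⟩` with `(r - 1, m) = (n, m) = 1` and
`r ^ (n / rad n) ≡ 1 (mod m)`.
-/

set_option autoImplicit false

namespace Cfsg.Agent.Helper71

open Subgroup

/-- arithmetic: if `d ∣ n` and `d ∣ n / p` for every prime `p ∣ n` then `d ∣ n / rad n`. -/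
theorem zp_dvd_div_rad {n d : ℕ} (hn : 0 < n) (hd : d ∣ n)
    (h : ∀ p ∈ n.primeFactors, d ∣ n / p) : d ∣ n / ∏ p ∈ n.primeFactors, p := by
  obtain ⟨t, rfl⟩ := hd
  have hd0 : 0 < d := Nat.pos_of_ne_zero (by rintro rfl; simp at hn)
  have ht : ∀ p ∈ (d * t).primeFactors, p ∣ t := by
    intro p hp
    have hpn : p ∣ d * t := Nat.dvd_of_mem_primeFactors hp
    obtain ⟨s, hs⟩ := h p hp
    have hpos : 0 < p := (Nat.prime_of_mem_primeFactors hp).pos
    have h1 : d * t = d * s * p := by
      have := Nat.div_mul_cancel hpn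
      rw [hs] at this
      exact this.symm
    have h2 : t = s * p := by
      have : d * t = d * (s * p) := by rw [h1, mul_assoc]
      exact Nat.eq_of_mul_eq_mul_left hd0 this
    exact ⟨s, by rw [h2, mul_comm]⟩
  have hR : (∏ p ∈ (d * t).primeFactors, p) ∣ t :=
    Finset.prod_primes_dvd t (fun p hp => (Nat.prime_of_mem_primeFactors hp).prime) ht
  obtain ⟨t', ht'⟩ := hR
  set R := ∏ p ∈ (d * t).primeFactors, p with hRdef
  have hRpos : 0 < R := by
    rw [hRdef]
    exact Finset.prod_pos fun p hp => (Nat.prime_of_mem_primeFactors hp).pos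
  refine ⟨t', ?_⟩
  rw [ht']
  have : d * (R * t') = R * (d * t') := by ring
  rw [this, Nat.mul_div_cancel_left _ hRpos]

section Pres

variable (n m r : ℕ)

/-- the relators. -/
abbrev zpRels : Set (FreeGroup (Fin 2)) :=
  {FreeGroup.of (0 : Fin 2) ^ n, FreeGroup.of (1 : Fin 2) ^ m,
    (FreeGroup.of (0 : Fin 2))⁻¹ * FreeGroup.of 1 * FreeGroup.of 0 *
      (FreeGroup.of (1 : Fin 2) ^ r)⁻¹}

theorem zp_of_zero_pow :
    (PresentedGroup.of (0 : Fin 2) : PresentedGroup (zpRels n m r)) ^ n = 1 := by
  have h : FreeGroup.of (0 : Fin 2) ^ n ∈ zpRels n m r := by simp [zpRels]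
  have := PresentedGroup.one_of_mem h
  rw [map_pow] at this
  exact this

theorem zp_of_one_pow :
    (PresentedGroup.of (1 : Fin 2) : PresentedGroup (zpRels n m r)) ^ m = 1 := by
  have h : FreeGroup.of (1 : Fin 2) ^ m ∈ zpRels n m r := by simp [zpRels]
  have := PresentedGroup.one_of_mem h
  rw [map_pow] at this
  exact this

theorem zp_conj_rel :
    (PresentedGroup.of (0 : Fin 2) : PresentedGroup (zpRels n m r))⁻¹ * PresentedGroup.of 1 *
      PresentedGroup.of 0 = PresentedGroup.of (1 : Fin 2) ^ r := by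
  have h : (FreeGroup.of (0 : Fin 2))⁻¹ * FreeGroup.of 1 * FreeGroup.of 0 *
      (FreeGroup.of (1 : Fin 2) ^ r)⁻¹ ∈ zpRels n m r := by simp [zpRels]
  have := PresentedGroup.one_of_mem h
  rw [map_mul, map_mul, map_mul, map_inv, map_inv, map_pow] at this
  exact mul_inv_eq_one.mp this

end Pres

/-- In any group, if `x⁻¹ y x = y ^ r` with `y ^ m = 1`, `0 < m`, then `zpowers y` is normalized
by `x`. -/
theorem zp_conj_mem_zpowers {P : Type*} [Group P] {x y : P} {m r : ℕ} (hm : 0 < m)
    (hy : y ^ m = 1) (hrel : x⁻¹ * y * x = y ^ r) (a : P) :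
    a ∈ zpowers y ↔ x * a * x⁻¹ ∈ zpowers y := by
  have hfin : IsOfFinOrder y := isOfFinOrder_iff_pow_eq_one.mpr ⟨m, hm, hy⟩
  have hfz : Finite (zpowers y) := (finite_zpowers (a := y)).mpr hfin
  -- conjugation by `x⁻¹` maps `zpowers y` into itself
  have hin : ∀ b ∈ zpowers y, x⁻¹ * b * x ∈ zpowers y := by
    intro b hb
    obtain ⟨k, rfl⟩ := mem_zpowers_iff.mp hb
    have : x⁻¹ * y ^ k * x = (x⁻¹ * y * x) ^ k := by
      have := (conj_zpow (a := x⁻¹) (i := k) (b := y))
      simpa using this.symm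
    rw [this, hrel]
    exact (zpowers y).zpow_mem ((zpowers y).pow_mem (mem_zpowers y) r) k
  let f : zpowers y → zpowers y := fun b => ⟨x⁻¹ * b * x, hin b b.2⟩
  have hf : Function.Injective f := by
    intro b c hbc
    have := congrArg Subtype.val hbc
    simp only [f] at this
    apply Subtype.ext
    have h1 : x * (x⁻¹ * (b : P) * x) * x⁻¹ = x * (x⁻¹ * (c : P) * x) * x⁻¹ := by rw [this]
    simpa [mul_assoc] using h1
  have hsurj : Function.Surjective f := Finite.injective_iff_surjective.mp hf
  constructor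
  · intro ha
    obtain ⟨b, hb⟩ := hsurj ⟨a, ha⟩
    have := congrArg Subtype.val hb
    simp only [f] at this
    have h1 : x * a * x⁻¹ = b := by
      rw [← this]; group
    rw [h1]
    exact b.2
  · intro ha
    have := hin _ ha
    have e : x⁻¹ * (x * a * x⁻¹) * x = a := by group
    rwa [e] at this

/-- a group generated by `X`, `Y` subject to the metacyclic relations has order at most `n * m`. -/
theorem zp_card_le_aux {P : Type*} [Group P] {X Y : P} {n m r : ℕ} (hn : 0 < n) (hm : 0 < m)
    (hXn : X ^ n = 1) (hYm : Y ^ m = 1) (hrel : X⁻¹ * Y * X = Y ^ r)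
    (hgen : closure ({X, Y} : Set P) = ⊤) : Finite P ∧ Nat.card P ≤ n * m := by
  have hXfin : IsOfFinOrder X := isOfFinOrder_iff_pow_eq_one.mpr ⟨n, hn, hXn⟩
  have hYfin : IsOfFinOrder Y := isOfFinOrder_iff_pow_eq_one.mpr ⟨m, hm, hYm⟩
  have hfX : Finite (zpowers X) := (finite_zpowers (a := X)).mpr hXfin
  have hfY : Finite (zpowers Y) := (finite_zpowers (a := Y)).mpr hYfin
  -- normality of `zpowers Y`
  have hnorm : (zpowers Y).Normal := by
    have hle : closure ({X, Y} : Set P) ≤ normalizer ((zpowers Y : Subgroup P) : Set P) := by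
      rw [closure_le]
      intro z hz
      rcases hz with hz | hz
      · rw [hz]
        show X ∈ normalizer ((zpowers Y : Subgroup P) : Set P)
        rw [mem_normalizer_iff]
        intro a
        exact zp_conj_mem_zpowers hm hYm hrel a
      · rw [Set.mem_singleton_iff] at hz
        rw [hz]
        exact le_normalizer (mem_zpowers _)
    rw [hgen] at hle
    exact normalizer_eq_top_iff.mp (top_le_iff.mp hle)
  have htop : zpowers X ⊔ zpowers Y = ⊤ := by
    rw [eq_top_iff, ← hgen, closure_le]
    intro z hz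
    rcases hz with hz | hz
    · rw [hz]
      exact (le_sup_left : zpowers X ≤ _) (mem_zpowers _)
    · rw [Set.mem_singleton_iff] at hz
      rw [hz]
      exact (le_sup_right : zpowers Y ≤ _) (mem_zpowers _)
  let g : zpowers X × zpowers Y → P := fun p => (p.1 : P) * (p.2 : P)
  have hg : Function.Surjective g := by
    intro z
    have hz : z ∈ zpowers X ⊔ zpowers Y := by rw [htop]; trivial
    obtain ⟨a, ha, b, hb, rfl⟩ := mem_sup_of_normal_right.mp hz
    exact ⟨(⟨a, ha⟩, ⟨b, hb⟩), rfl⟩
  have hfP : Finite P := Finite.of_surjective g hg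
  refine ⟨hfP, ?_⟩
  calc Nat.card P ≤ Nat.card (zpowers X × zpowers Y) := Nat.card_le_card_of_surjective g hg
    _ = Nat.card (zpowers X) * Nat.card (zpowers Y) := Nat.card_prod _ _
    _ ≤ n * m := by
        apply Nat.mul_le_mul
        · rw [Nat.card_zpowers]; exact orderOf_le_of_pow_eq_one hn hXn
        · rw [Nat.card_zpowers]; exact orderOf_le_of_pow_eq_one hm hYm

theorem zp_closure_of (n m r : ℕ) :
    closure ({(PresentedGroup.of (0 : Fin 2) : PresentedGroup (zpRels n m r)),
      PresentedGroup.of 1} : Set (PresentedGroup (zpRels n m r))) = ⊤ := by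
  have := PresentedGroup.closure_range_of (zpRels n m r)
  rw [← this]
  congr 1
  ext z
  constructor
  · intro hz
    rcases hz with hz | hz
    · exact ⟨0, hz.symm⟩
    · rw [Set.mem_singleton_iff] at hz
      exact ⟨1, hz.symm⟩
  · rintro ⟨i, rfl⟩
    fin_cases i
    · left; rfl
    · right; rfl

/-- the presented group is finite of order at most `n * m`. -/
theorem zp_card_le (n m r : ℕ) (hn : 0 < n) (hm : 0 < m) :
    Finite (PresentedGroup (zpRels n m r)) ∧
      Nat.card (PresentedGroup (zpRels n m r)) ≤ n * m :=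
  zp_card_le_aux hn hm (zp_of_zero_pow n m r) (zp_of_one_pow n m r) (zp_conj_rel n m r)
    (zp_closure_of n m r)

/-- iterated conjugation: `(x ^ k)⁻¹ y (x ^ k) = y ^ (r ^ k)`. -/
theorem zp_conj_pow {Γ : Type*} [Group Γ] {x y : Γ} {r : ℕ} (hrel : x⁻¹ * y * x = y ^ r) (k : ℕ) :
    (x ^ k)⁻¹ * y * x ^ k = y ^ (r ^ k) := by
  induction k with
  | zero => simp
  | succ k ih =>
    have h1 : (x ^ (k + 1))⁻¹ * y * x ^ (k + 1) = x⁻¹ * ((x ^ k)⁻¹ * y * x ^ k) * x := by
      rw [pow_succ]; group
    rw [h1, ih]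
    have h2 : x⁻¹ * y ^ (r ^ k) * x = (x⁻¹ * y * x) ^ (r ^ k) := by
      have := (conj_pow (a := x⁻¹) (i := r ^ k) (b := y))
      simpa using this.symm
    rw [h2, hrel, ← pow_mul, pow_succ, mul_comm]

/-- **Presentation of a finite Z-group with the `pq`-property.** -/
theorem zgroup_presentation {Γ : Type*} [Group Γ] [Finite Γ] [IsZGroup Γ]
    (hpq : ∀ (y s : Γ) (q : ℕ), q.Prime → s ^ q = 1 → s * y * s⁻¹ ∈ zpowers y → s * y = y * s) :
    ∃ n m r : ℕ, 0 < n ∧ 0 < m ∧ Nat.Coprime (r - 1) m ∧ Nat.Coprime n m ∧ 1 ≤ r ∧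
      r ^ (n / ∏ p ∈ n.primeFactors, p) % m = 1 % m ∧
      Nonempty (Γ ≃* PresentedGroup
        ({FreeGroup.of (0 : Fin 2) ^ n, FreeGroup.of (1 : Fin 2) ^ m,
          (FreeGroup.of (0 : Fin 2))⁻¹ * FreeGroup.of 1 * FreeGroup.of 0 *
            (FreeGroup.of (1 : Fin 2) ^ r)⁻¹} : Set (FreeGroup (Fin 2)))) := by
  classical
  set N : Subgroup Γ := commutator Γ with hN
  have hNn : N.Normal := by rw [hN]; infer_instance
  have hNc : IsCyclic N := IsZGroup.isCyclic_commutator Γ
  have hcop : (Nat.card N).Coprime N.index := IsZGroup.coprime_commutator_index Γ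
  obtain ⟨H, hH⟩ := Subgroup.exists_right_complement'_of_coprime hcop
  have hHc : IsCyclic H := by
    have h1 : Abelianization Γ ≃* H := hH.symm.QuotientMulEquiv
    exact isCyclic_of_surjective _ h1.surjective
  obtain ⟨y1, hy1⟩ := hNc.exists_generator
  obtain ⟨x1, hx1⟩ := hHc.exists_generator
  set y : Γ := (y1 : Γ) with hy
  set x : Γ := (x1 : Γ) with hx
  set m := Nat.card N with hm
  set n := Nat.card H with hn
  have hm0 : 0 < m := Nat.card_pos
  have hn0 : 0 < n := Nat.card_pos
  have hoy : orderOf y = m := by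
    rw [hy, Subgroup.orderOf_coe]
    exact orderOf_eq_card_of_forall_mem_zpowers hy1
  have hox : orderOf x = n := by
    rw [hx, Subgroup.orderOf_coe]
    exact orderOf_eq_card_of_forall_mem_zpowers hx1
  have hNy : ∀ z : Γ, z ∈ N ↔ z ∈ zpowers y := by
    intro z
    constructor
    · intro hz
      obtain ⟨k, hk⟩ := mem_zpowers_iff.mp (hy1 ⟨z, hz⟩)
      refine mem_zpowers_iff.mpr ⟨k, ?_⟩
      have := congrArg Subtype.val hk
      simpa using this
    · intro hz
      obtain ⟨k, rfl⟩ := mem_zpowers_iff.mp hz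
      exact N.zpow_mem y1.2 k
  have hHx : ∀ z : Γ, z ∈ H ↔ z ∈ zpowers x := by
    intro z
    constructor
    · intro hz
      obtain ⟨k, hk⟩ := mem_zpowers_iff.mp (hx1 ⟨z, hz⟩)
      refine mem_zpowers_iff.mpr ⟨k, ?_⟩
      have := congrArg Subtype.val hk
      simpa using this
    · intro hz
      obtain ⟨k, rfl⟩ := mem_zpowers_iff.mp hz
      exact H.zpow_mem x1.2 k
  have hym : y ^ m = 1 := by rw [← hoy]; exact pow_orderOf_eq_one y
  have hxn : x ^ n = 1 := by rw [← hox]; exact pow_orderOf_eq_one x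
  have hcard : m * n = Nat.card Γ := hH.card_mul_card
  have hcopnm : Nat.Coprime n m := by
    have h1 : N.index = n := hH.symm.index_eq_card
    rw [← h1]
    exact hcop.symm
  -- the conjugation exponent
  have hconjN : x⁻¹ * y * x ∈ zpowers y := by
    rw [← hNy]
    have := hNn.conj_mem y y1.2 x⁻¹
    simpa using this
  obtain ⟨k, hk⟩ := mem_zpowers_iff.mp hconjN
  set r0 : ℕ := (k % (m : ℤ)).toNat with hr0
  have hr0k : y ^ r0 = y ^ k := by
    have hnn : 0 ≤ k % (m : ℤ) := Int.emod_nonneg _ (by exact_mod_cast hm0.ne')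
    have h1 : y ^ k = y ^ (k % (m : ℤ)) := by
      rw [← hoy]; exact (zpow_mod_orderOf y k).symm
    rw [h1, ← zpow_natCast, hr0, Int.toNat_of_nonneg hnn]
  set r : ℕ := r0 + m with hr
  have hr1 : 1 ≤ r := by omega
  have hyr : y ^ r = y ^ k := by
    rw [hr, pow_add, hym, mul_one, hr0k]
  have hrel : x⁻¹ * y * x = y ^ r := by rw [hyr, hk]
  -- generation
  have hgen : Subgroup.closure ({x, y} : Set Γ) = ⊤ := by
    rw [eq_top_iff, ← hH.sup_eq_top, sup_le_iff]
    constructor
    · intro z hz
      obtain ⟨j, rfl⟩ := mem_zpowers_iff.mp ((hNy z).mp hz)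
      exact (Subgroup.closure _).zpow_mem (subset_closure (by simp)) j
    · intro z hz
      obtain ⟨j, rfl⟩ := mem_zpowers_iff.mp ((hHx z).mp hz)
      exact (Subgroup.closure _).zpow_mem (subset_closure (by simp)) j
  -- coprimality of `r - 1` and `m`
  have hcop1 : Nat.Coprime (r - 1) m := by
    set B : Subgroup Γ := zpowers (y ^ (r - 1)) with hB
    have hBN : B ≤ N := by
      rw [hB, zpowers_le]
      exact N.pow_mem y1.2 _
    have hBn : B.Normal := by
      constructor
      intro b hb g
      obtain ⟨j, rfl⟩ := mem_zpowers_iff.mp hb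
      have hg : g * y * g⁻¹ ∈ zpowers y := by
        rw [← hNy]; exact hNn.conj_mem y y1.2 g
      obtain ⟨l, hl⟩ := mem_zpowers_iff.mp hg
      have h1 : g * (y ^ (r - 1)) ^ j * g⁻¹ = (g * y * g⁻¹) ^ ((r - 1 : ℕ) * j : ℤ) := by
        rw [conj_zpow, zpow_mul, zpow_natCast]
      rw [h1, ← hl, ← zpow_mul, mul_comm l, mul_assoc, zpow_mul, zpow_natCast]
      exact B.zpow_mem (mem_zpowers _) _
    -- `x` and `y` commute modulo `B`
    have hxy : (QuotientGroup.mk' B x) * (QuotientGroup.mk' B y) =
        (QuotientGroup.mk' B y) * (QuotientGroup.mk' B x) := by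
      rw [← map_mul, ← map_mul]
      apply (QuotientGroup.eq).mpr
      -- (x y)⁻¹ (y x) = y⁻¹ x⁻¹ y x = y⁻¹ y^r = y^(r-1)
      have : (x * y)⁻¹ * (y * x) = y ^ (r - 1) := by
        have h1 : (x * y)⁻¹ * (y * x) = y⁻¹ * (x⁻¹ * y * x) := by group
        rw [h1, hrel]
        have : y ^ r = y * y ^ (r - 1) := by
          rw [← pow_succ']; congr 1; omega
        rw [this, inv_mul_cancel_left]
      rw [this]
      exact mem_zpowers _
    -- the quotient is commutative
    have hQtop : Subgroup.closure ({QuotientGroup.mk' B x, QuotientGroup.mk' B y} : Set (Γ ⧸ B)) = ⊤ := by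
      have h1 : (Subgroup.closure ({x, y} : Set Γ)).map (QuotientGroup.mk' B) = ⊤ := by
        rw [hgen, ← MonoidHom.range_eq_map]
        exact MonoidHom.range_eq_top.mpr (QuotientGroup.mk'_surjective B)
      rw [MonoidHom.map_closure] at h1
      rw [← h1]
      congr 1
      ext z
      simp [Set.image_pair]
    have hcomm : ∀ a b : Γ ⧸ B, a * b = b * a := by
      have hxc : QuotientGroup.mk' B x ∈ center (Γ ⧸ B) := by
        have hle : Subgroup.closure ({QuotientGroup.mk' B x, QuotientGroup.mk' B y} : Set (Γ ⧸ B)) ≤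
            centralizer {QuotientGroup.mk' B x} := by
          rw [closure_le]
          intro z hz
          rcases hz with hz | hz
          · rw [hz]
            exact mem_centralizer_iff.mpr fun h hh => by
              rw [Set.mem_singleton_iff] at hh; rw [hh]
          · rw [Set.mem_singleton_iff] at hz
            rw [hz]
            exact mem_centralizer_iff.mpr fun h hh => by
              rw [Set.mem_singleton_iff] at hh; rw [hh]; exact hxy
        rw [hQtop] at hle
        rw [mem_center_iff]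
        intro g
        have hg : g ∈ centralizer {QuotientGroup.mk' B x} := hle (mem_top g)
        exact (mem_centralizer_iff.mp hg _ rfl).symm
      have hyc : QuotientGroup.mk' B y ∈ center (Γ ⧸ B) := by
        have hle : Subgroup.closure ({QuotientGroup.mk' B x, QuotientGroup.mk' B y} : Set (Γ ⧸ B)) ≤
            centralizer {QuotientGroup.mk' B y} := by
          rw [closure_le]
          intro z hz
          rcases hz with hz | hz
          · rw [hz]
            exact mem_centralizer_iff.mpr fun h hh => by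
              rw [Set.mem_singleton_iff] at hh; rw [hh]; exact hxy.symm
          · rw [Set.mem_singleton_iff] at hz
            rw [hz]
            exact mem_centralizer_iff.mpr fun h hh => by
              rw [Set.mem_singleton_iff] at hh; rw [hh]
        rw [hQtop] at hle
        rw [mem_center_iff]
        intro g
        have hg : g ∈ centralizer {QuotientGroup.mk' B y} := hle (mem_top g)
        exact (mem_centralizer_iff.mp hg _ rfl).symm
      have hctop : center (Γ ⧸ B) = ⊤ := by
        rw [eq_top_iff, ← hQtop, closure_le]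
        intro z hz
        rcases hz with hz | hz
        · rw [hz]; exact hxc
        · rw [Set.mem_singleton_iff] at hz
          rw [hz]; exact hyc
      intro a b
      have : a ∈ center (Γ ⧸ B) := by rw [hctop]; trivial
      exact (mem_center_iff.mp this b).symm
    -- hence `N ≤ B`
    have hNB : N ≤ B := by
      rw [hN, _root_.commutator_def, Subgroup.commutator_le]
      intro a _ b _
      have h1 : QuotientGroup.mk' B (a * b * a⁻¹ * b⁻¹) = 1 := by
        rw [map_mul, map_mul, map_mul, map_inv, map_inv]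
        rw [hcomm (QuotientGroup.mk' B a) (QuotientGroup.mk' B b)]
        group
      rw [commutatorElement_def]
      exact (QuotientGroup.eq_one_iff _).mp h1
    have hyB : y ∈ B := hNB y1.2
    obtain ⟨j, hj⟩ := mem_zpowers_iff.mp hyB
    have h1 : y ^ (((r - 1 : ℕ) : ℤ) * j) = y ^ (1 : ℤ) := by
      rw [zpow_mul, zpow_natCast, hj, zpow_one]
    have h2 := (zpow_eq_zpow_iff_modEq.mp h1)
    rw [hoy] at h2
    -- (r-1) * j ≡ 1 mod m
    have h3 : IsCoprime (((r - 1 : ℕ) : ℤ)) (m : ℤ) := by
      obtain ⟨t, ht⟩ := h2.symm.dvd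
      refine ⟨j, -t, ?_⟩
      linarith
    exact Nat.isCoprime_iff_coprime.mp h3
  -- the congruence
  have hcong : r ^ (n / ∏ p ∈ n.primeFactors, p) % m = 1 % m := by
    set u : ZMod m := (r : ZMod m) with hu
    have hkey : ∀ j : ℕ, x ^ j * y = y * x ^ j → u ^ j = 1 := by
      intro j hj
      have h1 := zp_conj_pow hrel j
      have h2 : (x ^ j)⁻¹ * y * x ^ j = y := by
        rw [mul_assoc, ← hj, inv_mul_cancel_left]
      rw [h2] at h1
      have h3 : y ^ (r ^ j) = y ^ 1 := by rw [← h1, pow_one]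
      have h4 := pow_eq_pow_iff_modEq.mp h3
      rw [hoy] at h4
      rw [hu, ← Nat.cast_pow, ← Nat.cast_one (R := ZMod m)]
      exact (ZMod.natCast_eq_natCast_iff _ _ _).mpr h4
    set d := orderOf u with hd
    have hdn : d ∣ n := by
      rw [hd, orderOf_dvd_iff_pow_eq_one]
      apply hkey
      rw [hxn, one_mul, mul_one]
    have hdp : ∀ p ∈ n.primeFactors, d ∣ n / p := by
      intro p hp
      have hpp : p.Prime := Nat.prime_of_mem_primeFactors hp
      have hpn : p ∣ n := Nat.dvd_of_mem_primeFactors hp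
      rw [hd, orderOf_dvd_iff_pow_eq_one]
      apply hkey
      set s := x ^ (n / p) with hs
      have hsp : s ^ p = 1 := by
        rw [hs, ← pow_mul, Nat.div_mul_cancel hpn, hxn]
      have hsn : s * y * s⁻¹ ∈ zpowers y := by
        rw [← hNy]; exact hNn.conj_mem y y1.2 s
      exact hpq y s p hpp hsp hsn
    have hde := zp_dvd_div_rad hn0 hdn hdp
    have h1 : u ^ (n / ∏ p ∈ n.primeFactors, p) = 1 := orderOf_dvd_iff_pow_eq_one.mp hde
    rw [hu, ← Nat.cast_pow, ← Nat.cast_one (R := ZMod m)] at h1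
    exact (ZMod.natCast_eq_natCast_iff _ _ _).mp h1
  refine ⟨n, m, r, hn0, hm0, hcop1, hcopnm, hr1, hcong, ?_⟩
  -- the isomorphism
  let f : Fin 2 → Γ := ![x, y]
  have hf : ∀ w ∈ zpRels n m r, FreeGroup.lift f w = 1 := by
    intro w hw
    rcases hw with hw | hw | hw
    · rw [hw, map_pow, FreeGroup.lift_apply_of]
      exact hxn
    · rw [hw, map_pow, FreeGroup.lift_apply_of]
      exact hym
    · rw [Set.mem_singleton_iff] at hw
      rw [hw, map_mul, map_mul, map_mul, map_inv, map_inv, map_pow, FreeGroup.lift_apply_of,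
        FreeGroup.lift_apply_of]
      show x⁻¹ * y * x * (y ^ r)⁻¹ = 1
      rw [hrel, mul_inv_cancel]
  let φ : PresentedGroup (zpRels n m r) →* Γ := PresentedGroup.toGroup hf
  have hφ0 : φ (PresentedGroup.of 0) = x := PresentedGroup.toGroup.of hf
  have hφ1 : φ (PresentedGroup.of 1) = y := PresentedGroup.toGroup.of hf
  have hsurj : Function.Surjective φ := by
    rw [← MonoidHom.range_eq_top, eq_top_iff, ← hgen, closure_le]
    intro z hz
    rcases hz with hz | hz
    · rw [hz]; exact ⟨_, hφ0⟩
    · rw [Set.mem_singleton_iff] at hz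
      rw [hz]; exact ⟨_, hφ1⟩
  obtain ⟨hfin, hle⟩ := zp_card_le n m r hn0 hm0
  have hbij : Function.Bijective φ := by
    apply hsurj.bijective_of_nat_card_le
    rw [← hcard, mul_comm]
    exact hle
  exact ⟨(MulEquiv.ofBijective φ hbij).symm⟩

end Cfsg.Agent.Helper71
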